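import Cfsg.Agent.StdO8.Elem

/-!
The elementary abelian subgroups of order 128 of determinant one: two types.
-/

set_option autoImplicit false
set_option maxRecDepth 100000
set_option maxHeartbeats 1000000
set_option linter.unusedSectionVars false
set_option linter.unusedVariables false
set_option linter.style.haveILetI false

namespace Cfsg.Agent.StdO8

open Cfsg.Agent.Compute Matrix

/-- The type of the even signs of a frame. -/
def EvenFrame (E : Subgroup W) : Prop :=
  ∃ h : W, (∀ e ∈ E, ∃ d, Even (bits d) ∧ ((h * e * h⁻¹ : W) : Equiv.Perm (Fin 240)) = D d) ∧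
    ∀ d, Even (bits d) → ∃ e ∈ E, ((h * e * h⁻¹ : W) : Equiv.Perm (Fin 240)) = D d

/-- The type of the even signs of diagonal axes. -/
def EvenDiag (E : Subgroup W) : Prop :=
  ∃ h : W, (∀ e ∈ E, ∃ p ∈ diagWords, ((h * e * h⁻¹ : W) : Equiv.Perm (Fin 240)) = evalW p.2) ∧
    ∀ p ∈ diagWords, ∃ e ∈ E, ((h * e * h⁻¹ : W) : Equiv.Perm (Fin 240)) = evalW p.2

theorem diag_len : diagWords.length = 128 := by decide +kernel

theorem split_eight {E : Subgroup W} (S : Split (chi E)) (hsq : ∀ e ∈ E, e * e = 1)
    (hdet : ∀ e ∈ E, (mat ((e : W) : Equiv.Perm (Fin 240))).det = 1) (hcard : 128 ≤ Nat.card E) :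
    Fintype.card S.ι = 8 := by
  classical
  by_contra hne
  have hc := S.card_E_le (chi_injective E)
  have hle := S.card_le
  have h7 : Fintype.card S.ι = 7 := by
    by_contra h
    have : 2 ^ Fintype.card S.ι ≤ 2 ^ 6 := Nat.pow_le_pow_right (by norm_num) (by omega)
    omega
  obtain ⟨i, hi⟩ : ∃ i, rk (S.P i) = 1 := by
    by_contra hcon
    push Not at hcon
    have h2 : ∑ _i : S.ι, 2 ≤ ∑ i, rk (S.P i) := Finset.sum_le_sum fun i _ => by
      have := rk_pos (S.ne i); have := hcon i; omega
    rw [S.rk_sum, Finset.sum_const, Finset.card_univ, h7, smul_eq_mul] at h2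
    omega
  haveI : Fintype E := Fintype.ofFinite E
  have hbij : Function.Bijective S.sgn := by
    refine (Fintype.bijective_iff_injective_and_card _).2 ⟨S.sgn_injective (chi_injective E), ?_⟩
    rw [h7] at hc
    rw [Fintype.card_fun, Fintype.card_bool, h7, ← Nat.card_eq_fintype_card]
    omega
  obtain ⟨e, he⟩ := hbij.2 fun j => decide (j = i)
  have ht : Matrix.trace (mat ((e.1 : W) : Equiv.Perm (Fin 240))) = 6 := by
    rw [← chi_eq, S.trace_eq, he]
    have h : ∀ j, (cond (decide (j = i)) (-1 : ℚ) 1) * (rk (S.P j) : ℚ) =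
        (rk (S.P j) : ℚ) - if j = i then 2 else 0 := fun j => by
      by_cases hj : j = i
      · subst hj; simp [hi]; norm_num
      · simp [hj]
    rw [Finset.sum_congr rfl fun j _ => h j, Finset.sum_sub_distrib, Finset.sum_ite_eq' Finset.univ i,
      if_pos (Finset.mem_univ _), ← Nat.cast_sum, S.rk_sum]
    norm_num
  obtain ⟨a, ha⟩ := refl_of_trace_six e.1.2 (congrArg Subtype.val (hsq _ e.2)) ht
  have h := hdet _ e.2
  rw [ha, det_refl] at h
  norm_num at h

theorem ev_vec_zero {P : Matrix (Fin 8) (Fin 8) ℚ} {x : Fin 240} {v : Fin 8 → ℚ} (h : P *ᵥ v = -(P *ᵥ v)) :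
    P *ᵥ v = 0 := funext fun k => by
  have := congrFun h k
  simp only [Pi.neg_apply] at this
  simp only [Pi.zero_apply]
  linarith

set_option synthInstance.maxSize 4000 in
theorem last_pair : ∀ a b c u v : Fin 8, b ≠ a → b ≠ other a → c ≠ a → c ≠ other a → c ≠ b → c ≠ other b →
    u ≠ a → u ≠ other a → u ≠ b → u ≠ other b → u ≠ c → u ≠ other c →
    v ≠ a → v ≠ other a → v ≠ b → v ≠ other b → v ≠ c → v ≠ other c → v ≠ u → v = other u := by
  decide +kernel

/-- A group of order 128 of determinant one. -/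
theorem even128 (E : Subgroup W) (hsq : ∀ e ∈ E, e * e = 1)
    (hdet : ∀ e ∈ E, (mat ((e : W) : Equiv.Perm (Fin 240))).det = 1) (hcard : 128 ≤ Nat.card E) :
    EvenFrame E ∨ EvenDiag E := by
  classical
  haveI : Fintype E := Fintype.ofFinite E
  obtain ⟨S⟩ := exists_chi_split E hsq
  have h8 := split_eight S hsq hdet hcard
  let ε : Fin 8 ≃ S.ι := (Fintype.equivFinOfCardEq h8).symm
  have hcomm : ∀ x y : E, x * y = y * x := fun x y => by
    have h := hsq _ (mul_mem x.2 y.2)
    have he := inv_eq_of_mul_eq_one_right (hsq _ x.2)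
    have hf := inv_eq_of_mul_eq_one_right (hsq _ y.2)
    exact Subtype.ext (by
      rw [Subgroup.coe_mul, Subgroup.coe_mul, ← inv_eq_of_mul_eq_one_right h, _root_.mul_inv_rev, he, hf])
  let P : E → Equiv.Perm (Fin 240) := fun e => ((e.1 : W) : Equiv.Perm (Fin 240))
  have hPm : ∀ e, P e ∈ W := fun e => e.1.2
  have hP2 : ∀ e, P e * P e = 1 := fun e => congrArg Subtype.val (hsq _ e.2)
  have hPc : ∀ e f, P e * P f = P f * P e := fun e f => congrArg (fun z : E => ((z.1 : W) : Equiv.Perm (Fin 240))) (hcomm e f)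
  -- the flips as functions
  let f : E → Fin 8 → Bool := fun e k => S.sgn e (ε k)
  have hf : Function.Injective f := fun e e' h =>
    S.sgn_injective (chi_injective E) (funext fun i => by simpa [f] using congrFun h (ε.symm i))
  have hftr : ∀ e, Matrix.trace (mat (P e)) = 8 - 2 * ((Finset.univ.filter fun k => f e k = true).card : ℚ) := by
    intro e
    rw [trace_flip S h8 e]
    congr 3
    exact (Finset.card_equiv ε (fun k => by simp [f])).symm
  have heven : ∀ e, Even (Finset.univ.filter fun k => f e k = true).card := by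
    intro e
    obtain ⟨h, hh, d, -, ht, hd⟩ := diag_facts (hPm e) (hP2 e)
    rw [hdet _ e.2] at hd
    have hb : bits d = (Finset.univ.filter fun k => f e k = true).card :=
      Nat.cast_injective (R := ℚ) (by rw [hftr] at ht; linarith)
    rw [← hb]
    exact (neg_one_pow_eq_one_iff_even (by norm_num : (-1 : ℚ) ≠ 1)).1 hd.symm
  have hsurj : ∀ g : Fin 8 → Bool, Even (Finset.univ.filter fun k => g k = true).card → ∃ e, f e = g := by
    intro g hg
    let f' : E → {g : Fin 8 → Bool // Even (Finset.univ.filter fun i => g i = true).card} := fun e => ⟨f e, heven e⟩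
    have hb : Function.Bijective f' := (Fintype.bijective_iff_injective_and_card f').2
      ⟨fun a b h => hf (congrArg Subtype.val h), le_antisymm
        (Fintype.card_le_of_injective f' fun a b h => hf (congrArg Subtype.val h))
        (by rw [← Nat.card_eq_fintype_card, ← Nat.card_eq_fintype_card, even_card]; exact hcard)⟩
    obtain ⟨e, he⟩ := hb.2 ⟨g, hg⟩
    exact ⟨e, congrArg Subtype.val he⟩
  -- a flipped vector lives on the flipped axes
  have hzero : ∀ e x, P e x = negP x → ∀ k, f e k = false → S.P (ε k) *ᵥ vec x = 0 := by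
    intro e x hx k hk
    refine ev_vec_zero (x := x) ?_
    have h1 : chi E e * S.P (ε k) = S.P (ε k) := by
      have := S.act e (ε k); rwa [show S.sgn e (ε k) = false from hk, cond_false, one_smul] at this
    have hc := S.comm (chi E e) (fun e' => by rw [chi, chi, ← map_mul, ← map_mul]; exact congrArg rho (congrArg Subtype.val (hcomm e e'))) (ε k)
    have h2 : mat (P e) *ᵥ vec x = -vec x := by
      rw [mat_mulVec (hPm e), hx]; funext i; simp [vec, co_negP]
    conv_lhs => rw [← h1, hc, ← Matrix.mulVec_mulVec, chi_eq, show mat ((e.1 : W) : Equiv.Perm (Fin 240)) = mat (P e) from rfl,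
      h2, Matrix.mulVec_neg]
  have hfix : ∀ e x, (∀ k, f e k = true → S.P (ε k) *ᵥ vec x = 0) → P e x = x := by
    intro e x hx
    have h1 : mat (P e) *ᵥ vec x = vec x := by
      rw [show mat (P e) = chi E e from rfl, S.eq_sum e]
      conv_rhs => rw [← Matrix.one_mulVec (vec x), ← S.sum]
      rw [Matrix.sum_mulVec, Matrix.sum_mulVec]
      refine Finset.sum_congr rfl fun i _ => ?_
      rw [Matrix.smul_mulVec]
      cases hs : S.sgn e i
      · simp
      · have := hx (ε.symm i) (by simpa [f] using hs)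
        rw [Equiv.apply_symm_apply] at this
        simp [this]
    rw [mat_mulVec (hPm e)] at h1
    refine co_injective (funext fun i => ?_)
    have := congrFun h1 i
    simp only [vec] at this
    exact_mod_cast this
  -- the four disjoint pairs
  let pr : Fin 8 → Fin 8 → Bool := fun i k => decide (k = i ∨ k = other i)
  have hpr : ∀ i, Even (Finset.univ.filter fun k => pr i k = true).card := by decide
  choose ep hep using fun i => hsurj (pr i) (hpr i)
  have hroots : ∀ i, ∃ a b, ip a b = 0 ∧ P (ep i) = rprod [a, b] ∧ P (ep i) a = negP a ∧ P (ep i) b = negP b := by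
    intro i
    have hcnt : ∀ i, (Finset.univ.filter fun k => pr i k = true).card = 2 := by decide
    obtain ⟨l, hl, hp, e, hn⟩ := negated_of_bits (hPm (ep i)) (hP2 (ep i)) (n := 2) (by rw [hftr, hep, hcnt])
    obtain ⟨a, b, rfl⟩ := List.length_eq_two.1 hl
    exact ⟨a, b, List.rel_of_pairwise_cons hp (by simp), e, hn a (by simp), hn b (by simp)⟩
  choose ra rb hab hPab hna hnb using hroots
  let r : Fin 8 → Fin 240 := fun i => if (i : ℕ) % 2 = 0 then ra i else rb (other i)
  have hbase : ∀ i : Fin 8, ∃ p : Fin 8, (p : ℕ) % 2 = 0 ∧ (p = i ∨ p = other i) ∧ P (ep p) (r i) = negP (r i) := by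
    intro i
    by_cases h : (i : ℕ) % 2 = 0
    · exact ⟨i, h, .inl rfl, by simp only [r, if_pos h]; exact hna i⟩
    · refine ⟨other i, ?_, .inr rfl, by simp only [r, if_neg h]; exact hnb _⟩
      have : ∀ i : Fin 8, (i : ℕ) % 2 ≠ 0 → ((other i : Fin 8) : ℕ) % 2 = 0 := by decide
      exact this i h
  have hsupp : ∀ i k, k ≠ i → k ≠ other i → S.P (ε k) *ᵥ vec (r i) = 0 := by
    intro i k h1 h2
    obtain ⟨p, -, hp, hn⟩ := hbase i
    refine hzero _ _ hn k ?_
    rw [hep]
    simp only [pr, decide_eq_false_iff_not, not_or]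
    rcases hp with rfl | rfl
    · exact ⟨h1, h2⟩
    · exact ⟨h2, by rwa [other_other]⟩
  have hperp : ∀ i j, i ≠ j → ip (r i) (r j) = 0 := by
    intro i j hij
    by_cases h : j = other i
    · subst h
      by_cases hm : (i : ℕ) % 2 = 0
      · have : ∀ i : Fin 8, (i : ℕ) % 2 = 0 → ¬ ((other i : Fin 8) : ℕ) % 2 = 0 := by decide
        simp only [r, if_pos hm, if_neg (this i hm), other_other]
        exact hab i
      · have : ∀ i : Fin 8, ¬ (i : ℕ) % 2 = 0 → ((other i : Fin 8) : ℕ) % 2 = 0 := by decide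
        simp only [r, if_neg hm, if_pos (this i hm)]
        rw [ip_comm]; exact hab _
    · obtain ⟨p, -, hp, hn⟩ := hbase i
      have hfj : P (ep p) (r j) = r j := hfix _ _ fun k hk => by
        rw [hep] at hk
        simp only [pr, decide_eq_true_eq] at hk
        have hk' : k = i ∨ k = other i := by
          rcases hp with rfl | rfl
          · exact hk
          · rw [other_other] at hk; exact hk.symm
        refine hsupp j k ?_ ?_
        · rintro rfl; rcases hk' with e | e
          exacts [hij e.symm, h e]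
        · rintro rfl; rcases hk' with e | e
          exacts [h (by rw [← e, other_other]), hij (by have := congrArg other e; rwa [other_other, other_other, eq_comm] at this)]
      have h0 := mem_W.1 (hPm (ep p)) (r i) (r j)
      rw [hn, hfj, ip_negP_left] at h0
      omega
  obtain ⟨g, hg, hj⟩ := frame_std r hperp
  choose j hj using hj
  have hjinj : Function.Injective j := fun x y h => by
    by_contra hne
    have h0 := hperp x y hne
    rw [← mem_W.1 hg] at h0
    rcases ln_eq ((hj x).trans (h ▸ (hj y).symm)) with e' | e'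
    · rw [e', ip_self] at h0; omega
    · rw [e', ip_negP_left, ip_self] at h0; omega
  have hjsurj := Finite.injective_iff_surjective.1 hjinj
  let Q : E → Equiv.Perm (Fin 240) := fun e => g * P e * g⁻¹
  have hQm : ∀ e, Q e ∈ W := fun e => mul_mem (mul_mem hg (hPm e)) (inv_mem hg)
  have hQ2 : ∀ e, Q e * Q e = 1 := fun e => by
    show g * P e * g⁻¹ * (g * P e * g⁻¹) = 1
    rw [show g * P e * g⁻¹ * (g * P e * g⁻¹) = g * (P e * P e) * g⁻¹ by group, hP2]; group
  have hQc : ∀ e e' x, Q e (Q e' x) = Q e' (Q e x) := fun e e' x => by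
    rw [← Equiv.Perm.mul_apply, ← Equiv.Perm.mul_apply]
    congr 1
    show g * P e * g⁻¹ * (g * P e' * g⁻¹) = g * P e' * g⁻¹ * (g * P e * g⁻¹)
    rw [show g * P e * g⁻¹ * (g * P e' * g⁻¹) = g * (P e * P e') * g⁻¹ by group, hPc]; group
  have hQr : ∀ e i, Q e (g (r i)) = g (P e (r i)) := fun e i => by simp [Q, Equiv.Perm.mul_apply]
  have hev : ∀ i, ev (j i) = g (r i) ∨ ev (j i) = negP (g (r i)) := fun i =>
    (ln_eq ((hj i).trans (ln_ev _).symm)).elim (fun e => .inl e.symm) fun e => .inr (by rw [e, negP_negP])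
  have hQev : ∀ e i, (P e (r i) = r i → Q e (ev (j i)) = ev (j i)) ∧
      (P e (r i) = negP (r i) → Q e (ev (j i)) = negP (ev (j i))) := fun e i => by
    rcases hev i with h | h <;> refine ⟨fun hx => ?_, fun hx => ?_⟩ <;>
      simp only [h, negP_map (hQm e), hQr, hx, negP_map hg]
  -- each element preserves each pair
  have hline : ∀ e i, ln (Q e (ev (j i))) = ax (j i) ∨ ln (Q e (ev (j i))) = ax (j (other i)) := by
    intro e i
    obtain ⟨p, -, hp, hn⟩ := hbase i
    have h1 : Q (ep p) (ev (j i)) = negP (ev (j i)) := (hQev _ i).2 hn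
    have h2 : Q (ep p) (Q e (ev (j i))) = negP (Q e (ev (j i))) := by
      rw [hQc, h1, negP_map (hQm e)]
    refine line_of_supp fun m hm1 hm2 => ?_
    obtain ⟨k, rfl⟩ := hjsurj m
    have hk1 : k ≠ i := fun e => hm1 (by rw [e])
    have hk2 : k ≠ other i := fun e => hm2 (by rw [e])
    have hfk : Q (ep p) (ev (j k)) = ev (j k) := (hQev _ k).1 (hfix _ _ fun q hq => by
      rw [hep] at hq
      simp only [pr, decide_eq_true_eq] at hq
      have hq' : q = i ∨ q = other i := by
        rcases hp with rfl | rfl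
        · exact hq
        · rw [other_other] at hq; exact hq.symm
      refine hsupp k q ?_ ?_
      · rintro rfl; rcases hq' with e | e
        exacts [hk1 e, hk2 e]
      · rintro rfl; rcases hq' with e | e
        exacts [hk2 (by rw [← e, other_other]), hk1 (by have := congrArg other e; rwa [other_other, other_other] at this)])
    rw [← ip_ev, ← mem_W.1 (hQm (ep p)), h2, hfk, ip_negP_left]
    have := mem_W.1 (hQm (ep p)) (Q e (ev (j i))) (ev (j k))
    rw [h2, hfk, ip_negP_left] at this
    omega
  have hmono : ∀ e, IsMono (Q e) := fun e x => by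
    obtain ⟨i, rfl⟩ := hjsurj x
    rcases hline e i with h | h
    exacts [⟨_, h⟩, ⟨_, h⟩]
  by_cases hall : ∀ e i, ln (Q e (ev (j i))) = ax (j i)
  · left
    refine ⟨⟨g, hg⟩, ?_⟩
    have hD : ∀ e : E, ∃ d, Even (bits d) ∧ Q e = D d := fun e => by
      obtain ⟨d, hd⟩ := eq_D_of_lines (hQm e) fun x => by obtain ⟨i, rfl⟩ := hjsurj x; exact hall e i
      have h := det_D d
      rw [← hd, det_conj hg (hPm e), hdet _ e.2] at h
      exact ⟨d, (neg_one_pow_eq_one_iff_even (by norm_num : (-1 : ℚ) ≠ 1)).1 h.symm, hd⟩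
    refine ⟨fun e he => hD ⟨e, he⟩, fun d hd => ?_⟩
    choose dd hdd1 hdd2 using hD
    let F : E → (Finset.univ.filter fun d : Fin 256 =>
        decide ((((List.range 8).filter fun i => (d : ℕ).testBit i).length) % 2 = 0) = true) :=
      fun e => ⟨dd e, by rw [Finset.mem_filter]; exact ⟨Finset.mem_univ _, by
        rw [decide_eq_true_eq, ← bits_eq, ← Nat.even_iff]; exact hdd1 e⟩⟩
    have hFi : Function.Injective F := fun a b h => Subtype.ext (Subtype.ext (by
      have := (hdd2 a).trans ((congrArg D (congrArg Subtype.val h)).trans (hdd2 b).symm)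
      exact mul_left_cancel (mul_right_cancel this)))
    have hb := (Fintype.bijective_iff_injective_and_card F).2 ⟨hFi, le_antisymm (Fintype.card_le_of_injective F hFi)
      (by rw [Fintype.card_coe, even_mask_card, ← Nat.card_eq_fintype_card]; exact hcard)⟩
    obtain ⟨e, he⟩ := hb.2 ⟨d, by
      rw [Finset.mem_filter]; exact ⟨Finset.mem_univ _, by rw [decide_eq_true_eq, ← bits_eq, ← Nat.even_iff]; exact hd⟩⟩
    refine ⟨e.1, e.2, ?_⟩
    have hd' : dd e = d := congrArg Subtype.val he
    subst hd'
    exact hdd2 e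
  right
  push Not at hall
  obtain ⟨e₀, i₀, h₀⟩ := hall
  -- swaps
  let Sw : Fin 8 → Prop := fun i => ∃ e, ln (Q e (ev (j i))) = ax (j (other i))
  have hjo : ∀ i, j (other i) ≠ j i := fun i e => other_ne i (hjinj e)
  have hQQ : ∀ e x, Q e (Q e x) = x := fun e x => by rw [← Equiv.Perm.mul_apply, hQ2, Equiv.Perm.one_apply]
  have swap_back : ∀ e i, ln (Q e (ev (j i))) = ax (j (other i)) → ln (Q e (ev (j (other i)))) = ax (j i) := by
    intro e i h
    have := ln_map (hQm e) (h.trans (ln_ev _).symm)
    rw [hQQ, ln_ev] at this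
    exact this.symm
  -- a swapped pair has no mixed element
  have nomix : ∀ i, Sw i → ∀ e, ln (Q e (ev (j i))) = ax (j i) →
      (Q e (ev (j i)) = ev (j i) ∧ Q e (ev (j (other i))) = ev (j (other i))) ∨
        (Q e (ev (j i)) = negP (ev (j i)) ∧ Q e (ev (j (other i))) = negP (ev (j (other i)))) := by
    rintro i ⟨s, hs⟩ e he
    rcases ln_eq (hs.trans (ln_ev _).symm) with hs' | hs' <;> rcases ln_eq (he.trans (ln_ev _).symm) with he' | he'
    · left; refine ⟨he', ?_⟩; rw [← hs', hQc, he']
    · right; refine ⟨he', ?_⟩; rw [← hs', hQc, he', negP_map (hQm s)]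
    · left; refine ⟨he', ?_⟩
      rw [show ev (j (other i)) = negP (Q s (ev (j i))) by rw [hs', negP_negP], negP_map (hQm e), hQc, he']
    · right; refine ⟨he', ?_⟩
      rw [show ev (j (other i)) = negP (Q s (ev (j i))) by rw [hs', negP_negP], negP_map (hQm e), hQc, he',
        negP_map (hQm s)]
  let p₀ := i₀
  have hp₀ : Sw p₀ := ⟨e₀, (hline e₀ i₀).resolve_left h₀⟩
  have main : ∀ q, q ≠ p₀ → q ≠ other p₀ →
      Sw q ∧ comp3 (j p₀) (j (other p₀)) (j q) = j (other q) := by
    intro q hq1 hq2
    have hev2 : Even (Finset.univ.filter fun k => decide (k = p₀ ∨ k = q) = true).card := by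
      rw [show (Finset.univ.filter fun k => decide (k = p₀ ∨ k = q) = true) = {p₀, q} by ext; simp,
        Finset.card_pair hq1.symm]
      exact even_two
    obtain ⟨x, hx⟩ := hsurj _ hev2
    have hother : ∀ k, k ≠ p₀ → k ≠ other p₀ → k ≠ q → k ≠ other q → Q x (ev (j k)) = ev (j k) := by
      intro k k1 k2 k3 k4
      refine (hQev _ k).1 (hfix _ _ fun m hm => ?_)
      rw [hx] at hm
      simp only [decide_eq_true_eq] at hm
      refine hsupp k m ?_ ?_
      · rintro rfl; rcases hm with e | e
        exacts [k1 e, k3 e]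
      · rintro rfl; rcases hm with e | e
        exacts [k2 (by rw [← e, other_other]), k4 (by rw [← e, other_other])]
    have hswap : ln (Q x (ev (j p₀))) = ax (j (other p₀)) := by
      refine (hline x p₀).resolve_left fun hx0 => ?_
      rcases nomix p₀ hp₀ x hx0 with ⟨e1, e2⟩ | ⟨e1, e2⟩
      all_goals
        refine rank_one_no_pair (P := S.P (ε (if Q x (ev (j p₀)) = ev (j p₀) then other p₀ else p₀)))
          (S.rk_one h8 _) (x := r p₀) (y := r (other p₀)) ?_ ?_ (hperp _ _ (other_ne p₀).symm)
      all_goals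
        have back : ∀ i, (Q x (ev (j i)) = ev (j i) → P x (r i) = r i) ∧
            (Q x (ev (j i)) = negP (ev (j i)) → P x (r i) = negP (r i)) := fun i => by
          rcases hev i with h | h <;> refine ⟨fun hh => ?_, fun hh => ?_⟩ <;>
            simp only [h, negP_map (hQm x), hQr, negP_negP] at hh <;>
            first
              | exact g.injective hh
              | exact g.injective (by rw [negP_map hg]; exact hh)
              | exact g.injective (by have := congrArg negP hh; rwa [negP_negP, negP_negP] at this)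
              | exact g.injective (by rw [negP_map hg]; have := congrArg negP hh; rwa [negP_negP] at this)
        have expand : ∀ (v : Fin 8 → ℚ) (k₀ : Fin 8), (∀ k, k ≠ k₀ → S.P (ε k) *ᵥ v = 0) → S.P (ε k₀) *ᵥ v = v := by
          intro v k₀ hv
          conv_rhs => rw [← Matrix.one_mulVec v, ← S.sum, Matrix.sum_mulVec]
          rw [Finset.sum_eq_single (ε k₀)]
          · intro b _ hb
            have := hv (ε.symm b) (fun e => hb (by rw [← e, Equiv.apply_symm_apply]))
            rwa [Equiv.apply_symm_apply] at this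
          · exact fun h => absurd (Finset.mem_univ _) h
        have hfp : f x p₀ = true := by rw [hx]; simp
        have hfo : f x (other p₀) = false := by
          rw [hx]; simp only [decide_eq_false_iff_not, not_or]
          exact ⟨other_ne p₀, fun e => hq2 e.symm⟩
      · rw [if_pos e1]
        refine expand _ _ fun k hk => ?_
        by_cases hk' : k = p₀
        · subst hk'
          have hz : S.P (ε p₀) *ᵥ vec (r p₀) = -(S.P (ε p₀) *ᵥ vec (r p₀)) := by
            have h1 : chi E x * S.P (ε p₀) = -S.P (ε p₀) := by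
              have := S.act x (ε p₀); rwa [show S.sgn x (ε p₀) = true from hfp, cond_true, neg_one_smul] at this
            have hc := S.comm (chi E x) (fun e' => by rw [chi, chi, ← map_mul, ← map_mul]; exact congrArg rho (congrArg Subtype.val (hcomm x e'))) (ε p₀)
            have h2 : chi E x *ᵥ vec (r p₀) = vec (r p₀) := by
              rw [chi_eq]; exact (mat_mulVec (hPm x) _).trans (congrArg vec ((back p₀).1 e1))
            calc S.P (ε p₀) *ᵥ vec (r p₀) = (S.P (ε p₀) * chi E x) *ᵥ vec (r p₀) := by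
                  rw [← Matrix.mulVec_mulVec, h2]
              _ = _ := by rw [← hc, h1, Matrix.neg_mulVec]
          exact ev_vec_zero (x := r p₀) hz
        · exact hsupp p₀ k hk' hk
      · rw [if_pos e1]
        refine expand _ _ fun k hk => ?_
        by_cases hk' : k = p₀
        · subst hk'
          have hz : S.P (ε p₀) *ᵥ vec (r (other p₀)) = -(S.P (ε p₀) *ᵥ vec (r (other p₀))) := by
            have h1 : chi E x * S.P (ε p₀) = -S.P (ε p₀) := by
              have := S.act x (ε p₀); rwa [show S.sgn x (ε p₀) = true from hfp, cond_true, neg_one_smul] at this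
            have hc := S.comm (chi E x) (fun e' => by rw [chi, chi, ← map_mul, ← map_mul]; exact congrArg rho (congrArg Subtype.val (hcomm x e'))) (ε p₀)
            have h2 : chi E x *ᵥ vec (r (other p₀)) = vec (r (other p₀)) := by
              rw [chi_eq]; exact (mat_mulVec (hPm x) _).trans (congrArg vec ((back (other p₀)).1 e2))
            calc S.P (ε p₀) *ᵥ vec (r (other p₀)) = (S.P (ε p₀) * chi E x) *ᵥ vec (r (other p₀)) := by
                  rw [← Matrix.mulVec_mulVec, h2]
              _ = _ := by rw [← hc, h1, Matrix.neg_mulVec]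
          exact ev_vec_zero (x := r p₀) hz
        · exact hsupp (other p₀) k hk (by rwa [other_other])
      · rw [if_neg (fun e => negP_ne _ (e1.symm.trans e))]
        refine expand _ _ fun k hk => ?_
        by_cases hk' : k = other p₀
        · subst hk'; exact hzero x _ ((back p₀).2 e1) _ hfo
        · exact hsupp p₀ k hk hk'
      · rw [if_neg (fun e => negP_ne _ (e1.symm.trans e))]
        refine expand _ _ fun k hk => ?_
        by_cases hk' : k = other p₀
        · subst hk'; exact hzero x _ ((back (other p₀)).2 e2) _ hfo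
        · exact hsupp (other p₀) k hk' (by rwa [other_other])
    obtain ⟨t, ht⟩ := mono_affine (hQm x) (hmono x)
    have hinv : ∀ i, aff t.1 (aff t.1 i) = i := fun i => ax_injective (by
      rw [← ht, ← ln_map (hQm x) ((ht i).trans (ln_ev _).symm), hQQ, ln_ev])
    have a0 : aff t.1 (j p₀) = j (other p₀) := ax_injective ((ht _).symm.trans hswap)
    have a0' : aff t.1 (j (other p₀)) = j p₀ := ax_injective ((ht _).symm.trans (swap_back _ _ hswap))
    have afix : ∀ k, k ≠ p₀ → k ≠ other p₀ → k ≠ q → k ≠ other q → aff t.1 (j k) = j k := fun k k1 k2 k3 k4 =>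
      ax_injective ((ht _).symm.trans (by rw [hother k k1 k2 k3 k4, ln_ev]))
    have hq : aff t.1 (j q) = j (other q) := by
      rcases hline x q with h | h
      · exfalso
        have hq' : aff t.1 (j q) = j q := ax_injective ((ht _).symm.trans h)
        have hqo : aff t.1 (j (other q)) = j (other q) := by
          rcases hline x (other q) with h' | h'
          · exact ax_injective ((ht _).symm.trans h')
          · rw [other_other] at h'
            have e := ax_injective ((ht _).symm.trans h')
            rw [← hq'] at e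
            exact (other_ne q (hjinj (by have := congrArg (aff t.1) e; rwa [hinv, hinv] at this))).elim
        obtain ⟨i, k, n1, n2, n3, n4, -⟩ := exists_cycles t hinv (i₀ := j p₀) (by rw [a0]; exact hjo p₀)
        have moved : ∀ m, aff t.1 m ≠ m → m = j p₀ ∨ m = j (other p₀) := fun m hm => by
          obtain ⟨u, rfl⟩ := hjsurj m
          by_contra hc
          simp only [not_or] at hc
          by_cases u3 : u = q
          · exact hm (u3 ▸ hq')
          by_cases u4 : u = other q
          · exact hm (u4 ▸ hqo)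
          exact hm (afix u (fun e => hc.1 (e ▸ rfl)) (fun e => hc.2 (e ▸ rfl)) u3 u4)
        rcases moved i n1 with rfl | rfl <;> rcases moved k n4 with rfl | rfl
        · exact n2 rfl
        · exact n3 a0.symm
        · exact n3 a0'.symm
        · exact n2 rfl
      · exact ax_injective ((ht _).symm.trans h)
    refine ⟨⟨x, by rw [ht, hq]⟩, ?_⟩
    have hgoal := two_cycles_quad t hinv (i := j p₀) (k := j q) (by rw [a0]; exact hjo p₀) (hjinj.ne hq1)
      (by rw [a0]; exact hjinj.ne hq2) (by rw [hq]; exact hjo q) (fun m m1 m2 m3 m4 => by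
        obtain ⟨u, rfl⟩ := hjsurj m
        exact afix u (fun e => m1 (e ▸ rfl)) (fun e => m3 (by rw [a0, e])) (fun e => m2 (e ▸ rfl))
          (fun e => m4 (by rw [hq, e])))
    rwa [a0, hq] at hgoal
  have hSw : ∀ q, Sw q := by
    intro q
    by_cases h1 : q = p₀
    · exact h1 ▸ hp₀
    by_cases h2 : q = other p₀
    · subst h2; exact ⟨e₀, by rw [other_other]; exact swap_back _ _ ((hline e₀ i₀).resolve_left h₀)⟩
    exact (main q h1 h2).1
  -- reorder so that the first pair and two others are standard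
  obtain ⟨q₁, hq₁, hq₁'⟩ : ∃ q, q ≠ p₀ ∧ q ≠ other p₀ := by
    have : ∀ p : Fin 8, ∃ q, q ≠ p ∧ q ≠ other p := by decide
    exact this p₀
  obtain ⟨q₂, hq₂, hq₂', hq₂a, hq₂b⟩ : ∃ q, q ≠ p₀ ∧ q ≠ other p₀ ∧ q ≠ q₁ ∧ q ≠ other q₁ := by
    have : ∀ p r : Fin 8, ∃ q, q ≠ p ∧ q ≠ other p ∧ q ≠ r ∧ q ≠ other r := by decide
    exact this p₀ q₁
  have c1 := (main q₁ hq₁ hq₁').2
  have c2 := (main q₂ hq₂ hq₂').2
  have hgood : Good (j p₀, j (other p₀), j q₁, j q₂) := good_iff.2
    ⟨(hjo p₀).symm, hjinj.ne hq₁.symm, hjinj.ne hq₁'.symm, hjinj.ne hq₂, hjinj.ne hq₂', hjinj.ne hq₂a,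
      by rw [c1]; exact hjinj.ne hq₂b⟩
  obtain ⟨m, hm, hmt⟩ := exists_mono ⟨_, hgood⟩
  let J : Fin 8 → Fin 8 := aff (j p₀, j (other p₀), j q₁, j q₂)
  have hJinj : Function.Injective J := fun a b h => ln_ev_injective hm (by rw [hmt, hmt]; exact congrArg ax h)
  have J3 : J 3 = j (other q₁) := c1
  have J5 : J 5 = j (other q₂) := c2
  -- corresponding pairs
  have hpair : ∀ x, ∃ i, J x = j i ∧ J (other x) = j (other i) := by
    intro x
    have r0 : J 0 = j p₀ ∧ J (other 0) = j (other p₀) := ⟨rfl, rfl⟩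
    have r2 : J 2 = j q₁ ∧ J (other 2) = j (other q₁) := ⟨rfl, J3⟩
    have r4 : J 4 = j q₂ ∧ J (other 4) = j (other q₂) := ⟨rfl, J5⟩
    obtain ⟨u, hu⟩ := hjsurj (J 6)
    have h7 : J (other 6) = j (other u) := by
      obtain ⟨v, hv⟩ := hjsurj (J (other 6))
      rw [← hv]; congr 1
      have nu : ∀ y : Fin 8, y ≠ 6 → ∀ w, J y = j w → u ≠ w := fun y hy w hw e => hy (hJinj (by rw [hw, ← e, hu]))
      have nv : ∀ y : Fin 8, y ≠ other 6 → ∀ w, J y = j w → v ≠ w := fun y hy w hw e => hy (hJinj (by rw [hw, ← e, hv]))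
      exact last_pair p₀ q₁ q₂ u v hq₁ hq₁' hq₂ hq₂' hq₂a hq₂b
        (nu 0 (by decide) _ r0.1) (nu (other 0) (by decide) _ r0.2) (nu 2 (by decide) _ r2.1)
        (nu (other 2) (by decide) _ r2.2) (nu 4 (by decide) _ r4.1) (nu (other 4) (by decide) _ r4.2)
        (nv 0 (by decide) _ r0.1) (nv (other 0) (by decide) _ r0.2) (nv 2 (by decide) _ r2.1)
        (nv (other 2) (by decide) _ r2.2) (nv 4 (by decide) _ r4.1) (nv (other 4) (by decide) _ r4.2)
        (nv 6 (by decide) _ hu.symm)
    have cases : ∀ x : Fin 8, x = 0 ∨ x = other 0 ∨ x = 2 ∨ x = other 2 ∨ x = 4 ∨ x = other 4 ∨ x = 6 ∨ x = other 6 := by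
      decide
    rcases cases x with rfl | rfl | rfl | rfl | rfl | rfl | rfl | rfl
    · exact ⟨p₀, r0⟩
    · exact ⟨other p₀, r0.2, by rw [other_other, other_other]; exact r0.1⟩
    · exact ⟨q₁, r2⟩
    · exact ⟨other q₁, r2.2, by rw [other_other, other_other]; exact r2.1⟩
    · exact ⟨q₂, r4⟩
    · exact ⟨other q₂, r4.2, by rw [other_other, other_other]; exact r4.1⟩
    · exact ⟨u, hu.symm, h7⟩
    · exact ⟨other u, h7, by rw [other_other, other_other]; exact hu.symm⟩
  have hh : m⁻¹ * g ∈ W := mul_mem (inv_mem hm) hg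
  refine ⟨⟨m⁻¹ * g, hh⟩, ?_⟩
  have hR : ∀ e : E, ∃ p ∈ diagWords, m⁻¹ * Q e * m = evalW p.2 := by
    intro e
    refine pairScalar_word (mul_mem (mul_mem (inv_mem hm) (hQm e)) hm) ?_ fun x => ?_
    · rw [show m⁻¹ * Q e * m * (m⁻¹ * Q e * m) = m⁻¹ * (Q e * Q e) * m by group, hQ2]; group
    obtain ⟨i, hi, hi'⟩ := hpair x
    have conv : ∀ y k, J y = j k →
        (Q e (ev (j k)) = ev (j k) → (m⁻¹ * Q e * m) (ev y) = ev y) ∧
        (Q e (ev (j k)) = negP (ev (j k)) → (m⁻¹ * Q e * m) (ev y) = negP (ev y)) ∧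
        (∀ k' y', J y' = j k' → ln (Q e (ev (j k))) = ax (j k') → ln ((m⁻¹ * Q e * m) (ev y)) = ax y') := by
      intro y k hy
      have hmy : m (ev y) = ev (j k) ∨ m (ev y) = negP (ev (j k)) :=
        ln_eq ((hmt y).trans (by rw [ln_ev]; exact congrArg ax hy))
      refine ⟨fun hh => ?_, fun hh => ?_, fun k' y' hy' hh => ?_⟩
      · rw [Equiv.Perm.mul_apply, Equiv.Perm.mul_apply, Equiv.Perm.coe_inv, Equiv.symm_apply_eq]
        rcases hmy with h | h <;> simp [h, negP_map (hQm e), hh]
      · rw [Equiv.Perm.mul_apply, Equiv.Perm.mul_apply, Equiv.Perm.coe_inv, Equiv.symm_apply_eq, negP_map hm]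
        rcases hmy with h | h <;> simp [h, negP_map (hQm e), hh]
      · have h1 : ln (Q e (m (ev y))) = ax (j k') := by
          rcases hmy with h | h <;> simp [h, negP_map (hQm e), ln_negP, hh]
        have h2 := ln_map (inv_mem hm) (h1.trans ((congrArg ax hy'.symm).trans (hmt y').symm))
        rw [Equiv.Perm.coe_inv, Equiv.symm_apply_apply, ln_ev] at h2
        rw [Equiv.Perm.mul_apply, Equiv.Perm.mul_apply, Equiv.Perm.coe_inv]
        exact h2
    rcases hline e i with h | h
    · rcases nomix i (hSw i) e h with ⟨e1, e2⟩ | ⟨e1, e2⟩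
      · exact .inl ⟨(conv x i hi).1 e1, (conv _ _ hi').1 e2⟩
      · exact .inr (.inl ⟨(conv x i hi).2.1 e1, (conv _ _ hi').2.1 e2⟩)
    · exact .inr (.inr ((conv x i hi).2.2 _ _ hi' h))
  have hconj : ∀ e : E, (m⁻¹ * g) * P e * (m⁻¹ * g)⁻¹ = m⁻¹ * Q e * m := fun e => by
    show _ = m⁻¹ * (g * P e * g⁻¹) * m
    group
  refine ⟨fun e he => ?_, fun p hp => ?_⟩
  · obtain ⟨p, hp, e'⟩ := hR ⟨e, he⟩
    exact ⟨p, hp, (hconj ⟨e, he⟩).trans e'⟩
  choose pp hpp hpe using hR
  choose idx hidx hget using fun e => List.mem_iff_getElem.1 (hpp e)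
  let F : E → Fin 128 := fun e => ⟨idx e, by have := hidx e; rw [diag_len] at this; exact this⟩
  have hFi : Function.Injective F := fun a b h => Subtype.ext (Subtype.ext (by
    have h' : idx a = idx b := congrArg Fin.val h
    have e : pp a = pp b := by rw [← hget a, ← hget b]; simp [h']
    have := (hconj a).trans ((hpe a).trans ((congrArg (fun p => evalW p.2) e).trans ((hpe b).symm.trans (hconj b).symm)))
    exact mul_left_cancel (mul_right_cancel this)))
  obtain ⟨k, hk, rfl⟩ := List.mem_iff_getElem.1 hp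
  obtain ⟨e, he⟩ := ((Fintype.bijective_iff_injective_and_card F).2 ⟨hFi, le_antisymm (Fintype.card_le_of_injective F hFi)
    (by rw [Fintype.card_fin, ← Nat.card_eq_fintype_card]; exact hcard)⟩).2 ⟨k, diag_len ▸ hk⟩
  refine ⟨e.1, e.2, (hconj e).trans ((hpe e).trans ?_)⟩
  have h' : idx e = k := congrArg Fin.val he
  have : pp e = diagWords[k] := by rw [← hget e]; simp [h']
  rw [this]

end Cfsg.Agent.StdO8
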