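import Cfsg.Agent.StdO8.Std

/-!
No element normalising a frame system moves the central involution: an element fixing it permutes the
axes up to the central twist, and none of the three possible orbits has such a point stabiliser.
-/

set_option autoImplicit false
set_option maxRecDepth 100000
set_option maxHeartbeats 1000000
set_option linter.unusedSectionVars false

universe u

namespace Cfsg.Agent.StdO8

open Cfsg.Agent.Compute

theorem bit1_bit (i j : Fin 8) : ((bit1 i : Fin 256) : ℕ).testBit (j : ℕ) = decide (i = j) := by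
  simp [bit1, Nat.testBit_two_pow, Fin.ext_iff]

theorem full_bit (j : Fin 8) : ((255 : Fin 256) : ℕ).testBit (j : ℕ) = true := by
  revert j; decide +kernel

theorem mx_cancel {a b c : Fin 256} (h : mx a b = mx a c) : b = c := by
  have h' := congrArg (mx a) h
  rwa [← mx_assoc, ← mx_assoc, mx_self, mx_comm 0 b, mx_comm 0 c, mx_zero, mx_zero] at h'

theorem pm_bit1 (t : GTup) (i : Fin 8) : pm t (bit1 i) = bit1 (aff t.1 i) :=
  pm_eq fun j => by rw [bit1_bit, bit1_bit, decide_eq_decide]; exact (aff_bijective t).1.eq_iff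

theorem pm_full (t : GTup) : pm t 255 = 255 := pm_eq fun j => by rw [full_bit, full_bit]

theorem pm_zero (t : GTup) : pm t 0 = 0 := pm_eq fun j => by simp

theorem bit1_injective : Function.Injective bit1 := fun i j h => by
  have e := bit1_bit j i
  rw [← h, bit1_bit, decide_eq_true (rfl : i = i)] at e
  exact (of_decide_eq_true e.symm).symm

theorem oddM_bit1 (i : Fin 8) : oddM (bit1 i) = true := by
  rw [oddM, bits_eq, decide_eq_true_eq]; revert i; decide +kernel

theorem oddM_full : oddM 255 = false := oddM_false.2 even_full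

theorem oddM_zero : oddM 0 = false := oddM_false.2 (by rw [bits_eq]; decide)

theorem aff_comp (t : GTup) {a b c : Fin 8} (h1 : a ≠ b) (h2 : a ≠ c) (h3 : b ≠ c) :
    aff t.1 (comp3 a b c) = comp3 (aff t.1 a) (aff t.1 b) (aff t.1 c) := by
  obtain ⟨g, hg, ht⟩ := exists_mono t
  exact ax_injective ((ht _).symm.trans (comp_step hg h1 h2 h3 (ht a) (ht b) (ht c)))

/-- The twist of the odd masks by the central one. -/
noncomputable def tw (ε : Bool) (a : Fin 256) : Fin 256 := cond (ε && oddM a) 255 0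

/-- A single axis, or its complement. -/
def pt (b : Bool) (i : Fin 8) : Fin 256 := mx (cond b 255 0) (bit1 i)

theorem pm_pt (b : Bool) (t : GTup) (i : Fin 8) : pm t (pt b i) = pt b (aff t.1 i) := by
  rw [pt, pm_mx, pm_bit1]; cases b <;> simp [pt, pm_full, pm_zero]

theorem oddM_pt (b : Bool) (i : Fin 8) : oddM (pt b i) = true := by
  rw [pt, oddM_mx, oddM_bit1]; cases b <;> simp [oddM_full, oddM_zero]

theorem pt_injective (b : Bool) : Function.Injective (pt b) := fun _ _ h => bit1_injective (mx_cancel h)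

theorem pt_ne_full (b : Bool) (i : Fin 8) : pt b i ≠ 255 := fun h => by
  have := oddM_pt b i
  rw [h, oddM_full] at this
  exact Bool.false_ne_true this

theorem nine_chk (b : Bool) : (∀ x : Fin 256, inS (cond b 32 1) x = true → x = 255 ∨ ∃ i, x = pt b i) ∧
    ∀ i, inS (cond b 32 1) (pt b i) = true ∧ inS (cond b 32 1) (mx (pt b i) 255) = false := by
  cases b <;> decide +kernel

theorem pairs_chk : ∀ x : Fin 256, inS 35 x = true → inS 35 (mx x 255) = true →
    ∃ b i, x = pt b i := by decide +kernel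

theorem orb35_chk : inS 35 1 = true ∧ inS 35 2 = true ∧ inS 35 3 = true := by decide +kernel

theorem comp3_shift : ∀ b c d : Fin 8, comp3 0 b (comp3 0 c d) = comp3 b c d := by decide +kernel

/-- The transvection exchanging the first two pairs of axes. -/
def tPair : GTup := ⟨(1, 0, 3, 4), by unfold Good; decide +kernel⟩

theorem tPair_val : ∀ j, aff tPair.1 j = ![1, 0, 3, 2, 4, 5, 6, 7] j := by decide +kernel

theorem pair_img (d : Fin 256) : mx d (pm tPair d) = 0 ∨ mx d (pm tPair d) = 3 ∨ mx d (pm tPair d) = 12 ∨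
    mx d (pm tPair d) = 15 := by
  have hb : ∀ j : Fin 8, (pm tPair d : ℕ).testBit (![1, 0, 3, 2, 4, 5, 6, 7] j : Fin 8) = (d : ℕ).testBit (j : ℕ) :=
    fun j => by rw [← tPair_val]; exact pm_spec tPair d j
  have h : ∀ j : Fin 8, (mx d (pm tPair d) : ℕ).testBit (j : ℕ) =
      ![(d : ℕ).testBit 0 ^^ (d : ℕ).testBit 1, (d : ℕ).testBit 0 ^^ (d : ℕ).testBit 1,
        (d : ℕ).testBit 2 ^^ (d : ℕ).testBit 3, (d : ℕ).testBit 2 ^^ (d : ℕ).testBit 3,
        false, false, false, false] j := by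
    intro j
    rw [mx_bit]
    have h0 := hb 0; have h1 := hb 1; have h2 := hb 2; have h3 := hb 3
    have h4 := hb 4; have h5 := hb 5; have h6 := hb 6; have h7 := hb 7
    simp [-Nat.testBit_zero] at h0 h1 h2 h3 h4 h5 h6 h7
    fin_cases j <;> simp [-Nat.testBit_zero, h0, h1, h2, h3, h4, h5, h6, h7, Bool.xor_comm]
  revert h
  generalize ((d : ℕ).testBit 0 ^^ (d : ℕ).testBit 1) = p
  generalize ((d : ℕ).testBit 2 ^^ (d : ℕ).testBit 3) = q
  intro h
  cases p <;> cases q
  · exact .inl (mask_ext fun j => by rw [h]; revert j; decide +kernel)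
  · exact .inr (.inr (.inl (mask_ext fun j => by rw [h]; revert j; decide +kernel)))
  · exact .inr (.inl (mask_ext fun j => by rw [h]; revert j; decide +kernel))
  · exact .inr (.inr (.inr (mask_ext fun j => by rw [h]; revert j; decide +kernel)))

theorem moved_chk : (allBelow 8 fun a => allBelow 8 fun b => allBelow 8 fun c => allBelow 8 fun d =>
    !(goodN a b c d) || allBelow 8 fun j => Nat.beq (affN a b c d j) j ||
      !(allBelow 8 fun m => Nat.beq (affN a b c d m) m || Nat.beq m j || Nat.beq m (affN a b c d j))) = true := by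
  decide +kernel

theorem moved_two (t : GTup) {j : Fin 8} (hj : aff t.1 j ≠ j) :
    ∃ m, aff t.1 m ≠ m ∧ m ≠ j ∧ m ≠ aff t.1 j := by
  by_contra hcon
  push Not at hcon
  have h := allBelow_eq_true.1 (allBelow_eq_true.1 (allBelow_eq_true.1 (allBelow_eq_true.1 moved_chk t.1.1 t.1.1.2)
    t.1.2.1 t.1.2.1.2) t.1.2.2.1 t.1.2.2.1.2) t.1.2.2.2 t.1.2.2.2.2
  rw [show goodN (t.1.1 : ℕ) (t.1.2.1 : ℕ) (t.1.2.2.1 : ℕ) (t.1.2.2.2 : ℕ) = true from t.2, Bool.not_true,
    Bool.false_or] at h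
  have h' := allBelow_eq_true.1 h j j.2
  rw [Bool.or_eq_true, Nat.beq_eq, Bool.not_eq_true', Bool.eq_false_iff] at h'
  rcases h' with e | e
  · exact hj (Fin.ext ((affN_eq _ _).trans e))
  refine e (allBelow_eq_true.2 fun m hm => ?_)
  rw [Bool.or_eq_true, Bool.or_eq_true, Nat.beq_eq, Nat.beq_eq, Nat.beq_eq]
  by_cases h1 : aff t.1 ⟨m, hm⟩ = ⟨m, hm⟩
  · exact .inl (.inl ((affN_eq t.1 ⟨m, hm⟩).symm.trans (congrArg Fin.val h1)))
  by_cases h2 : (⟨m, hm⟩ : Fin 8) = j
  · exact .inl (.inr (congrArg Fin.val h2))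
  · exact .inr ((congrArg Fin.val (hcon ⟨m, hm⟩ h1 h2)).trans (affN_eq _ _))

theorem two_pairs : ∀ a b c d : Fin 8, mx (bit1 a) (bit1 b) ≠ mx (mx (bit1 c) (bit1 d)) 255 := by
  decide +kernel

theorem twist_chk : ∀ (ε : Bool) (i j : Fin 8), mx (bit1 j) (cond ε 255 0) = mx (bit1 i) 255 → ε = true ∧ j = i := by
  decide +kernel

theorem pair_ne_full : ∀ j l : Fin 8, mx (bit1 j) (bit1 l) ≠ 255 := by decide +kernel

variable {G : Type u} [Group G]

theorem Ctx.Acts.inv {S : Ctx G} {g : G} {w : W} (h : S.Acts g w) : S.Acts g⁻¹ w⁻¹ := fun x => by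
  have e := h (cW w⁻¹ x)
  rw [← MulAut.mul_apply, ← map_mul, mul_inv_cancel, map_one, MulAut.one_apply] at e
  rw [← e]; group

namespace Sys

variable {S : Ctx G} {B : Sys S}

theorem act_mul {n m : G} (hn : B.Nrm n) (hm : B.Nrm m) {a : Fin 256} (ha : B.P a) :
    B.act (n * m) a = B.act n (B.act m a) :=
  act_eq (hn.mul hm) ha (act_spec hn (act_spec hm ha).1).1 (by
    rw [← (act_spec hn (act_spec hm ha).1).2, ← (act_spec hm ha).2]; group)

theorem act_zero {n : G} (hn : B.Nrm n) : B.act n 0 = 0 :=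
  act_eq hn B.zero_mem B.zero_mem (by rw [B.map_zero]; group)

theorem act_fix_full {n : G} (hn : B.Nrm n) : B.act n 255 = 255 ↔ n * S.z * n⁻¹ = S.z := by
  refine ⟨fun h => ?_, fun h => act_eq hn B.full_mem B.full_mem (by rw [B.full, h])⟩
  have e := (act_spec hn B.full_mem).2
  rwa [h, B.full] at e

theorem exists_act_of_orb {a : Fin 256} (ha : a ∈ B.orb) : ∃ g, B.Nrm g ∧ B.act g 255 = a := by
  obtain ⟨hP, g, hg, e⟩ := B.mem_orb.1 ha
  exact ⟨g, hg, act_eq hg B.full_mem hP (by rw [B.full, e])⟩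

end Sys

namespace IsStd

variable {S : Ctx G} {B : Sys S} (hB : IsStd B)

include hB in
theorem act_mono {m : W1} {t : GTup} (ht : ∀ i, ln (((m : W) : Equiv.Perm (Fin 240)) (ev i)) = ax (aff t.1 i))
    {a : Fin 256} (ha : B.P a) : B.act (S.e m) a = pm t a :=
  Sys.act_eq (hB.nrm_mono ht) ha (hB.perm t a ha) (hB.conj_psi ht ha)

include hB in
/-- On even masks an element fixing the involution acts as conjugation by its symmetry. -/
theorem act_even {n : G} (hn : B.Nrm n) {w : W} (hw : S.Acts n w) {a : Fin 256} (ha : Even (bits a)) :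
    Even (bits (B.act n a)) ∧
      (w : Equiv.Perm (Fin 240)) * D a * (w : Equiv.Perm (Fin 240))⁻¹ = D (B.act n a) := by
  obtain ⟨hP, hψ⟩ := hB.even a ha
  obtain ⟨hP', he⟩ := Sys.act_spec hn hP
  rw [hψ, hw] at he
  have hA := hB.acts _ hP'
  rw [← he] at hA
  have hdet : (mat ((cW w (dv a) : W1) : W)).det = 1 := mem_W1.1 (cW w (dv a)).2
  have hev : Even (bits (B.act n a)) := by
    rw [← det_D_iff]
    rcases hA.unique (Ctx.acts_e _) with e | e
    · exact (congrArg (fun g => (mat g).det) e).trans hdet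
    · refine (congrArg (fun g => (mat g).det) e).trans ?_
      show (mat (negW * _)).det = 1
      rw [mat_mul negW_mem, Matrix.det_mul, hdet, mul_one, ← D_full, det_D_iff]
      exact even_full
  refine ⟨hev, ?_⟩
  rw [(hB.even _ hev).2] at he
  have h' := congrArg (fun x : W1 => ((x : W) : Equiv.Perm (Fin 240))) (S.inj he)
  simp only [cW_val, dv_val ha, dv_val hev, Subgroup.coe_mul, Subgroup.coe_inv] at h'
  exact h'

include hB in
/-- An element fixing the involution permutes the axes, up to the twist of the odd masks. -/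
theorem stab [Finite G] (hP : ∀ a, B.P a) {n : G} (hn : B.Nrm n) (hfix : B.act n 255 = 255) :
    ∃ (t : GTup) (ε : Bool), ∀ a, B.act n a = mx (pm t a) (tw ε a) := by
  obtain ⟨w, hw⟩ := S.exists_acts (mul_inv_eq_iff_eq_mul.1 ((Sys.act_fix_full hn).1 hfix))
  have hco : ∀ (d : Fin 256) (m : Fin 8) (x : Fin 240), co (D d x) m =
      if (d : ℕ).testBit (m : ℕ) = true then -co x m else co x m := fun d m x => by
    rw [← ip_ev, ← ip_ev]
    have e : ev m = D d (D d (ev m)) := by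
      rw [← Equiv.Perm.mul_apply, ← D_mx, mx_self, D_zero, Equiv.Perm.one_apply]
    rw [e, mem_W.1 (D_mem d), ← e, D_ev]
    split_ifs <;> simp [ip_negP_right]
  have key : ∀ (d : Fin 256), Even (bits d) → ∀ i m : Fin 8, co ((w : Equiv.Perm (Fin 240)) (ev i)) m ≠ 0 →
      (B.act n d : ℕ).testBit (m : ℕ) = (d : ℕ).testBit (i : ℕ) := by
    intro d hd i m hne
    have e := Equiv.congr_fun (hB.act_even hn hw hd).2 ((w : Equiv.Perm (Fin 240)) (ev i))
    rw [Equiv.Perm.mul_apply, Equiv.Perm.mul_apply, Equiv.Perm.inv_def, Equiv.symm_apply_apply, D_ev] at e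
    have e' := congrArg (fun x => co x m) e
    simp only [hco] at e'
    cases h1 : (d : ℕ).testBit (i : ℕ) <;> cases h2 : (B.act n d : ℕ).testBit (m : ℕ) <;>
      simp only [h1, h2, if_true, Bool.false_eq_true, if_false, negP_map w.2, co_negP] at e' ⊢ <;> omega
  have hmono : IsMono (w : Equiv.Perm (Fin 240)) := by
    intro i
    by_cases hex : ∃ j, co ((w : Equiv.Perm (Fin 240)) (ev i)) j ≠ 0
    · obtain ⟨j, hj⟩ := hex
      refine ⟨j, (line_of_supp (i := j) (j := j) fun m hm _ => ?_).elim id id⟩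
      by_contra hne
      obtain ⟨k, hkj, hkm⟩ := (show ∀ a b : Fin 8, ∃ k, k ≠ a ∧ k ≠ b by decide) j m
      have hev : Even (bits (mx (bit1 m) (bit1 k))) := by rw [← oddM_false, oddM_mx, oddM_bit1, oddM_bit1]; rfl
      have hd : Even (bits (B.act n⁻¹ (mx (bit1 m) (bit1 k)))) := (hB.act_even hn.inv hw.inv hev).1
      have e := (key _ hd i m hne).trans (key _ hd i j hj).symm
      rw [Sys.act_inv' hn (hP _), mx_bit, mx_bit, bit1_bit, bit1_bit, bit1_bit, bit1_bit, decide_eq_true rfl,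
        decide_eq_false hkm, decide_eq_false hm, decide_eq_false hkj] at e
      exact absurd e (by decide)
    · push Not at hex
      exact ⟨i, (line_of_supp (i := i) (j := i) fun m _ _ => hex m).elim id id⟩
  obtain ⟨t, ht⟩ := mono_affine w.2 hmono
  have heven : ∀ a, oddM a = false → B.act n a = pm t a := fun a ha => D_injective (by
    rw [← (hB.act_even hn hw (oddM_false.1 ha)).2, conj_D w.2 ht])
  have h1 : oddM 1 = true := oddM_bit1 0
  have hA : S.Acts (n * B.ψ 1 * n⁻¹) (w * ⟨D 1, D_mem 1⟩ * w⁻¹) := (hw.mul (hB.acts 1 (hP 1))).mul hw.inv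
  rw [(Sys.act_spec hn (hP 1)).2] at hA
  have hone : B.act n 1 = pm t 1 ∨ B.act n 1 = mx (pm t 1) 255 := by
    rcases (hB.acts _ (hP _)).unique hA with e | e <;>
      simp only [Subgroup.coe_mul, Subgroup.coe_inv, conj_D w.2 ht] at e
    · exact .inl (D_injective e)
    · exact .inr (D_injective (e.trans (by rw [mx_comm, D_mx, D_full])))
  obtain ⟨ε, hε⟩ : ∃ ε : Bool, B.act n 1 = mx (pm t 1) (cond ε 255 0) := by
    rcases hone with e | e
    exacts [⟨false, e.trans (mx_zero _).symm⟩, ⟨true, e⟩]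
  refine ⟨t, ε, fun a => ?_⟩
  cases ha : oddM a
  · rw [heven a ha, tw, ha, Bool.and_false, cond_false, mx_zero]
  · have hb : oddM (mx a 1) = false := by rw [oddM_mx, ha, h1]; rfl
    calc B.act n a = B.act n (mx (mx a 1) 1) := by rw [mx_assoc, mx_self, mx_zero]
      _ = mx (pm t (mx a 1)) (mx (pm t 1) (cond ε 255 0)) := by rw [Sys.act_mx hn (hP _) (hP _), heven _ hb, hε]
      _ = _ := by rw [← mx_assoc, ← pm_mx, mx_assoc a, mx_self, mx_zero, tw, ha, Bool.and_true]

include hB in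
theorem perm_pts [Finite G] (hP : ∀ a, B.P a) {b : Bool}
    (hO : ∀ x : Fin 256, x ∈ B.orb ↔ inS (cond b 32 1) x = true) {n : G} (hn : B.Nrm n)
    (hfix : B.act n 255 = 255) : ∃ t : GTup, ∀ i, B.act n (pt b i) = pt b (aff t.1 i) := by
  obtain ⟨t, ε, h⟩ := hB.stab hP hn hfix
  refine ⟨t, fun i => ?_⟩
  rw [h, pm_pt, tw, oddM_pt, Bool.and_true]
  cases ε
  · exact mx_zero _
  · exfalso
    have h' := (hO _).1 (Sys.act_orb hn ((hO _).2 ((nine_chk b).2 i).1))
    rw [h, pm_pt, tw, oddM_pt, Bool.and_true, cond_true, ((nine_chk b).2 _).2] at h'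
    exact Bool.false_ne_true h'

include hB in
/-- The orbit is not made of the singles or of their complements. -/
theorem not_nine [Finite G] (hP : ∀ a, B.P a) (b : Bool)
    (hO : ∀ x : Fin 256, x ∈ B.orb ↔ inS (cond b 32 1) x = true) : False := by
  have hpo : ∀ i, pt b i ∈ B.orb := fun i => (hO _).2 ((nine_chk b).2 i).1
  have hcase : ∀ x, x ∈ B.orb → x = 255 ∨ ∃ i, x = pt b i := fun x hx => (nine_chk b).1 x ((hO x).1 hx)
  have hinj : ∀ {n : G}, B.Nrm n → ∀ {x y}, B.act n x = B.act n y → x = y := fun hn x y e => by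
    rw [← Sys.act_inv hn (hP x), e, Sys.act_inv hn (hP y)]
  -- an element exchanging the involution and the first point
  obtain ⟨n, hn, hn1, hn2⟩ : ∃ n, B.Nrm n ∧ B.act n 255 = pt b 0 ∧ B.act n (pt b 0) = 255 := by
    obtain ⟨g, hg, e⟩ := Sys.exists_act_of_orb (hpo 0)
    rcases hcase _ (Sys.act_orb hg.inv B.full_orb) with h | ⟨j, hj⟩
    · have := Sys.act_inv' hg B.full_mem
      rw [h, e] at this
      exact absurd this (pt_ne_full b 0)
    obtain ⟨t, ht0⟩ : ∃ t : GTup, aff t.1 0 = j := by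
      revert j; intro j _
      obtain ⟨a, c, d, hgd⟩ := (show ∀ j : Fin 8, ∃ a c d : Fin 8, goodN j a c d = true by decide +kernel) j
      exact ⟨⟨(j, a, c, d), hgd⟩, rfl⟩
    obtain ⟨m, hm⟩ := exists_mono1 t
    refine ⟨g * S.e m, hg.mul (hB.nrm_mono hm), ?_, ?_⟩
    · rw [Sys.act_mul hg (hB.nrm_mono hm) (hP _), hB.act_mono hm (hP _), pm_full, e]
    · rw [Sys.act_mul hg (hB.nrm_mono hm) (hP _), hB.act_mono hm (hP _), pm_pt, ht0, ← hj,
        Sys.act_inv' hg B.full_mem]
  have hf : ∀ i : Fin 8, ∃ j : Fin 8, (i = 0 ∧ j = 0) ∨ (i ≠ 0 ∧ j ≠ 0 ∧ B.act n (pt b i) = pt b j) := fun i => by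
    by_cases hi : i = 0
    · exact ⟨0, .inl ⟨hi, rfl⟩⟩
    rcases hcase _ (Sys.act_orb hn (hpo i)) with h | ⟨j, hj⟩
    · exact absurd (pt_injective b (hinj hn (h.trans hn2.symm))) hi
    · refine ⟨j, .inr ⟨hi, fun h0 => ?_, hj⟩⟩
      exact pt_ne_full b i (hinj hn (hj.trans (by rw [h0, hn1])))
  choose f hf using hf
  have hf0 : f 0 = 0 := (hf 0).elim (fun h => h.2) fun h => absurd rfl h.1
  have hfn : ∀ i, i ≠ 0 → f i ≠ 0 ∧ B.act n (pt b i) = pt b (f i) := fun i hi =>
    (hf i).elim (fun h => absurd h.1 hi) fun h => h.2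
  have finj : Function.Injective f := fun x y e => by
    by_cases hx : x = 0 <;> by_cases hy : y = 0
    · rw [hx, hy]
    · exact absurd (by rw [← e, hx, hf0]) (hfn y hy).1
    · exact absurd (by rw [e, hy, hf0]) (hfn x hx).1
    · exact pt_injective b (hinj hn (((hfn x hx).2.trans (by rw [e])).trans (hfn y hy).2.symm))
  -- conjugates of transvections fixing the first point keep the quads through it
  have quad : ∀ (t : GTup) (a c d : Fin 8), comp3 0 a c = d → 0 ≠ a → 0 ≠ c → a ≠ c →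
      (aff t.1 0 = 0 ∧ aff t.1 a = a ∧ aff t.1 c = c) →
      (∀ i, aff t.1 i = i → i = 0 ∨ i = a ∨ i = c ∨ i = d) → f d = comp3 0 (f a) (f c) := by
    intro t a c d hd h0a h0c hac ⟨t0, ta, tc⟩ honly
    obtain ⟨m, hm⟩ := exists_mono1 t
    have hN : B.Nrm (n * S.e m * n⁻¹) := (hn.mul (hB.nrm_mono hm)).mul hn.inv
    have hact : ∀ x, B.act (n * S.e m * n⁻¹) x = B.act n (pm t (B.act n⁻¹ x)) := fun x => by
      rw [Sys.act_mul (hn.mul (hB.nrm_mono hm)) hn.inv (hP _), Sys.act_mul hn (hB.nrm_mono hm) (hP _),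
        hB.act_mono hm (hP _)]
    have hback : B.act n⁻¹ 255 = pt b 0 := by rw [← hn2, Sys.act_inv hn (hP _)]
    obtain ⟨t', ht'⟩ := hB.perm_pts hP hO hN (by rw [hact, hback, pm_pt, t0, hn2])
    have hcom : ∀ i, aff t'.1 (f i) = f (aff t.1 i) := fun i => by
      refine pt_injective b ((ht' (f i)).symm.trans ?_)
      rw [hact]
      by_cases hi : i = 0
      · rw [hi, hf0, ← hn1, Sys.act_inv hn (hP _), pm_full, t0, hf0]; exact hn1
      · have hti : aff t.1 i ≠ 0 := fun h => hi ((aff_bijective t).1 (h.trans t0.symm))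
        rw [← (hfn i hi).2, Sys.act_inv hn (hP _), pm_pt, (hfn _ hti).2]
    have n0a : (0 : Fin 8) ≠ f a := fun e => h0a (finj (hf0.trans e))
    have n0c : (0 : Fin 8) ≠ f c := fun e => h0c (finj (hf0.trans e))
    have nac : f a ≠ f c := finj.ne hac
    obtain ⟨i, hi⟩ := Finite.injective_iff_surjective.1 finj (comp3 0 (f a) (f c))
    have hti : aff t.1 i = i := finj (by
      have h0' := hcom 0
      rw [hf0, t0, hf0] at h0'
      rw [← hcom, hi, aff_comp t' n0a n0c nac, h0', hcom, ta, hcom, tc])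
    obtain ⟨m1, m2, m3⟩ := comp3_ne n0a n0c nac
    rcases honly i hti with rfl | rfl | rfl | rfl
    · exact absurd (hf0.symm.trans hi) m1
    · exact absurd hi m2
    · exact absurd hi m3
    · exact hi
  let mk : (t : Tup) → goodN t.1 t.2.1 t.2.2.1 t.2.2.2 = true → GTup := fun t h => ⟨t, h⟩
  have q3 : f 3 = comp3 0 (f 1) (f 2) := quad (mk (0, 1, 2, 5) (by decide +kernel)) 1 2 3 (by decide +kernel)
    (by decide) (by decide) (by decide) (by dsimp only [mk]; decide +kernel) (by dsimp only [mk]; decide +kernel)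
  have q5 : f 5 = comp3 0 (f 1) (f 4) := quad (mk (0, 1, 3, 4) (by decide +kernel)) 1 4 5 (by decide +kernel)
    (by decide) (by decide) (by decide) (by dsimp only [mk]; decide +kernel) (by dsimp only [mk]; decide +kernel)
  have q6 : f 6 = comp3 0 (f 2) (f 4) := quad (mk (0, 3, 2, 4) (by decide +kernel)) 2 4 6 (by decide +kernel)
    (by decide) (by decide) (by decide) (by dsimp only [mk]; decide +kernel) (by dsimp only [mk]; decide +kernel)
  have q7 : f 7 = comp3 0 (f 1) (f 6) := quad (mk (0, 1, 3, 5) (by decide +kernel)) 1 6 7 (by decide +kernel)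
    (by decide) (by decide) (by decide) (by dsimp only [mk]; decide +kernel) (by dsimp only [mk]; decide +kernel)
  have hne : ∀ {x y : Fin 8}, x ≠ y → f x ≠ f y := fun h => finj.ne h
  let T : GTup := ⟨(f 0, f 1, f 2, f 4), good_iff.2 ⟨hne (by decide), hne (by decide), hne (by decide),
    hne (by decide), hne (by decide), hne (by decide), by
      rw [hf0, ← q3]; exact hne (by decide)⟩⟩
  have hT : ∀ i, aff T.1 i = f i := by
    intro i
    have c7 : comp3 (f 1) (f 2) (f 4) = f 7 := by rw [q7, q6, comp3_shift]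
    have c3 : comp3 (f 0) (f 1) (f 2) = f 3 := by rw [hf0, q3]
    have c5 : comp3 (f 0) (f 1) (f 4) = f 5 := by rw [hf0, q5]
    have c6 : comp3 (f 0) (f 2) (f 4) = f 6 := by rw [hf0, q6]
    fin_cases i
    exacts [rfl, rfl, rfl, c3, rfl, c5, c6, c7]
  -- the transposition
  obtain ⟨mT, hmT⟩ := exists_mono1 T
  have hNT := hB.nrm_mono hmT
  obtain ⟨τ, hτ, hτ1, hτ2, hτ3⟩ : ∃ τ, B.Nrm τ ∧ B.act τ 255 = pt b 0 ∧ B.act τ (pt b 0) = 255 ∧
      ∀ i, i ≠ 0 → B.act τ (pt b i) = pt b i := by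
    refine ⟨n * (S.e mT)⁻¹, hn.mul hNT.inv, ?_, ?_, fun i hi => ?_⟩
    all_goals rw [Sys.act_mul hn hNT.inv (hP _)]
    · rw [show B.act (S.e mT)⁻¹ 255 = 255 by
        conv_lhs => rw [← pm_full T, ← hB.act_mono hmT (hP _)]
        rw [Sys.act_inv hNT (hP _)], hn1]
    · rw [show B.act (S.e mT)⁻¹ (pt b 0) = pt b 0 by
        conv_lhs => rw [← hf0, ← hT, ← pm_pt, ← hB.act_mono hmT (hP _)]
        rw [Sys.act_inv hNT (hP _)], hn2]
    · obtain ⟨j, rfl⟩ := Finite.injective_iff_surjective.1 finj i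
      have hj : j ≠ 0 := fun h => hi (by rw [h, hf0])
      conv_lhs => rw [← hT, ← pm_pt, ← hB.act_mono hmT (hP _), Sys.act_inv hNT (hP _), (hfn j hj).2]
  let t1 : GTup := mk (1, 0, 3, 5) (by decide +kernel)
  have h01 : aff t1.1 0 = 1 ∧ aff t1.1 1 = 0 ∧ aff t1.1 2 = 3 ∧ aff t1.1 3 = 2 ∧ aff t1.1 4 = 5 ∧
      aff t1.1 5 = 4 ∧ aff t1.1 6 = 7 ∧ aff t1.1 7 = 6 := by dsimp only [t1, mk]; decide +kernel
  obtain ⟨m1, hm1⟩ := exists_mono1 t1
  have hN1 := hB.nrm_mono hm1
  have ha1 : ∀ i, B.act (S.e m1) (pt b i) = pt b (aff t1.1 i) := fun i => by rw [hB.act_mono hm1 (hP _), pm_pt]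
  have ha1z : B.act (S.e m1) 255 = 255 := by rw [hB.act_mono hm1 (hP _), pm_full]
  obtain ⟨τ', hτ', hd1, hd2, hd3⟩ : ∃ τ, B.Nrm τ ∧ B.act τ 255 = pt b 1 ∧ B.act τ (pt b 1) = 255 ∧
      ∀ i, i ≠ 1 → B.act τ (pt b i) = pt b i := by
    refine ⟨S.e m1 * τ * (S.e m1)⁻¹, (hN1.mul hτ).mul hN1.inv, ?_, ?_, fun i hi => ?_⟩
    all_goals rw [Sys.act_mul (hN1.mul hτ) hN1.inv (hP _), Sys.act_mul hN1 hτ (hP _)]
    · rw [show B.act (S.e m1)⁻¹ 255 = 255 by
        conv_lhs => rw [← ha1z, Sys.act_inv hN1 (hP _)], hτ1, ha1, h01.1]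
    · rw [show B.act (S.e m1)⁻¹ (pt b 1) = pt b 0 by
        conv_lhs => rw [← h01.1, ← ha1, Sys.act_inv hN1 (hP _)], hτ2, ha1z]
    · obtain ⟨j, rfl⟩ := (aff_bijective t1).2 i
      conv_lhs => rw [← ha1, Sys.act_inv hN1 (hP _), hτ3 j (fun h => hi (by rw [h]; exact h01.1)), ha1]
  have hN : B.Nrm (τ * τ' * τ) := (hτ.mul hτ').mul hτ
  have hact : ∀ x, B.act (τ * τ' * τ) x = B.act τ (B.act τ' (B.act τ x)) := fun x => by
    rw [Sys.act_mul (hτ.mul hτ') hτ (hP _), Sys.act_mul hτ hτ' (hP _)]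
  obtain ⟨t', ht'⟩ := hB.perm_pts hP hO hN (by rw [hact, hτ1, hd3 0 (by decide), hτ2])
  have e0 : aff t'.1 0 = 1 := pt_injective b ((ht' 0).symm.trans (by rw [hact, hτ2, hd1, hτ3 1 (by decide)]))
  have e1 : aff t'.1 1 = 0 := pt_injective b ((ht' 1).symm.trans (by rw [hact, hτ3 1 (by decide), hd2, hτ1]))
  have eq : ∀ i, i ≠ 0 → i ≠ 1 → aff t'.1 i = i := fun i h0 h1 =>
    pt_injective b ((ht' i).symm.trans (by rw [hact, hτ3 i h0, hd3 i h1, hτ3 i h0]))
  have e6 := aff_comp t' (a := 0) (b := 2) (c := 4) (by decide) (by decide) (by decide)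
  rw [e0, eq 2 (by decide) (by decide), eq 4 (by decide) (by decide), show comp3 0 2 4 = (6 : Fin 8) by decide +kernel,
    eq 6 (by decide) (by decide)] at e6
  exact absurd e6 (by decide +kernel)

include hB in
/-- The orbit does not hold the pairs. -/
theorem not_pairs [Finite G] (hP : ∀ a, B.P a) (hO : ∀ x : Fin 256, x ∈ B.orb ↔ inS 35 x = true) : False := by
  obtain ⟨g, hg, hg3⟩ := Sys.exists_act_of_orb ((hO 3).2 orb35_chk.2.2)
  have hg3' : B.act g⁻¹ 3 = 255 := by rw [← hg3, Sys.act_inv hg (hP _)]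
  obtain ⟨m, hm⟩ := exists_mono1 tPair
  have hc := hB.nrm_mono hm
  have hN : B.Nrm (g⁻¹ * S.e m * g) := (hg.inv.mul hc).mul hg
  have hact : ∀ a, B.act (g⁻¹ * S.e m * g) a = B.act g⁻¹ (pm tPair (B.act g a)) := fun a => by
    rw [Sys.act_mul (hg.inv.mul hc) hg (hP _), Sys.act_mul hg.inv hc (hP _), hB.act_mono hm (hP _)]
  have hp : ∀ i j : Fin 8, aff tPair.1 i = j → pm tPair (bit1 i) = bit1 j := fun i j h => by rw [pm_bit1, h]
  have p1 : pm tPair 1 = 2 := hp 0 1 (tPair_val 0)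
  have p2 : pm tPair 2 = 1 := hp 1 0 (tPair_val 1)
  have p4 : pm tPair 4 = 8 := hp 2 3 (tPair_val 2)
  have m12 : mx 1 2 = 3 := by decide +kernel
  have p3 : pm tPair 3 = 3 := by rw [← m12, pm_mx, p1, p2, mx_comm]
  obtain ⟨t, ε, ht⟩ := hB.stab hP hN (by rw [hact, hg3, p3, hg3'])
  obtain ⟨x, hx⟩ : ∃ x, x = B.act g⁻¹ 1 := ⟨_, rfl⟩
  have hy : B.act g⁻¹ 2 = mx x 255 := by
    rw [hx, ← hg3', ← Sys.act_mx hg.inv (hP _) (hP _), show mx 1 3 = 2 by decide +kernel]
  have hfx : B.act (g⁻¹ * S.e m * g) x = mx x 255 := by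
    rw [hact, hx, Sys.act_inv' hg (hP _), p1, hy, hx]
  obtain ⟨b, i, hi⟩ := pairs_chk x ((hO _).1 (hx ▸ Sys.act_orb hg.inv ((hO 1).2 orb35_chk.1)))
    ((hO _).1 (hy ▸ Sys.act_orb hg.inv ((hO 2).2 orb35_chk.2.1)))
  rw [ht, hi, pm_pt, tw, oddM_pt, Bool.and_true] at hfx
  obtain ⟨rfl, hfi⟩ : ε = true ∧ aff t.1 i = i := by
    have e := mx_cancel (a := cond b 255 0)
      (show mx (cond b 255 0) (mx (bit1 (aff t.1 i)) (cond ε 255 0)) = mx (cond b 255 0) (mx (bit1 i) 255) by
        rw [← mx_assoc, ← mx_assoc]; exact hfx)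
    exact twist_chk ε i _ e
  obtain ⟨k, hk⟩ : ∃ k, B.act g k = 12 := ⟨_, Sys.act_inv' hg (hP 12)⟩
  have img : ∀ a, mx a (B.act (g⁻¹ * S.e m * g) a) = 0 ∨ mx a (B.act (g⁻¹ * S.e m * g) a) = 255 ∨
      mx a (B.act (g⁻¹ * S.e m * g) a) = k ∨ mx a (B.act (g⁻¹ * S.e m * g) a) = mx k 255 := by
    intro a
    have e : mx a (B.act (g⁻¹ * S.e m * g) a) = B.act g⁻¹ (mx (B.act g a) (pm tPair (B.act g a))) := by
      rw [Sys.act_mx hg.inv (hP _) (hP _), Sys.act_inv hg (hP _), hact]
    have hk' : B.act g⁻¹ 12 = k := by rw [← hk, Sys.act_inv hg (hP _)]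
    rcases pair_img (B.act g a) with h | h | h | h <;> rw [e, h]
    · exact .inl (Sys.act_zero hg.inv)
    · exact .inr (.inl hg3')
    · exact .inr (.inr (.inl hk'))
    · exact .inr (.inr (.inr (by
        rw [show (15 : Fin 256) = mx 12 3 by decide +kernel, Sys.act_mx hg.inv (hP _) (hP _), hk', hg3'])))
  have hq : ∀ j, aff t.1 j ≠ j →
      mx (bit1 j) (bit1 (aff t.1 j)) = k ∨ mx (bit1 j) (bit1 (aff t.1 j)) = mx k 255 := by
    intro j hj
    have e : mx (mx (bit1 i) (bit1 j)) (B.act (g⁻¹ * S.e m * g) (mx (bit1 i) (bit1 j))) =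
        mx (bit1 j) (bit1 (aff t.1 j)) := by
      rw [ht, tw, oddM_mx, oddM_bit1, oddM_bit1, Bool.xor_self, Bool.and_false, cond_false, mx_zero, pm_mx, pm_bit1,
        pm_bit1, hfi, mx_comm (bit1 i) (bit1 j), mx_assoc, ← mx_assoc (bit1 i) (bit1 i), mx_self, mx_comm 0, mx_zero]
    have h := img (mx (bit1 i) (bit1 j))
    rw [e] at h
    rcases h with h | h | h | h
    · refine absurd (bit1_injective ?_) (Ne.symm hj)
      exact mx_cancel (a := bit1 j) ((mx_self _).trans h.symm)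
    · exact absurd h (pair_ne_full _ _)
    · exact .inl h
    · exact .inr h
  have hid : ∀ j, aff t.1 j = j := by
    intro j
    by_contra hj
    obtain ⟨l, hl, hlj, hlt⟩ := moved_two t hj
    have hsame : mx (bit1 l) (bit1 (aff t.1 l)) ≠ mx (bit1 j) (bit1 (aff t.1 j)) := fun e => by
      have e' := congrArg (fun y : Fin 256 => (y : ℕ).testBit (l : ℕ)) e
      simp only [mx_bit, bit1_bit, decide_eq_false hl, decide_eq_false (Ne.symm hlj),
        decide_eq_false (Ne.symm hlt)] at e'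
      exact absurd e' (by decide)
    rcases hq j hj with h | h <;> rcases hq l hl with h' | h'
    · exact hsame (h'.trans h.symm)
    · exact two_pairs _ _ _ _ (h'.trans (by rw [← h]))
    · exact two_pairs _ _ _ _ (h.trans (by rw [← h']))
    · exact hsame (h'.trans h.symm)
  have h4 := ht (B.act g⁻¹ 4)
  rw [hact, Sys.act_inv' hg (hP _), p4, pm_eq (d' := B.act g⁻¹ 4) fun j => by rw [hid]] at h4
  have h12 : B.act g⁻¹ 12 = tw true (B.act g⁻¹ 4) := by
    rw [show (12 : Fin 256) = mx 4 8 by decide +kernel, Sys.act_mx hg.inv (hP _) (hP _), h4, ← mx_assoc, mx_self,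
      mx_comm, mx_zero]
  have h' := Sys.act_inv' hg (hP 12)
  rw [h12, tw] at h'
  revert h'
  generalize (true && oddM (B.act g⁻¹ 4)) = e
  cases e
  · rw [cond_false, Sys.act_zero hg]; decide +kernel
  · rw [cond_true, hg3]; decide +kernel

include hB in
/-- No normalising element moves the involution. -/
theorem no_move [Finite G] (hq : ¬ IsConj (S.e y15) S.z) {n : G} (hn : B.Nrm n) : n * S.z * n⁻¹ = S.z := by
  by_contra hmove
  by_cases hev : ∀ a, B.P a → Even (bits a)
  · exact hmove (hB.no_move_even hq hev hn)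
  push Not at hev
  obtain ⟨d, hd, hodd⟩ := hev
  have hd' : oddM d = true := (Bool.eq_false_or_eq_true _).resolve_right fun e => hodd (oddM_false.1 e)
  have hP : ∀ a, B.P a := fun a => by
    cases ha : oddM a
    · exact (hB.even a (oddM_false.1 ha)).1
    · have := B.mx_mem _ _ (hB.even (mx a d) (oddM_false.1 (by rw [oddM_mx, ha, hd']; rfl))).1 hd
      rwa [mx_assoc, mx_self, mx_zero] at this
  obtain ⟨sub, hsub, hO⟩ := hB.cases hq hn hmove
  rcases hsub with rfl | rfl | rfl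
  · exact hB.not_nine hP false hO
  · exact hB.not_nine hP true hO
  · exact hB.not_pairs hP hO

end IsStd

end Cfsg.Agent.StdO8
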