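import Cfsg.Agent.StdO8.DiagSys
import Cfsg.Agent.StdO8.Even128
import Cfsg.Agent.StdO8.Three

/-!
Elementary abelian subgroups of maximal order in the centraliser of the involution.
-/

set_option autoImplicit false
set_option maxRecDepth 100000
set_option maxHeartbeats 1000000
set_option linter.unusedSectionVars false

universe u

namespace Cfsg.Agent.StdO8

open Matrix

variable {G : Type u} [Group G]

namespace Ctx

variable {S : Ctx G}

theorem Acts.twist {g : G} {w : W} (h : S.Acts g w) (k : W) : (S.twist k).Acts g (k⁻¹ * w * k) := fun x => by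
  show g * S.e (cW k x) * g⁻¹ = S.e (cW k (cW (k⁻¹ * w * k) x))
  rw [h, ← MulAut.mul_apply, ← MulAut.mul_apply, ← map_mul, ← map_mul]
  group

theorem negW_mul_mem {w : W} (a : W) (h : (w : Equiv.Perm (Fin 240)) = negW * a) : w = (zW : W) * a :=
  Subtype.ext h

theorem Acts.mem_iff {g : G} {w w' : W} (h : S.Acts g w) (h' : S.Acts g w') : w ∈ W1 ↔ w' ∈ W1 := by
  rcases h.unique h' with e | e
  · rw [Subtype.ext e]
  · rw [negW_mul_mem _ e]; exact Subgroup.mul_mem_cancel_left _ zW.2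

/-- An inner involution acting as an involution lies in the cover. -/
theorem mem_range_of_acts {b : G} {v : W1} (h : S.Acts b (v : W)) (hv : v * v = 1) (hb : b * b = 1) :
    b ∈ S.e.range := by
  have hc := h.cent_of_one
  have e : (S.e v)⁻¹ * b * ((S.e v)⁻¹ * b) = 1 := by
    have hv' : (S.e v)⁻¹ = S.e v := inv_eq_of_mul_eq_one_right (by rw [← map_mul, hv, map_one])
    calc (S.e v)⁻¹ * b * ((S.e v)⁻¹ * b) = ((S.e v)⁻¹ * b * (S.e v)⁻¹) * b := by group
      _ = (S.e v)⁻¹ * ((S.e v)⁻¹ * b) * b := by rw [← map_inv, S.mem_cent.1 (by rwa [map_inv]) v⁻¹]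
      _ = ((S.e v)⁻¹ * (S.e v)⁻¹) * (b * b) := by group
      _ = 1 := by rw [hb, hv', ← map_mul, hv, map_one, mul_one]
  rcases S.inv_cent hc e with e' | e'
  · exact ⟨v, (inv_mul_eq_one.1 e')⟩
  · exact ⟨v * zW, by rw [map_mul, show S.e zW = (S.e v)⁻¹ * b from e'.symm, mul_inv_cancel_left]⟩

variable (B : Subgroup G)

/-- The elements acting as symmetries of determinant one. -/
def innerPart (S : Ctx G) (B : Subgroup G) : Subgroup G where
  carrier := {b | b ∈ B ∧ ∃ v : W1, S.Acts b (v : W)}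
  one_mem' := ⟨one_mem B, 1, Ctx.acts_cent (one_mem _)⟩
  mul_mem' := fun {a b} ⟨ha, v, hv⟩ ⟨hb, w, hw⟩ => ⟨mul_mem ha hb, v * w, hv.mul hw⟩
  inv_mem' := fun {a} ⟨ha, v, hv⟩ => ⟨inv_mem ha, v⁻¹, hv.inv⟩

theorem mem_innerPart {b : G} : b ∈ S.innerPart B ↔ b ∈ B ∧ ∃ v : W1, S.Acts b (v : W) := Iff.rfl

/-- The symmetries whose images lie in the group. -/
noncomputable def pull (S : Ctx G) (B : Subgroup G) : Subgroup W := (B.comap S.e).map W1.subtype

theorem mem_pull {w : W} : w ∈ S.pull B ↔ ∃ v : W1, S.e v ∈ B ∧ (v : W) = w := by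
  simp only [pull, Subgroup.mem_map, Subgroup.mem_comap]; rfl

variable {B} (hsq : ∀ b ∈ B, b * b = 1)

include hsq in
theorem comm_of_sq {a b : G} (ha : a ∈ B) (hb : b ∈ B) : a * b = b * a := by
  rw [← inv_eq_of_mul_eq_one_right (hsq _ (mul_mem ha hb)), _root_.mul_inv_rev, inv_eq_of_mul_eq_one_right (hsq _ ha),
    inv_eq_of_mul_eq_one_right (hsq _ hb)]

include hsq in
theorem pull_sq : ∀ e ∈ S.pull B, e * e = 1 := by
  intro e he
  obtain ⟨v, hv, rfl⟩ := (mem_pull B).1 he
  rw [← Subgroup.coe_mul, S.inj (((map_mul S.e v v).trans (hsq _ hv)).trans (map_one S.e).symm), Subgroup.coe_one]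

theorem pull_det : ∀ e ∈ S.pull B, (mat ((e : W) : Equiv.Perm (Fin 240))).det = 1 := by
  intro e he
  obtain ⟨v, -, rfl⟩ := (mem_pull B).1 he
  exact mem_W1.1 v.2

theorem card_pull [Finite G] : Nat.card (S.pull B) = Nat.card (B.comap S.e) :=
  Subgroup.card_map_of_injective (Subgroup.subtype_injective W1)

variable [Finite G] (hcard : 128 ≤ Nat.card (S.innerPart B))

include hsq hcard in
/-- The inner elements lie in the cover. -/
theorem inner_range {b : G} (hb : b ∈ S.innerPart B) : b ∈ S.e.range := by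
  obtain ⟨hbB, v, hv⟩ := (mem_innerPart B).1 hb
  by_contra hout
  have hvv : ∀ {a : G} {x : W1}, a ∈ B → S.Acts a (x : W) → x * x = 1 ∨ x * x = zW := fun {a x} ha hx => by
    have h2 := hx.mul hx
    rw [hsq a ha] at h2
    rcases h2.unique (Ctx.acts_cent (one_mem _)) with e | e
    · exact .inl (Subtype.ext (Subtype.ext e))
    · refine .inr (Subtype.ext (Subtype.ext (e.trans ?_)))
      show negW * 1 = negW
      rw [mul_one]
  have hJ : v * v = zW := (hvv hbB hv).resolve_left fun e => hout (mem_range_of_acts hv e (hsq b hbB))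
  have hcomm : ∀ {a : G} {x : W1}, a ∈ B → S.Acts a (x : W) → x * v = v * x := by
    intro a x ha hx
    have hc := hx.cent_of_one
    have hc0 := hv.cent_of_one
    set c := (S.e x)⁻¹ * a with hcdef
    set c0 := (S.e v)⁻¹ * b with hc0def
    have ea : a = S.e x * c := by rw [hcdef, mul_inv_cancel_left]
    have eb : b = S.e v * c0 := by rw [hc0def, mul_inv_cancel_left]
    have h := comm_of_sq hsq ha hbB
    rw [ea, eb, show S.e x * c * (S.e v * c0) = S.e x * (c * S.e v) * c0 by group, S.mem_cent.1 hc,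
      show S.e x * (S.e v * c) * c0 = S.e (x * v) * (c * c0) by rw [map_mul]; group,
      show S.e v * c0 * (S.e x * c) = S.e v * (c0 * S.e x) * c by group, S.mem_cent.1 hc0,
      show S.e v * (S.e x * c0) * c = S.e (v * x) * (c0 * c) by rw [map_mul]; group] at h
    refine (inv_mul_eq_one.1 (S.e_notin ?_)).symm
    rw [map_mul, map_inv]
    have e : (S.e (v * x))⁻¹ * S.e (x * v) = c0 * c * (c0⁻¹ * c⁻¹) := by
      calc (S.e (v * x))⁻¹ * S.e (x * v) = (S.e (v * x))⁻¹ * (S.e (x * v) * (c * c0)) * (c0⁻¹ * c⁻¹) := by group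
        _ = (S.e (v * x))⁻¹ * (S.e (v * x) * (c0 * c)) * (c0⁻¹ * c⁻¹) := by rw [h]
        _ = _ := by group
    rw [e, ← mul_assoc]
    exact S.comm_mem_O hc0 hc
  have h64 : 64 ≤ Nat.card (S.pull B) := by
    have key : ∀ a : S.innerPart B, ∃ p : (B.comap S.e) × Bool, S.e p.1.1 = cond p.2 ((a : G) * b) a := by
      rintro ⟨a, ha⟩
      obtain ⟨haB, x, hx⟩ := (mem_innerPart B).1 ha
      rcases hvv haB hx with e | e
      · obtain ⟨y, hy⟩ := mem_range_of_acts hx e (hsq a haB)
        exact ⟨⟨⟨y, by rw [Subgroup.mem_comap, hy]; exact haB⟩, false⟩, hy⟩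
      · have hxv : x * v * (x * v) = 1 := by
          rw [mul_assoc, ← mul_assoc v x v, ← hcomm haB hx, mul_assoc x v v, ← mul_assoc, e, hJ, zW_sq]
        obtain ⟨y, hy⟩ := mem_range_of_acts (show S.Acts (a * b) ((x * v : W1) : W) by rw [Subgroup.coe_mul]; exact hx.mul hv) hxv (hsq _ (mul_mem haB hbB))
        exact ⟨⟨⟨y, by rw [Subgroup.mem_comap, hy]; exact mul_mem haB hbB⟩, true⟩, hy⟩
    choose f hf using key
    have hf' : Function.Injective f := fun a a' e => by
      have h := hf a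
      rw [e, hf a'] at h
      cases hb' : (f a').2 <;> rw [hb'] at h
      · exact (Subtype.ext h).symm
      · exact (Subtype.ext (mul_right_cancel h)).symm
    have := hcard.trans (Nat.card_le_card_of_injective f hf')
    rw [Nat.card_prod, Nat.card_eq_fintype_card (α := Bool), Fintype.card_bool] at this
    rw [card_pull]
    omega
  haveI : Fintype (S.pull B) := Fintype.ofFinite _
  obtain ⟨T⟩ := exists_chi_split (S.pull B) (pull_sq hsq)
  have h6 : 6 ≤ Fintype.card T.ι := by
    by_contra hlt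
    have h := h64.trans (T.card_E_le (chi_injective _))
    have : 2 ^ Fintype.card T.ι ≤ 2 ^ 5 := Nat.pow_le_pow_right (by norm_num) (by omega)
    omega
  obtain ⟨i, hi⟩ : ∃ i, rk (T.P i) = 1 := by
    by_contra hcon
    push Not at hcon
    have h : ∑ _j : T.ι, 2 ≤ ∑ j, rk (T.P j) := Finset.sum_le_sum fun j _ => by
      have := rk_pos (T.ne j); have := hcon j; omega
    rw [T.rk_sum, Finset.sum_const, Finset.card_univ, smul_eq_mul] at h
    omega
  have hN : ∀ e : S.pull B, mat ((v : W) : Equiv.Perm (Fin 240)) * chi (S.pull B) e =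
      chi (S.pull B) e * mat ((v : W) : Equiv.Perm (Fin 240)) := by
    intro e
    obtain ⟨x, hx, hxe⟩ := (mem_pull B).1 e.2
    have h := congrArg (fun y : W1 => (y : W)) (hcomm hx (Ctx.acts_e x))
    simp only [Subgroup.coe_mul, hxe] at h
    show rho (v : W) * rho e.1 = rho e.1 * rho (v : W)
    rw [← map_mul, ← map_mul, h]
  obtain ⟨c, hc⟩ := scalar_of_rank_one hi (T.comm _ hN i)
  have hneg : mat ((v : W) : Equiv.Perm (Fin 240)) * mat ((v : W) : Equiv.Perm (Fin 240)) = -1 := by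
    have h : ((v : W) * (v : W) : W) = (zW : W) := congrArg (fun y : W1 => (y : W)) hJ
    show rho (v : W) * rho (v : W) = _
    rw [← map_mul, h]
    exact mat_negW
  have h2 : (c * c + 1) • T.P i = 0 := by
    have e : mat ((v : W) : Equiv.Perm (Fin 240)) * (mat ((v : W) : Equiv.Perm (Fin 240)) * T.P i) =
        mat ((v : W) : Equiv.Perm (Fin 240)) * (c • T.P i) := by rw [hc]
    rw [← mul_assoc, hneg, neg_mul, one_mul, mul_smul_comm, hc, smul_smul] at e
    rw [add_smul, one_smul, ← e, neg_add_cancel]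
  rcases smul_eq_zero.1 h2 with h | h
  · nlinarith [mul_self_nonneg c]
  · exact T.ne i h

end Ctx

variable [Finite G] {S : Ctx G}

/-- The systems carried by a group. -/
def Carried (S : Ctx G) (B : Subgroup G) : Prop :=
  ∃ (k : W) (T : Sys (S.twist k)), T.group = B ∧ (IsStd T ∨ T = diagSys (S.twist k))

variable {B : Subgroup G} (hz : S.z ∈ B) (hsq : ∀ b ∈ B, b * b = 1) (hcm : ∀ b ∈ B, b * S.z = S.z * b)

include hz hsq in
/-- Frame and diagonal groups without outer involutions. -/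
theorem carried_half (hcard : 128 ≤ Nat.card B) (hin : ∀ b ∈ B, ∃ v : W1, S.Acts b (v : W)) : Carried S B := by
  have hI : S.innerPart B = B := le_antisymm (fun b hb => hb.1) fun b hb => ⟨hb, hin b hb⟩
  have hr : ∀ b ∈ B, b ∈ S.e.range := fun b hb =>
    Ctx.inner_range hsq (hI.symm ▸ hcard) (hI.symm ▸ hb)
  have hc : 128 ≤ Nat.card (S.pull B) := by
    rw [Ctx.card_pull]
    refine hcard.trans (Nat.card_le_card_of_injective (fun b : B => (⟨(hr b b.2).choose, by
      rw [Subgroup.mem_comap, (hr b b.2).choose_spec]; exact b.2⟩ : B.comap S.e)) fun a a' e => Subtype.ext ?_)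
    rw [← (hr a a.2).choose_spec, ← (hr a' a'.2).choose_spec]
    exact congrArg S.e (congrArg Subtype.val e)
  have key : ∀ (h : W) (v : W1) (x : W1), h * (v : W) * h⁻¹ = (x : W) → (S.twist h⁻¹).e x = S.e v := fun h v x e => by
    show S.e (cW h⁻¹ x) = S.e v
    refine congrArg S.e (Subtype.ext ?_)
    rw [cW_val, ← e]; group
  rcases even128 _ (Ctx.pull_sq hsq) Ctx.pull_det hc with ⟨h, h1, h2⟩ | ⟨h, h1, h2⟩
  · refine ⟨h⁻¹, evenSys _, le_antisymm ?_ fun b hb => ?_, .inl (evenSys_std _)⟩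
    · rintro _ ⟨a, ha, rfl⟩
      obtain ⟨e, he, ea⟩ := h2 a ha
      obtain ⟨v, hv, rfl⟩ := (Ctx.mem_pull B).1 he
      show (S.twist h⁻¹).e (dv a) ∈ B
      rw [key h v (dv a) (by rw [dv_val ha]; exact Subtype.ext ea)]
      exact hv
    · obtain ⟨v, rfl⟩ := hr b hb
      obtain ⟨d, hd, ed⟩ := h1 _ ((Ctx.mem_pull B).2 ⟨v, hb, rfl⟩)
      exact ⟨d, hd, key h v (dv d) (by rw [dv_val hd]; exact Subtype.ext ed)⟩
  · refine ⟨h⁻¹, diagSys _, le_antisymm ?_ fun b hb => ?_, .inr rfl⟩
    · rintro _ ⟨a, ha, rfl⟩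
      obtain ⟨p, hp, ep⟩ := gv_list ha
      obtain ⟨e, he, ea⟩ := h2 p hp
      obtain ⟨v, hv, rfl⟩ := (Ctx.mem_pull B).1 he
      show (S.twist h⁻¹).e (gv a) ∈ B
      rw [key h v (gv a) (Subtype.ext (ea.trans ep.symm))]
      exact hv
    · obtain ⟨v, rfl⟩ := hr b hb
      obtain ⟨p, hp, ep⟩ := h1 _ ((Ctx.mem_pull B).2 ⟨v, hb, rfl⟩)
      obtain ⟨a, ha, ea⟩ := exists_gv hp
      exact ⟨a, ha, key h v (gv a) (Subtype.ext (ep.trans ea.symm))⟩

include hz hsq hcm in
/-- Groups of order 256 are frames with an outer involution. -/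
theorem carried_full (hcard : 256 ≤ Nat.card B) : Carried S B := by
  classical
  have hacts : ∀ b : B, ∃ w : W, S.Acts b w := fun b => S.exists_acts (hcm b b.2)
  choose ω hω using hacts
  have hI : 128 ≤ Nat.card (S.innerPart B) := by
    by_cases hall : ∀ b : B, ω b ∈ W1
    · have : S.innerPart B = B := le_antisymm (fun b hb => hb.1) fun b hb => ⟨hb, ⟨ω ⟨b, hb⟩, hall _⟩, hω ⟨b, hb⟩⟩
      rw [this]; omega
    · push Not at hall
      obtain ⟨b1, hb1⟩ := hall
      have hmul : ∀ {x y : W}, x ∉ W1 → y ∉ W1 → x * y ∈ W1 := fun {x y} hx hy => by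
        rw [Subgroup.mul_mem_iff_of_index_two index_W1]; exact iff_of_false hx hy
      let f : B → (S.innerPart B) × Bool := fun b =>
        if h : ω b ∈ W1 then (⟨b, b.2, ⟨ω b, h⟩, hω b⟩, false)
        else (⟨(b : G) * b1, mul_mem b.2 b1.2, ⟨ω b * ω b1, hmul h hb1⟩, (hω b).mul (hω b1)⟩, true)
      have hf : Function.Injective f := fun a a' e => by
        simp only [f] at e
        split_ifs at e with h h' h' <;> simp only [Prod.mk.injEq] at e
        · exact Subtype.ext (congrArg (fun z : S.innerPart B => (z : G)) e.1)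
        · exact absurd e.2 Bool.false_ne_true
        · exact absurd e.2.symm Bool.false_ne_true
        · exact Subtype.ext (mul_right_cancel (congrArg (fun z : S.innerPart B => (z : G)) e.1))
      have := hcard.trans (Nat.card_le_card_of_injective f hf)
      rw [Nat.card_prod, Nat.card_eq_fintype_card (α := Bool), Fintype.card_bool] at this
      omega
  have hrange : ∀ b ∈ S.innerPart B, b ∈ S.e.range := fun b hb => Ctx.inner_range hsq hI hb
  let E : Subgroup W :=
    { carrier := {w | ∃ b ∈ B, S.Acts b w}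
      one_mem' := ⟨1, one_mem B, Ctx.acts_cent (one_mem _)⟩
      mul_mem' := fun {w w'} ⟨b, hb, h⟩ ⟨b', hb', h'⟩ => ⟨b * b', mul_mem hb hb', h.mul h'⟩
      inv_mem' := fun {w} ⟨b, hb, h⟩ => ⟨b⁻¹, inv_mem hb, h.inv⟩ }
  have hEv : ∀ {b : G} {v : W1}, b ∈ B → S.Acts b (v : W) → S.e v ∈ B := by
    intro b v hb hv
    obtain ⟨v', rfl⟩ := hrange b ⟨hb, v, hv⟩
    rcases hv.unique (Ctx.acts_e v') with e | e
    · rw [show v = v' from Subtype.ext (Subtype.ext e)]; exact hb
    · rw [show v = zW * v' from Subtype.ext (Subtype.ext e), map_mul]; exact mul_mem hz hb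
  have hEsq : ∀ w ∈ E, w * w = 1 := by
    rintro w ⟨b, hb, hw⟩
    have h2 := hw.mul hw
    rw [hsq b hb] at h2
    rcases h2.unique (Ctx.acts_cent (one_mem _)) with e | e
    · exact Subtype.ext e
    · exfalso
      rw [Subgroup.coe_one, mul_one] at e
      have hw1 : w ∈ W1 := mem_W1_of_pow_eq_neg 2 (by rw [sq]; exact e)
      have h := hsq _ (hEv (v := ⟨w, hw1⟩) hb hw)
      rw [← map_mul] at h
      have := congrArg (fun y : W1 => ((y : W) : Equiv.Perm (Fin 240))) (S.inj (h.trans (map_one S.e).symm))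
      exact negW_ne_one (e.symm.trans this)
  have hEcard : 256 ≤ Nat.card E := by
    have hω1 : ∀ b : B, ω b ∈ W1 → ∃ v : W1, (b : G) = S.e v := fun b h => by
      obtain ⟨v, hv⟩ := hrange (b : G) ⟨b.2, ⟨ω b, h⟩, hω b⟩
      exact ⟨v, hv.symm⟩
    by_cases hall : ∀ b : B, ω b ∈ W1
    · choose v hv using fun b => hω1 b (hall b)
      refine hcard.trans (Nat.card_le_card_of_injective (fun b : B =>
        (⟨(v b : W), b, b.2, by rw [hv b]; exact Ctx.acts_e _⟩ : E)) fun a a' e => Subtype.ext ?_)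
      rw [hv a, hv a', show v a = v a' from Subtype.ext (Subtype.mk.inj e)]
    · push Not at hall
      obtain ⟨b1, hb1⟩ := hall
      have h2 : ∀ b : B, ω b ∉ W1 → ω (b * b1) ∈ W1 := fun b h => by
        have hprod : ω b * ω b1 ∈ W1 := by
          rw [Subgroup.mul_mem_iff_of_index_two index_W1]; exact iff_of_false h hb1
        exact ((hω (b * b1)).mem_iff ((hω b).mul (hω b1))).2 hprod
      choose v hv using hω1
      let f : B → E := fun b =>
        if h : ω b ∈ W1 then ⟨(v b h : W), b, b.2, by rw [hv b h]; exact Ctx.acts_e _⟩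
        else ⟨(v (b * b1) (h2 b h) : W) * ω b1, ((b * b1 : B) : G) * b1, mul_mem (b * b1).2 b1.2,
          (by rw [hv (b * b1) (h2 b h)]; exact Ctx.acts_e _ : S.Acts ((b * b1 : B) : G) _).mul (hω b1)⟩
      refine hcard.trans (Nat.card_le_card_of_injective f fun a a' e => ?_)
      have hcross : ∀ (x y : W1), (x : W) ≠ (y : W) * ω b1 := fun x y e =>
        hb1 (by rw [show ω b1 = (y : W)⁻¹ * x by rw [e]; group]; exact mul_mem (inv_mem y.2) x.2)
      simp only [f] at e
      split_ifs at e with h h' h' <;> simp only [Subtype.mk.injEq] at e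
      · exact Subtype.ext (by rw [hv a h, hv a' h', show v a h = v a' h' from Subtype.ext e])
      · exact absurd e (hcross _ _)
      · exact absurd e.symm (hcross _ _)
      · have e' : ((a * b1 : B) : G) = ((a' * b1 : B) : G) := by
          rw [hv _ (h2 a h), hv _ (h2 a' h'), show v (a * b1) (h2 a h) = v (a' * b1) (h2 a' h') from
            Subtype.ext (mul_right_cancel e)]
        exact mul_right_cancel (Subtype.ext e')
  obtain ⟨h, h1, h2⟩ := frame256 E hEsq hEcard
  obtain ⟨e1, ⟨b1, hb1, hw1⟩, he1⟩ := h2 1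
  have hu : (S.twist h⁻¹).Acts b1 ⟨D 1, D_mem 1⟩ := by
    have hx := hw1.twist h⁻¹
    rwa [inv_inv, show h * e1 * h⁻¹ = (⟨D 1, D_mem 1⟩ : W) from Subtype.ext he1] at hx
  have hd : oddM 1 = true := by rw [oddM, bits_eq]; decide
  have heven : ∀ a, Even (bits a) → ∃ v : W1, S.e v ∈ B ∧ (S.twist h⁻¹).e (dv a) = S.e v := by
    intro a ha
    obtain ⟨w, ⟨b, hb, hw⟩, hwd⟩ := h2 a
    have hw1' : w ∈ W1 := by
      rw [mem_W1]
      have := det_conj h.2 (w := (w : Equiv.Perm (Fin 240))) w.2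
      rw [Subgroup.coe_mul, Subgroup.coe_mul, Subgroup.coe_inv] at hwd
      rw [hwd] at this
      rw [← this, det_D_iff]; exact ha
    refine ⟨⟨w, hw1'⟩, hEv hb hw, congrArg S.e (Subtype.ext ?_)⟩
    show (cW h⁻¹ (dv a) : W) = _
    rw [cW_val, dv_val ha, show (⟨D a, D_mem a⟩ : W) = h * w * h⁻¹ from Subtype.ext hwd.symm]
    group
  refine ⟨h⁻¹, outerSys hd hu (hsq b1 hb1), le_antisymm ?_ fun b hb => ?_, .inl (outerSys_std hd hu _)⟩
  · rintro _ ⟨a, -, rfl⟩
    show outerPsi (S.twist h⁻¹) b1 1 a ∈ B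
    rw [outerPsi]
    split_ifs with ha
    · obtain ⟨v, hv, e⟩ := heven _ (even_shift hd ha)
      rw [e]; exact mul_mem hb1 hv
    · obtain ⟨v, hv, e⟩ := heven _ (oddM_false.1 (Bool.eq_false_iff.2 ha))
      rw [e]; exact hv
  · have hin : ∀ c ∈ B, ∀ v : W1, S.Acts c (v : W) → c ∈ (outerSys hd hu (hsq b1 hb1)).group := by
      intro c hc v hv
      obtain ⟨x, rfl⟩ := hrange c ⟨hc, v, hv⟩
      obtain ⟨d, hd'⟩ := h1 (x : W) ⟨S.e x, hc, Ctx.acts_e x⟩
      have hev : Even (bits d) := by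
        rw [← det_D_iff]
        rw [Subgroup.coe_mul, Subgroup.coe_mul, Subgroup.coe_inv] at hd'
        rw [← hd', det_conj h.2 (x : W).2]; exact mem_W1.1 x.2
      refine ⟨d, trivial, ((outerSys_std hd hu _).even d hev).2.trans (congrArg S.e (Subtype.ext ?_))⟩
      show (cW h⁻¹ (dv d) : W) = _
      rw [cW_val, dv_val hev, show (⟨D d, D_mem d⟩ : W) = h * (x : W) * h⁻¹ from Subtype.ext hd'.symm]
      group
    obtain ⟨w, hw⟩ := S.exists_acts (hcm b hb)
    by_cases hw' : w ∈ W1
    · exact hin b hb ⟨w, hw'⟩ hw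
    · have he' : e1 ∉ W1 := fun hcon => by
        rw [mem_W1] at hcon
        rw [Subgroup.coe_mul, Subgroup.coe_mul, Subgroup.coe_inv] at he1
        have := det_conj h.2 (w := (e1 : Equiv.Perm (Fin 240))) e1.2
        rw [he1, hcon, det_D_iff, ← oddM_false, hd] at this
        exact Bool.false_ne_true this.symm
      have hp : w * e1 ∈ W1 := by
        rw [Subgroup.mul_mem_iff_of_index_two index_W1]; exact iff_of_false hw' he'
      have h' := hin (b * b1) (mul_mem hb hb1) ⟨_, hp⟩ (hw.mul hw1)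
      have hb1' : b1 ∈ (outerSys hd hu (hsq b1 hb1)).group := ⟨1, trivial, outerSys_self hd hu _⟩
      exact (Subgroup.mul_mem_cancel_right _ hb1').1 h'

end Cfsg.Agent.StdO8
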