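import Cfsg.Agent.StdO8.Cover

/-!
Every automorphism of the double cover is conjugation by an element of the Weyl group of type `E8`.
-/

set_option autoImplicit false

namespace Cfsg.Agent.StdO8

/-- **The automorphisms of the double cover.** -/
theorem exists_conj (a : MulAut W1) :
    ∃ w ∈ W, ∀ x : W1, (a x).1.1 = w * x.1.1 * w⁻¹ := by
  obtain ⟨w, hw, h⟩ := StdOE.Cover.exists_conj ((toW1.symm.trans a).trans toW1)
  refine ⟨w, W_eq ▸ hw, fun x => ?_⟩
  have hx := h (toW1 x)
  simp only [MulEquiv.trans_apply, MulEquiv.symm_apply_apply] at hx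
  exact hx

/-- Only the centre centralises the double cover. -/
theorem centralizer_W1 {w : Equiv.Perm (Fin 240)} (hw : w ∈ W) (h : ∀ x : W1, w * x.1.1 = x.1.1 * w) :
    w = 1 ∨ w = negW := by
  have := StdOE.Cover.W_centralizer (W_eq.symm ▸ hw) fun m hm => h (toW1.symm ⟨m, hm⟩)
  rwa [negW_eq]

end Cfsg.Agent.StdO8
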