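import Cfsg.Agent.StdO8.Det

/-!
The setting: a subgroup isomorphic to the symmetries of determinant one, with the properties of a standard
subgroup whose centraliser has cyclic Sylow subgroups for the prime two.
-/

set_option autoImplicit false
set_option maxRecDepth 100000
set_option linter.unusedSectionVars false

universe u

namespace Cfsg.Agent.StdO8

/-- Conjugation by a symmetry on the symmetries of determinant one. -/
noncomputable def cW : W →* MulAut W1 :=
  haveI : W1.Normal := by unfold W1; infer_instance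
  MulAut.conjNormal

theorem cW_val (w : W) (x : W1) : ((cW w x : W1) : W) = w * x * w⁻¹ := by
  haveI : W1.Normal := by unfold W1; infer_instance
  exact MulAut.conjNormal_apply w x

theorem cW_inner (v x : W1) : cW (v : W) x = v * x * v⁻¹ := Subtype.ext (by rw [cW_val]; rfl)

theorem cW_zW (w : W) : cW w zW = zW := Subtype.ext (by
  rw [cW_val, mul_inv_eq_iff_eq_mul]
  refine rho_injective ?_
  rw [map_mul, map_mul]
  show rho w * mat negW = mat negW * rho w
  rw [mat_negW, mul_neg, neg_mul, mul_one, one_mul])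

theorem zW_ne : zW ≠ 1 := fun h => by
  have h1 : negW (ev 0) = ev 0 := by
    have h' : (negW : Equiv.Perm (Fin 240)) = 1 := congrArg (fun x : W1 => ((x : W) : Equiv.Perm (Fin 240))) h
    rw [h', Equiv.Perm.one_apply]
  rw [negW_apply] at h1
  exact negP_ne _ h1

theorem zW_sq : zW * zW = 1 := Subtype.ext (rho_injective (by
  rw [Subgroup.coe_mul, map_mul, Subgroup.coe_one, map_one]
  show mat negW * mat negW = 1
  rw [mat_negW, neg_mul_neg, mul_one]))

/-- The setting. -/
structure Ctx (G : Type u) [Group G] where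
  /-- the embedding of the cover -/
  e : W1 →* G
  /-- the odd part of the centraliser -/
  O : Subgroup G
  /-- the exponent of the Sylow subgroup of the centraliser -/
  r : ℕ
  /-- a generator of a Sylow subgroup of the centraliser -/
  h : G
  inj : Function.Injective e
  rpos : 1 ≤ r
  meet : ∀ x : W1, (∀ y, e x * e y = e y * e x) → x = 1 ∨ x = zW
  O_odd : Odd (Nat.card O)
  O_comm : ∀ o ∈ O, ∀ x, o * e x = e x * o
  O_normal : ∀ c, (∀ x, c * e x = e x * c) → ∀ o ∈ O, c * o * c⁻¹ ∈ O
  h_comm : ∀ x, h * e x = e x * h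
  h_pow : h ^ 2 ^ r = 1
  h_half : h ^ 2 ^ (r - 1) = e zW
  gen : ∀ c, (∀ x, c * e x = e x * c) → ∃ k : ℕ, ∃ o ∈ O, c = h ^ k * o
  act : ∀ g, g * e zW = e zW * g → ∃ w : W, ∀ x, g * e x * g⁻¹ = e (cW w x)

namespace Ctx

variable {G : Type u} [Group G] (S : Ctx G)

/-- The centralised involution. -/
noncomputable def z : G := S.e zW

/-- The centraliser of the cover. -/
def cent : Subgroup G := Subgroup.centralizer (S.e.range : Set G)

theorem mem_cent {c : G} : c ∈ S.cent ↔ ∀ x, c * S.e x = S.e x * c := by
  rw [cent, Subgroup.mem_centralizer_iff]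
  exact ⟨fun h x => (h _ ⟨x, rfl⟩).symm, fun h g ⟨x, hx⟩ => by rw [← hx, h x]⟩

/-- The setting moved by a symmetry. -/
noncomputable def twist (w : W) : Ctx G where
  e := S.e.comp (cW w).toMonoidHom
  O := S.O
  r := S.r
  h := S.h
  inj := S.inj.comp (cW w).injective
  rpos := S.rpos
  meet x hx := by
    have hx' : ∀ y, S.e (cW w x) * S.e y = S.e y * S.e (cW w x) := fun y => by
      have := hx ((cW w).symm y)
      simpa using this
    rcases S.meet (cW w x) hx' with h | h
    · exact .inl ((cW w).injective (by rw [h, map_one]))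
    · exact .inr ((cW w).injective (by rw [h, cW_zW]))
  O_odd := S.O_odd
  O_comm o ho x := S.O_comm o ho _
  O_normal c hc := S.O_normal c fun x => by simpa using hc ((cW w).symm x)
  h_comm x := S.h_comm _
  h_pow := S.h_pow
  h_half := by simpa [cW_zW] using S.h_half
  gen c hc := S.gen c fun x => by simpa using hc ((cW w).symm x)
  act g hg := by
    obtain ⟨v, hv⟩ := S.act g (by simpa [cW_zW] using hg)
    refine ⟨w⁻¹ * v * w, fun x => ?_⟩
    show g * S.e (cW w x) * g⁻¹ = S.e (cW w (cW (w⁻¹ * v * w) x))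
    rw [hv]
    congr 1
    rw [← MulAut.mul_apply, ← MulAut.mul_apply, ← map_mul, ← map_mul]
    group

theorem twist_z (w : W) : (S.twist w).z = S.z := by
  show S.e (cW w zW) = S.e zW
  rw [cW_zW]

/-- The setting moved by conjugation. -/
noncomputable def moved (g : G) : Ctx G where
  e := (MulAut.conj g).toMonoidHom.comp S.e
  O := S.O.map (MulAut.conj g).toMonoidHom
  r := S.r
  h := MulAut.conj g S.h
  inj := (MulAut.conj g).injective.comp S.inj
  rpos := S.rpos
  meet x hx := S.meet x fun y => (MulAut.conj g).injective (by rw [map_mul, map_mul]; exact hx y)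
  O_odd := by
    rw [Subgroup.card_map_of_injective (MulAut.conj g).injective]
    exact S.O_odd
  O_comm := by
    rintro _ ⟨o, ho, rfl⟩ x
    exact ((map_mul (MulAut.conj g) o (S.e x)).symm.trans (congrArg _ (S.O_comm o ho x))).trans (map_mul _ _ _)
  O_normal c hc := by
    rintro _ ⟨o, ho, rfl⟩
    obtain ⟨d, rfl⟩ := (MulAut.conj g).surjective c
    refine ⟨d * o * d⁻¹, S.O_normal d (fun x => (MulAut.conj g).injective ?_) o ho, ?_⟩
    · rw [map_mul, map_mul]; exact hc x
    · simp only [MulEquiv.coe_toMonoidHom, map_mul, map_inv]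
  h_comm x := ((map_mul (MulAut.conj g) S.h (S.e x)).symm.trans (congrArg _ (S.h_comm x))).trans (map_mul _ _ _)
  h_pow := by rw [← map_pow, S.h_pow, map_one]
  h_half := by rw [← map_pow, S.h_half]; rfl
  gen c hc := by
    obtain ⟨d, rfl⟩ := (MulAut.conj g).surjective c
    obtain ⟨k, o, ho, e⟩ := S.gen d fun x => (MulAut.conj g).injective (by rw [map_mul, map_mul]; exact hc x)
    exact ⟨k, MulAut.conj g o, ⟨o, ho, rfl⟩, by rw [e, map_mul, map_pow]⟩
  act a ha := by
    obtain ⟨d, rfl⟩ := (MulAut.conj g).surjective a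
    obtain ⟨w, hw⟩ := S.act d ((MulAut.conj g).injective (by rw [map_mul, map_mul]; exact ha))
    refine ⟨w, fun x => ?_⟩
    show MulAut.conj g d * MulAut.conj g (S.e x) * (MulAut.conj g d)⁻¹ = MulAut.conj g (S.e (cW w x))
    rw [← hw, map_mul, map_mul, map_inv]

theorem moved_z (g : G) : (S.moved g).z = g * S.z * g⁻¹ := rfl

end Ctx

end Cfsg.Agent.StdO8
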