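import Cfsg.Agent.StdO8.Linear

/-!
Three commuting involutive matrices of size eight with vanishing mixed traces split the space into
lines.
-/

set_option autoImplicit false

namespace Cfsg.Agent.StdO8

open Matrix

local notation "Mt" => Matrix (Fin 8) (Fin 8) ℚ

/-- The projection of a sign. -/
noncomputable def half2 (a : Mt) (s : Bool) : Mt := (1 / 2 : ℚ) • (1 + (cond s (-1 : ℚ) 1) • a)

theorem half2_idem {a : Mt} (h : a * a = 1) (s : Bool) : half2 a s * half2 a s = half2 a s := by
  cases s <;>
    simp only [half2, cond_true, cond_false, smul_mul_assoc, mul_smul_comm, add_mul, mul_add, one_mul, mul_one,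
      h, smul_smul] <;> module

theorem half2_sum (a : Mt) : half2 a true + half2 a false = 1 := by
  simp only [half2, cond_true, cond_false]; module

theorem half2_comm {N a : Mt} (h : N * a = a * N) (s : Bool) : N * half2 a s = half2 a s * N := by
  simp only [half2, smul_mul_assoc, mul_smul_comm, add_mul, mul_add, one_mul, mul_one, h]

/-- A rational cube root of one. -/
theorem cube_root_one {c : ℚ} (h : c ^ 3 = 1) : c = 1 := by
  have h2 : (c - 1) * ((c + 1 / 2) ^ 2 + 3 / 4) = 0 := by linear_combination h
  rcases mul_eq_zero.1 h2 with h3 | h3
  · linarith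
  · nlinarith [sq_nonneg (c + 1 / 2)]

/-- **A cube root of one commuting with the three involutions is trivial.** -/
theorem eight_lines {w a b N : Mt} (hw : w * w = 1) (ha : a * a = 1) (hb : b * b = 1)
    (wa : w * a = a * w) (wb : w * b = b * w) (ab : a * b = b * a)
    (ta : trace a = 0) (tb : trace b = 0) (tab : trace (a * b) = 0) (twa : trace (w * a) = 0)
    (twb : trace (w * b) = 0) (twab : trace (w * a * b) = 0) (hw1 : w ≠ 1) (hw2 : w ≠ -1)
    (nw : N * w = w * N) (na : N * a = a * N) (nb : N * b = b * N) (hN : N * N * N = 1) : N = 1 := by
  let P : Bool → Bool → Bool → Mt := fun s t u => half2 w s * half2 a t * half2 b u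
  have hidem : ∀ s t u, P s t u * P s t u = P s t u := by
    intro s t u
    have c1 : half2 a t * half2 w s = half2 w s * half2 a t := by
      rw [← half2_comm (N := half2 a t) _ s]
      exact (half2_comm wa t).symm
    have c2 : half2 b u * half2 w s = half2 w s * half2 b u := by
      rw [← half2_comm (N := half2 b u) _ s]
      exact (half2_comm wb u).symm
    have c3 : half2 b u * half2 a t = half2 a t * half2 b u := by
      rw [← half2_comm (N := half2 b u) _ t]
      exact (half2_comm ab u).symm
    calc P s t u * P s t u
        = half2 w s * half2 a t * (half2 b u * half2 w s) * half2 a t * half2 b u := by simp only [P, mul_assoc]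
      _ = half2 w s * (half2 a t * half2 w s) * (half2 b u * half2 a t) * half2 b u := by
          rw [c2]; simp only [mul_assoc]
      _ = half2 w s * half2 w s * (half2 a t * half2 a t) * (half2 b u * half2 b u) := by
          rw [c1, c3]; simp only [mul_assoc]
      _ = P s t u := by rw [half2_idem hw, half2_idem ha, half2_idem hb]
  have htr : ∀ s t u, trace (P s t u) = (8 + cond s (-1 : ℚ) 1 * trace w) / 8 := by
    intro s t u
    simp only [P, half2, smul_mul_assoc, mul_smul_comm, add_mul, mul_add, one_mul, mul_one, trace_smul,
      trace_add, trace_one, ta, tb, tab, twa, twb, twab, smul_eq_mul, Fintype.card_fin]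
    push_cast
    ring
  have hrk : ∀ s t u, (rk (P s t u) : ℚ) = (8 + cond s (-1 : ℚ) 1 * trace w) / 8 := fun s t u => by
    rw [← trace_idem (hidem s t u), htr]
  have hzero : ∀ s t u, rk (P s t u) = 0 → P s t u = 0 := fun s t u h => by
    by_contra h0
    exact absurd h (Nat.pos_iff_ne_zero.1 (rk_pos h0))
  have hsumtu : ∀ s, P s true true + P s true false + (P s false true + P s false false) = half2 w s := by
    intro s
    simp only [P]
    rw [← mul_add, ← mul_add, half2_sum, mul_one, mul_one, ← mul_add, half2_sum, mul_one]
  have hone : ∀ s t u, rk (P s t u) = 1 := by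
    intro s t u
    have e1 := hrk true t u
    have e2 := hrk false t u
    simp only [cond_true, cond_false] at e1 e2
    have hs : ((rk (P true t u) + rk (P false t u) : ℕ) : ℚ) = ((2 : ℕ) : ℚ) := by push_cast; linarith
    have hsum : rk (P true t u) + rk (P false t u) = 2 := by exact_mod_cast hs
    have hnot : ∀ s', rk (P s' t u) ≠ 0 := by
      intro s' h0
      have hall : ∀ t' u', P s' t' u' = 0 := fun t' u' => hzero _ _ _ (by
        have h' : (rk (P s' t' u') : ℚ) = (rk (P s' t u) : ℚ) := by rw [hrk, hrk]
        rw [h0] at h'
        exact_mod_cast h')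
      have h' := hsumtu s'
      rw [hall, hall, hall, hall, add_zero, add_zero] at h'
      cases s'
      · refine hw2 ?_
        simp only [half2, cond_false, one_smul] at h'
        have h2 := (smul_eq_zero.1 h'.symm).resolve_left (by norm_num)
        exact eq_neg_of_add_eq_zero_right h2
      · refine hw1 ?_
        simp only [half2, cond_true] at h'
        have h2 := (smul_eq_zero.1 h'.symm).resolve_left (by norm_num)
        rw [neg_one_smul, ← sub_eq_add_neg, sub_eq_zero] at h2
        exact h2.symm
    have h1 := hnot true
    have h2 := hnot false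
    cases s <;> omega
  have hfix : ∀ s t u, N * P s t u = P s t u := by
    intro s t u
    have hc : N * P s t u = P s t u * N := by
      simp only [P]
      rw [← mul_assoc, ← mul_assoc, half2_comm nw, mul_assoc (half2 w s) N, half2_comm na, ← mul_assoc,
        mul_assoc _ N, half2_comm nb, ← mul_assoc]
    obtain ⟨c, hc'⟩ := scalar_of_rank_one (hone s t u) hc
    have h3 : (c ^ 3) • P s t u = P s t u := by
      calc (c ^ 3) • P s t u = N * (N * (N * P s t u)) := by
            rw [hc', mul_smul_comm, hc', mul_smul_comm, mul_smul_comm, hc', smul_smul, smul_smul]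
            ring_nf
        _ = P s t u := by rw [← mul_assoc, ← mul_assoc, hN, one_mul]
    have hP : P s t u ≠ 0 := fun h0 => by
      have h1 := htr s t u
      rw [← hrk s t u, hone, h0, trace_zero] at h1
      norm_num at h1
    have hcc : c ^ 3 = 1 := by
      by_contra hne
      refine hP ?_
      have h4 : (c ^ 3 - 1) • P s t u = 0 := by rw [sub_smul, one_smul, h3, sub_self]
      exact (smul_eq_zero.1 h4).resolve_left (sub_ne_zero.2 hne)
    rw [hc', cube_root_one hcc, one_smul]
  calc N = N * (half2 w true + half2 w false) := by rw [half2_sum, mul_one]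
    _ = half2 w true + half2 w false := by
        rw [← hsumtu, ← hsumtu]
        simp only [mul_add, hfix]
    _ = 1 := half2_sum w

end Cfsg.Agent.StdO8
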