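import Cfsg.Agent.StdO8.QuadData
import Cfsg.Agent.StdO8.QuadMat
import Cfsg.Agent.StdO8.Ctx
import Cfsg.Agent.StdO8.AutL

/-!
The symmetry negating a frame quad is not fused with the central involution.
-/

set_option autoImplicit false
set_option maxRecDepth 100000

universe u

namespace Cfsg.Agent.StdO8

theorem zW_comm (x : W1) : zW * x = x * zW :=
  W1_ext (by
    show negW * ((x : W) : Equiv.Perm (Fin 240)) = _ * negW
    exact (negW_comm (x : W).2).symm)

/-- The matrix of a symmetry of determinant one. -/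
noncomputable def chi1 : W1 →* Matrix (Fin 8) (Fin 8) ℚ := rho.comp W1.subtype

theorem chi1_zW : chi1 zW = -1 := mat_negW

theorem chi1_injective : Function.Injective chi1 := fun _ _ h => Subtype.ext (rho_injective h)

theorem trace_of_anticomm {K X : Matrix (Fin 8) (Fin 8) ℚ} (hK : K * K = -1) (h : K * X = -(X * K)) :
    Matrix.trace X = 0 := by
  have e : K * X * K = X := by rw [h, neg_mul, mul_assoc, hK, mul_neg, mul_one, neg_neg]
  have e2 := congrArg Matrix.trace e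
  rw [Matrix.trace_mul_cycle, hK, neg_mul, one_mul, Matrix.trace_neg] at e2
  linarith

namespace Ctx

variable {G : Type u} [Group G] (S : Ctx G)

/-- The cover times the odd part. -/
def prodSub : Subgroup G where
  carrier := {c | ∃ x, ∃ o ∈ S.O, c = S.e x * o}
  one_mem' := ⟨1, 1, one_mem _, by rw [map_one, mul_one]⟩
  mul_mem' := by
    rintro _ _ ⟨x, o, ho, rfl⟩ ⟨x', o', ho', rfl⟩
    refine ⟨x * x', o * o', mul_mem ho ho', ?_⟩
    rw [map_mul, mul_assoc, ← mul_assoc o, S.O_comm o ho x']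
    group
  inv_mem' := by
    rintro _ ⟨x, o, ho, rfl⟩
    refine ⟨x⁻¹, o⁻¹, inv_mem ho, ?_⟩
    rw [mul_inv_rev, ← map_inv, S.O_comm _ (inv_mem ho)]

theorem mem_prodSub {c : G} : c ∈ S.prodSub ↔ ∃ x, ∃ o ∈ S.O, c = S.e x * o := Iff.rfl

theorem conj_h_mem {p : G} (hp : p ∈ S.prodSub) : S.h * p * S.h⁻¹ ∈ S.prodSub := by
  obtain ⟨x, o, ho, rfl⟩ := hp
  refine ⟨x, S.h * o * S.h⁻¹, S.O_normal S.h S.h_comm o ho, ?_⟩
  rw [← mul_assoc, S.h_comm, mul_assoc (S.e x), mul_assoc (S.e x)]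

theorem O_pow_eq_one {o : G} (ho : o ∈ S.O) {n : ℕ} (hn : o ^ n = 1) (hco : Nat.Coprime n (Nat.card S.O)) :
    o = 1 := by
  have h1 : (⟨o, ho⟩ : S.O) ^ n = 1 := Subtype.ext hn
  have h2 : (⟨o, ho⟩ : S.O) ^ Nat.card S.O = 1 := pow_card_eq_one'
  have h3 := pow_gcd_eq_one.2 ⟨h1, h2⟩
  rw [Nat.coprime_iff_gcd_eq_one.1 hco, pow_one] at h3
  exact congrArg Subtype.val h3

theorem prod_pow {x : W1} {o : G} (ho : o ∈ S.O) {n : ℕ} (h : (S.e x * o) ^ n = 1) : x ^ n = 1 ∧ o ^ n = 1 := by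
  have hc : Commute (S.e x) o := (S.O_comm o ho x).symm
  rw [hc.mul_pow, ← map_pow] at h
  have e : S.e (x ^ n) = (o ^ n)⁻¹ := eq_inv_of_mul_eq_one_left h
  rcases S.meet (x ^ n) (fun y => by rw [e]; exact S.O_comm _ (inv_mem (pow_mem ho n)) y) with h1 | h1
  · refine ⟨h1, ?_⟩
    rw [h1, map_one, one_mul] at h
    exact h
  · exfalso
    have hz : S.e zW ∈ S.O := by rw [← h1, e]; exact inv_mem (pow_mem ho n)
    refine zW_ne (S.inj ((S.O_pow_eq_one hz (n := 2) ?_ ?_).trans (map_one _).symm))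
    · rw [pow_two, ← map_mul, zW_sq, map_one]
    · exact Nat.coprime_two_left.2 S.O_odd

theorem odd_mem_prodSub {c : G} {m : ℕ} (hm : Odd m) (hc : c ^ m = 1) (hcz : c * S.e zW = S.e zW * c) :
    c ∈ S.prodSub := by
  obtain ⟨w, hw⟩ := S.act c hcz
  have hit : ∀ n : ℕ, ∀ x, c ^ n * S.e x * (c ^ n)⁻¹ = S.e (cW (w ^ n) x) := by
    intro n
    induction n with
    | zero => intro x; simp
    | succ n ih =>
      intro x
      rw [pow_succ', mul_inv_rev, show c * c ^ n * S.e x * ((c ^ n)⁻¹ * c⁻¹) = c * (c ^ n * S.e x * (c ^ n)⁻¹) * c⁻¹ by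
        group, ih, hw, pow_succ', map_mul, MulAut.mul_apply]
  have hfix : ∀ x, cW (w ^ m) x = x := fun x => S.inj (by
    rw [← hit m x, hc]; group)
  have hwm : (w ^ m : W) ∈ W1 := by
    rcases centralizer_W1 (w ^ m : W).2 (fun x => by
      have h := congrArg (fun v : W1 => ((v : W) : Equiv.Perm (Fin 240))) (hfix x)
      rw [cW_val] at h
      simp only [Subgroup.coe_mul, Subgroup.coe_inv] at h
      exact mul_inv_eq_iff_eq_mul.1 h) with h | h
    · rw [show (w ^ m : W) = 1 from Subtype.ext h]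
      exact one_mem _
    · rw [show (w ^ m : W) = ⟨negW, negW_mem⟩ from Subtype.ext h]
      exact (zW).2
  have hw1 : w ∈ W1 := by
    show detW w = 1
    have h1 : detW w ^ m = 1 := by rw [← map_pow]; exact hwm
    rcases det_cases w with h | h
    · exact h
    · rw [h, hm.neg_one_pow] at h1
      norm_num at h1
  set x₀ : W1 := ⟨w, hw1⟩
  obtain ⟨k, o, ho, hco⟩ := S.gen ((S.e x₀)⁻¹ * c) fun x => by
    have h := hw x
    rw [show w = ((x₀ : W1) : W) from rfl, cW_inner, map_mul, map_mul, map_inv] at h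
    calc (S.e x₀)⁻¹ * c * S.e x = (S.e x₀)⁻¹ * (c * S.e x * c⁻¹) * c := by group
      _ = _ := by rw [h]; group
  have hce : c = S.e x₀ * (S.h ^ k * o) := by rw [← hco]; group
  have hx₀ : S.e x₀ ∈ S.prodSub := ⟨x₀, 1, one_mem _, by rw [mul_one]⟩
  have ho' : o ∈ S.prodSub := ⟨1, o, ho, by rw [map_one, one_mul]⟩
  -- powers of the generator normalise the product
  have hconj : ∀ n : ℕ, ∀ p ∈ S.prodSub, S.h ^ n * p * (S.h ^ n)⁻¹ ∈ S.prodSub := by
    intro n
    induction n with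
    | zero => intro p hp; simpa using hp
    | succ n ih =>
      intro p hp
      rw [pow_succ', mul_inv_rev, show S.h * S.h ^ n * p * ((S.h ^ n)⁻¹ * S.h⁻¹) =
        S.h * (S.h ^ n * p * (S.h ^ n)⁻¹) * S.h⁻¹ by group]
      exact S.conj_h_mem (ih p hp)
  have hpow : ∀ n : ℕ, ∃ p ∈ S.prodSub, c ^ n = p * S.h ^ (k * n) := by
    intro n
    induction n with
    | zero => exact ⟨1, one_mem _, by simp⟩
    | succ n ih =>
      obtain ⟨p, hp, e⟩ := ih
      refine ⟨p * (S.h ^ (k * n) * S.e x₀ * (S.h ^ (k * n))⁻¹) *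
        (S.h ^ (k * n + k) * o * (S.h ^ (k * n + k))⁻¹), mul_mem (mul_mem hp (hconj _ _ hx₀)) (hconj _ _ ho'), ?_⟩
      rw [pow_succ, e, hce, show k * (n + 1) = k * n + k by ring, pow_add]
      group
  obtain ⟨p, hp, e⟩ := hpow m
  rw [hc] at e
  have hkm : S.h ^ (k * m) ∈ S.prodSub := by
    rw [show S.h ^ (k * m) = p⁻¹ by rw [eq_inv_iff_mul_eq_one]; exact mul_eq_one_comm.1 e.symm]
    exact inv_mem hp
  have hk : S.h ^ k ∈ S.prodSub := by
    obtain ⟨j, hj⟩ := hm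
    obtain ⟨i, hi⟩ : ∃ i, (m * i) % 2 ^ S.r = 1 := by
      have hco : Nat.Coprime m (2 ^ S.r) := Nat.Coprime.pow_right _ (Nat.coprime_two_right.2 ⟨j, hj⟩)
      obtain ⟨i, -, hi⟩ := Nat.exists_mul_mod_eq_one_of_coprime hco
        (Nat.one_lt_two_pow (by have := S.rpos; omega))
      exact ⟨i, hi⟩
    have h2 : (S.h ^ (k * m)) ^ i = S.h ^ k := by
      rw [← pow_mul, mul_assoc, ← Nat.div_add_mod (m * i) (2 ^ S.r), hi, mul_add, mul_one, pow_add,
        mul_left_comm, pow_mul, S.h_pow, one_pow, one_mul]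
    exact h2 ▸ pow_mem hkm i
  rw [hce]
  exact mul_mem hx₀ (mul_mem hk ho')

end Ctx

/-- **The quad class is not fused with the central involution.** -/
theorem quad_not_conj {G : Type u} [Group G] (S : Ctx G) (y : W1)
    (hy : ((y : W) : Equiv.Perm (Fin 240)) = D 15) : ¬ IsConj (S.e y) S.z := by
  intro hconj
  obtain ⟨g, hg⟩ := isConj_iff.1 hconj
  let φ : W1 →* G := (MulAut.conj g).toMonoidHom.comp S.e
  have hφi : Function.Injective φ := (MulAut.conj g).injective.comp S.inj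
  have hφy : φ y = S.e zW := hg
  obtain ⟨⟨rh, rk, rh', rk', ry⟩, ⟨rhk, rhk'⟩, ⟨c1, c2, c3, c4⟩, ⟨f1, f2, f3, f4⟩, rd, rfd⟩ :=
    witness_rel hy (h := pairW 0 57 * pairW 1 70) rfl (k := pairW 0 57 * pairW 2 71) rfl
      (h' := pairW 0 57 * pairW 1 71) rfl (k' := pairW 0 57 * pairW 2 69) rfl
      (f := pairW 4 56) rfl (d := pairW 4 56 * pairW 5 66) rfl
  have inP : ∀ x : W1, x ^ 3 = 1 → x * y = y * x → φ x ∈ S.prodSub := fun x h3 hx =>
    S.odd_mem_prodSub (m := 3) ⟨1, rfl⟩ (by rw [← map_pow, h3, map_one])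
      (by rw [← hφy, ← map_mul, ← map_mul, hx])
  have hp : ∀ a b, [a, b] ∈ [[0, 57], [1, 70], [2, 71], [1, 71], [2, 69], [4, 56], [5, 66]] →
      φ (pairW a b) ∈ S.prodSub := fun a b h => inP _ (pair_spec hy h).1 (pair_spec hy h).2
  have hpair : ∀ a b c d, [a, b] ∈ [[0, 57], [1, 70], [2, 71], [1, 71], [2, 69], [4, 56], [5, 66]] →
      [c, d] ∈ [[0, 57], [1, 70], [2, 71], [1, 71], [2, 69], [4, 56], [5, 66]] →
      φ (pairW a b * pairW c d) ∈ S.prodSub := fun a b c d h h' => map_mul φ _ _ ▸ mul_mem (hp a b h) (hp c d h')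
  -- elements of order dividing four lie in the cover
  have four : ∀ x : W1, x ^ 4 = 1 → φ x ∈ S.prodSub → ∃ X : W1, φ x = S.e X := by
    intro x h4 hx
    obtain ⟨X, o, ho, e⟩ := hx
    obtain ⟨-, ho4⟩ := S.prod_pow (x := X) ho (n := 4) (by rw [← e, ← map_pow, h4, map_one])
    have ho1 := S.O_pow_eq_one ho ho4 (Nat.Coprime.pow_left 2 (Nat.coprime_two_left.2 S.O_odd) :
      Nat.Coprime 4 _)
    exact ⟨X, by rw [e, ho1, mul_one]⟩
  have sq4 : ∀ x : W1, x * x = y → x ^ 4 = 1 := fun x h => by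
    rw [pow_succ, pow_succ, pow_succ, pow_one, mul_assoc (x * x), h, ry]
  obtain ⟨H, eH⟩ := four _ (sq4 _ rh) (hpair _ _ _ _ (by simp) (by simp))
  obtain ⟨K, eK⟩ := four _ (sq4 _ rk) (hpair _ _ _ _ (by simp) (by simp))
  obtain ⟨H', eH'⟩ := four _ (sq4 _ rh') (hpair _ _ _ _ (by simp) (by simp))
  obtain ⟨K', eK'⟩ := four _ (sq4 _ rk') (hpair _ _ _ _ (by simp) (by simp))
  obtain ⟨Dd, eD⟩ := four _ rd (hpair _ _ _ _ (by simp) (by simp))
  -- the other involution
  have hyne : zW ≠ y := fun h => by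
    have h' := congrArg (fun w : W1 => ((w : W) : Equiv.Perm (Fin 240)) (ev 4)) h
    simp only [hy] at h'
    rw [D_ev] at h'
    rw [if_neg (by decide)] at h'
    exact negP_ne _ h'
  have hzP : φ zW ∈ S.prodSub := by
    have hm : ∀ a b, [a, b] ∈ [[0, 57], [1, 70], [2, 71], [1, 71], [2, 69], [4, 56], [5, 66]] →
        φ (moveT (pairW a b)) ∈ S.prodSub := fun a b h => by
      obtain ⟨h3, hc⟩ := pair_spec hy h
      refine inP _ (by rw [← map_pow, h3, map_one]) ?_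
      have h' := congrArg moveT hc
      rw [map_mul, map_mul, moveT_y hy, ← mul_assoc, ← zW_comm, mul_assoc, mul_assoc] at h'
      exact mul_left_cancel h'
    have hz : zW = pairW 0 57 * pairW 1 70 * (pairW 0 57 * pairW 1 70) *
        (moveT (pairW 0 57) * moveT (pairW 1 70) * (moveT (pairW 0 57) * moveT (pairW 1 70))) := by
      rw [← map_mul, ← map_mul, rh, moveT_y hy, ← mul_assoc, ← zW_comm, mul_assoc, ry, mul_one]
    have q0 := hpair 0 57 1 70 (by simp) (by simp)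
    rw [hz, map_mul φ, map_mul φ (pairW 0 57 * pairW 1 70), map_mul φ (moveT (pairW 0 57) * _),
      map_mul φ (moveT (pairW 0 57))]
    exact mul_mem (mul_mem q0 q0) (mul_mem (mul_mem (hm 0 57 (by simp)) (hm 1 70 (by simp)))
      (mul_mem (hm 0 57 (by simp)) (hm 1 70 (by simp))))
  obtain ⟨w, ew⟩ := four zW (by rw [pow_succ, pow_succ, pow_succ, pow_one, mul_assoc (zW * zW), zW_sq,
    mul_one]) hzP
  have tr : ∀ {a b a' b' : W1}, φ a = S.e a' → φ b = S.e b' → φ (a * b) = S.e (a' * b') := fun h1 h2 => by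
    rw [map_mul, map_mul, h1, h2]
  have tre : ∀ {a b : W1}, φ y = S.e a → φ y = S.e b → a = b := fun h1 h2 => S.inj (h1.symm.trans h2)
  have cm : ∀ {a b a' b' : W1}, φ a = S.e a' → φ b = S.e b' → Commute a b → a' * b' = b' * a' :=
    fun h1 h2 h => S.inj ((tr h1 h2).symm.trans ((congrArg φ h.eq).trans (tr h2 h1)))
  have sHH : H * H = zW := S.inj ((tr eH eH).symm.trans ((congrArg φ rh).trans hφy))
  have sKK : K * K = zW := S.inj ((tr eK eK).symm.trans ((congrArg φ rk).trans hφy))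
  have sHH' : H' * H' = zW := S.inj ((tr eH' eH').symm.trans ((congrArg φ rh').trans hφy))
  have sKK' : K' * K' = zW := S.inj ((tr eK' eK').symm.trans ((congrArg φ rk').trans hφy))
  have sHK : H * K = zW * K * H := S.inj ((tr eH eK).symm.trans ((congrArg φ rhk).trans (tr (tr hφy eK) eH)))
  have sHK' : H' * K' = zW * K' * H' :=
    S.inj ((tr eH' eK').symm.trans ((congrArg φ rhk').trans (tr (tr hφy eK') eH')))
  have sw : w * w = 1 := S.inj ((tr ew ew).symm.trans (by rw [zW_sq, map_one, map_one]))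
  have hwne : w ≠ 1 := fun h => zW_ne (hφi (by rw [ew, h, map_one, map_one]))
  have hwz : w ≠ zW := fun h => hyne (hφi (by rw [ew, h, hφy]))
  have cz : ∀ x : W1, Commute zW x := zW_comm
  -- the element of order three
  obtain ⟨F, o, ho, eF⟩ := hp 4 56 (by simp)
  obtain ⟨hF3, -⟩ := S.prod_pow (x := F) ho (n := 3) (by
    rw [← eF, ← map_pow, (pair_spec hy (show [4, 56] ∈ _ by simp)).1, map_one])
  have cF : ∀ {a a' : W1}, φ a = S.e a' → Commute (pairW 4 56) a → F * a' = a' * F := by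
    intro a a' h1 h
    refine S.inj (mul_right_cancel (b := o) ?_)
    have h2 := congrArg φ h.eq
    rw [map_mul, map_mul, eF, h1, mul_assoc, S.O_comm o ho, ← mul_assoc, ← mul_assoc] at h2
    rw [map_mul, map_mul]
    exact h2
  -- the matrices
  have X : ∀ {a b : W1}, a = b → chi1 a = chi1 b := fun h => congrArg chi1 h
  have mHH := X sHH; have mKK := X sKK; have mHH' := X sHH'; have mKK' := X sKK'
  have mHK := X sHK; have mHK' := X sHK'; have mww := X sw
  have mHH2 := X (cm eH eH' c1); have mHK2 := X (cm eH eK' c2)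
  have mKH2 := X (cm eK eH' c3); have mKK2 := X (cm eK eK' c4)
  have mwH := X (cm ew eH (cz _)); have mwK := X (cm ew eK (cz _))
  have mwH' := X (cm ew eH' (cz _)); have mwK' := X (cm ew eK' (cz _))
  have mFH := X (cF eH f1); have mFK := X (cF eK f2); have mFH' := X (cF eH' f3); have mFK' := X (cF eK' f4)
  have mFw := X (cF ew (cz _).symm)
  have mF3 := X hF3
  simp only [map_mul, map_pow, map_one, chi1_zW, neg_mul, one_mul] at mHH mKK mHH' mKK' mHK mHK' mww mHH2 mHK2 mKH2 mKK2 mwH mwK mwH' mwK' mFH mFK mFH' mFK' mFw mF3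
  set h₁ := chi1 H
  set k₁ := chi1 K
  set h₂ := chi1 H'
  set k₂ := chi1 K'
  set ω := chi1 w
  set N := chi1 F
  have haa : (h₁ * h₂) * (h₁ * h₂) = 1 := by
    rw [mul_assoc, ← mul_assoc h₂, ← mHH2, mul_assoc, mHH', mul_neg, mul_one, mul_neg, mHH, neg_neg]
  have hbb : (k₁ * k₂) * (k₁ * k₂) = 1 := by
    rw [mul_assoc, ← mul_assoc k₂, ← mKK2, mul_assoc, mKK', mul_neg, mul_one, mul_neg, mKK, neg_neg]
  have hKa : k₁ * (h₁ * h₂) = -(h₁ * h₂ * k₁) := by
    rw [mul_assoc h₁, ← mKH2, ← mul_assoc, ← mul_assoc, mHK, neg_mul, neg_neg]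
  have hHb : h₁ * (k₁ * k₂) = -(k₁ * k₂ * h₁) := by
    rw [← mul_assoc, mHK, neg_mul, mul_assoc, mHK2, ← mul_assoc]
  have hKb : k₁ * (k₁ * k₂) = k₁ * k₂ * k₁ := by rw [mul_assoc k₁ k₂, ← mKK2]
  have hab : h₁ * h₂ * (k₁ * k₂) = k₁ * k₂ * (h₁ * h₂) := by
    calc h₁ * h₂ * (k₁ * k₂) = h₁ * (h₂ * k₁) * k₂ := by simp only [mul_assoc]
      _ = (h₁ * k₁) * (h₂ * k₂) := by rw [← mKH2]; simp only [mul_assoc]
      _ = k₁ * (h₁ * k₂) * h₂ := by rw [mHK, mHK']; simp only [neg_mul_neg, mul_assoc]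
      _ = k₁ * k₂ * (h₁ * h₂) := by rw [mHK2]; simp only [mul_assoc]
  have hwa : ω * (h₁ * h₂) = h₁ * h₂ * ω := by rw [← mul_assoc, mwH, mul_assoc, mwH', ← mul_assoc]
  have hwb : ω * (k₁ * k₂) = k₁ * k₂ * ω := by rw [← mul_assoc, mwK, mul_assoc, mwK', ← mul_assoc]
  have ta := trace_of_anticomm mKK hKa
  have tb := trace_of_anticomm mHH hHb
  have hKab : k₁ * (h₁ * h₂ * (k₁ * k₂)) = -(h₁ * h₂ * (k₁ * k₂) * k₁) := by
    rw [← mul_assoc, hKa, neg_mul, mul_assoc (h₁ * h₂) k₁, hKb, ← mul_assoc]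
  have tab := trace_of_anticomm mKK hKab
  have twa := trace_of_anticomm mKK (X := ω * (h₁ * h₂)) (by
    rw [← mul_assoc, ← mwK, mul_assoc, hKa, mul_neg, ← mul_assoc])
  have twb := trace_of_anticomm mHH (X := ω * (k₁ * k₂)) (by
    rw [← mul_assoc, ← mwH, mul_assoc, hHb, mul_neg, ← mul_assoc])
  have twab := trace_of_anticomm mKK (X := ω * (h₁ * h₂) * (k₁ * k₂)) (by
    rw [mul_assoc ω, ← mul_assoc, ← mwK, mul_assoc, hKab, mul_neg, ← mul_assoc, ← mul_assoc])
  have hω1 : ω ≠ 1 := fun h => hwne (chi1_injective (h.trans (map_one _).symm))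
  have hω2 : ω ≠ -1 := fun h => hwz (chi1_injective (h.trans chi1_zW.symm))
  have hN : N = 1 := eight_lines mww haa hbb hwa hwb hab ta tb tab twa twb twab hω1 hω2 mFw
    (by rw [← mul_assoc, mFH, mul_assoc, mFH', ← mul_assoc])
    (by rw [← mul_assoc, mFK, mul_assoc, mFK', ← mul_assoc])
    (by rw [← mF3, pow_succ, pow_succ, pow_one])
  have hF1 : F = 1 := chi1_injective (hN.trans (map_one _).symm)
  rw [hF1, map_one, one_mul] at eF
  refine rfd (hφi ?_)
  rw [map_mul φ (pairW 4 56), map_mul φ _ (pairW 4 56), eD, eF]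
  exact S.O_comm o ho Dd

end Cfsg.Agent.StdO8
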