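import Cfsg.Agent.StdO8.KillC
import Cfsg.Agent.StdO8.Classify
import Cfsg.Agent.StdO8.QuadFuse

/-!
No conjugate of the central involution, other than itself, commutes with it.
-/

set_option autoImplicit false
set_option maxRecDepth 100000
set_option maxHeartbeats 1000000
set_option linter.unusedSectionVars false

universe u

namespace Cfsg.Agent.StdO8

variable {G : Type u} [Group G] [Finite G]

theorem card_even_masks : Nat.card {a : Fin 256 // Even (bits a)} = 128 := by
  classical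
  rw [Nat.card_eq_fintype_card, Fintype.card_subtype]
  convert even_mask_card using 2
  ext d
  simp only [Finset.mem_filter, Finset.mem_univ, true_and, decide_eq_true_eq, bits_eq, Nat.even_iff]

theorem Sys.card_group_ge {S : Ctx G} (A : Sys S) : Nat.card {a // A.P a} ≤ Nat.card A.group :=
  Nat.card_le_card_of_injective (fun a => ⟨A.ψ a.1, A.mem_group.2 ⟨a.1, a.2, rfl⟩⟩) fun a b h =>
    Subtype.ext (A.inj _ _ a.2 b.2 (congrArg Subtype.val h))

/-- An involution of the cover other than the central one is a conjugate of an even sign change. -/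
theorem conj_dv (S : Ctx G) {x : W1} (hx : x * x = 1) (h1 : x ≠ 1) (hz : x ≠ zW) :
    ∃ a, Even (bits a) ∧ a ≠ 0 ∧ a ≠ 255 ∧ IsConj (S.e x) (S.e (dv a)) := by
  have h2 : ((x : W) : Equiv.Perm (Fin 240)) * ((x : W) : Equiv.Perm (Fin 240)) = 1 :=
    congrArg (fun y : W1 => ((y : W) : Equiv.Perm (Fin 240))) hx
  obtain ⟨h, hh, d, hd⟩ := exists_diag (x : W).2 h2
  have hev : Even (bits d) := by
    rw [← det_D_iff, ← hd, det_conj hh (x : W).2]; exact mem_W1.1 x.2
  obtain ⟨k, hk⟩ : ∃ k : W1, ((k : W) : Equiv.Perm (Fin 240)) * ((x : W) : Equiv.Perm (Fin 240)) *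
      ((k : W) : Equiv.Perm (Fin 240))⁻¹ = D d := by
    rcases det_cases ⟨h, hh⟩ with e | e <;> rw [detW_apply] at e
    · exact ⟨⟨⟨h, hh⟩, mem_W1.2 e⟩, hd⟩
    · refine ⟨⟨⟨D 1 * h, mul_mem (D_mem _) hh⟩, mem_W1.2 ?_⟩, ?_⟩
      · show (Matrix.det (mat (D 1 * h))) = 1
        rw [mat_mul (D_mem _), Matrix.det_mul, e, det_D, show bits 1 = 1 from by rw [bits_eq]; decide]
        norm_num
      · show D 1 * h * _ * (D 1 * h)⁻¹ = _
        rw [show D 1 * h * ((x : W) : Equiv.Perm (Fin 240)) * (D 1 * h)⁻¹ =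
          D 1 * (h * ((x : W) : Equiv.Perm (Fin 240)) * h⁻¹) * (D 1)⁻¹ by group, hd, ← D_mx, mx_comm, D_mx,
          mul_inv_cancel_right]
  have hk' : k * x * k⁻¹ = dv d := Subtype.ext (Subtype.ext (hk.trans (congrArg Subtype.val (dv_val hev)).symm))
  refine ⟨d, hev, fun e => h1 ?_, fun e => hz ?_, isConj_iff.2 ⟨S.e k, by rw [← map_inv, ← map_mul, ← map_mul, hk']⟩⟩
  · have hd0 : dv d = 1 := by
      rw [e]; exact Subtype.ext (by rw [dv_val (by rw [bits_eq]; decide)]; exact Subtype.ext D_zero)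
    rw [hd0, mul_inv_eq_one] at hk'
    exact mul_left_cancel (hk'.trans (mul_one k).symm)
  · rw [e, dv_full] at hk'
    rw [mul_inv_eq_iff_eq_mul] at hk'
    have hc : zW * k = k * zW := by
      refine S.inj ?_
      rw [map_mul, map_mul]; exact S.z_comm k
    exact mul_left_cancel (hk'.trans hc)

/-- The central involution is isolated. -/
theorem no_fusion (S : Ctx G)
    (hstd : ∀ (T : Ctx G) (A : Sys T), IsStd A → ¬ IsConj (T.e y15) T.z → ∀ n, A.Nrm n → n * T.z * n⁻¹ = T.z) :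
    ¬ ∃ g, g * S.z * g⁻¹ ≠ S.z ∧ Commute S.z (g * S.z * g⁻¹) := by
  intro hf
  obtain ⟨u, huc, hune, hucm, hu⟩ := S.exists_good hf
  have hu2 : u * u = 1 := by
    obtain ⟨g, rfl⟩ := isConj_iff.1 huc
    rw [show g * S.z * g⁻¹ * (g * S.z * g⁻¹) = g * (S.z * S.z) * g⁻¹ by group, S.z_sq, mul_one, mul_inv_cancel]
  have hu1 : u ≠ 1 := fun e => by
    obtain ⟨g, hg⟩ := isConj_iff.1 huc
    rw [e, mul_inv_eq_one] at hg
    exact S.z_ne (mul_left_cancel (hg.trans (mul_one g).symm))
  have hsqw : ∀ {o : G} {w : W}, o * o = 1 → S.Acts o w → w ∉ W1 →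
      (w : Equiv.Perm (Fin 240)) * (w : Equiv.Perm (Fin 240)) = 1 := fun {o w} ho hw hw1 => by
    have h2 := hw.mul hw
    rw [ho] at h2
    rcases h2.unique (Ctx.acts_cent (one_mem _)) with e | e
    · exact e
    · refine absurd (mem_W1_of_pow_eq_neg 2 ?_) hw1
      rw [sq]; rw [Subgroup.coe_one, mul_one] at e; exact e
  have build : ∀ (k : W) (o : G) (d : Fin 256) (hd : oddM d = true) (ho : (S.twist k).Acts o ⟨D d, D_mem d⟩)
      (ho2 : o * o = 1), ∀ a, a ≠ 0 → a ≠ 255 → IsConj S.z ((outerSys hd ho ho2).ψ a) → False := by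
    intro k o d hd ho ho2 a h0 h1 hconj
    set A := outerSys hd ho ho2
    have hA : IsStd A := outerSys_std hd ho ho2
    obtain ⟨n, hn, hmove⟩ := hA.exists_move trivial h0 h1
    obtain ⟨g, hg⟩ := isConj_iff.1 hconj.symm
    set B : Subgroup G := A.group.map (MulAut.conj g).toMonoidHom with hB
    have mem : ∀ x, x ∈ A.group → g * x * g⁻¹ ∈ B := fun x hx => ⟨x, hx, rfl⟩
    have hz : S.z ∈ B := hg ▸ mem _ (A.mem_group.2 ⟨a, trivial, rfl⟩)
    have hsq : ∀ b ∈ B, b * b = 1 := by
      rintro _ ⟨x, ⟨c, hc, rfl⟩, rfl⟩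
      rw [← map_mul, A.map_sq hc, map_one]
    have hcard : 256 ≤ Nat.card B := by
      rw [hB, Subgroup.card_map_of_injective (MulAut.conj g).injective]
      refine le_trans ?_ A.card_group_ge
      exact ((Nat.card_congr (Equiv.subtypeUnivEquiv (p := A.P) fun _ => trivial)).trans (Nat.card_fin 256)).symm.le
    obtain ⟨k', T, hT, hcase⟩ := carried_full hz hsq (fun b hb => Ctx.comm_of_sq hsq hb hz) hcard
    have hn' : T.Nrm (g * n * g⁻¹) := by
      intro x hx
      rw [hT] at hx ⊢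
      obtain ⟨y, hy, rfl⟩ := hx
      have := mem _ (hn y hy)
      convert this using 1
      simp only [MulEquiv.coe_toMonoidHom, MulAut.conj_apply]; group
    have hq : ¬ IsConj ((S.twist k').e y15) (S.twist k').z := quad_not_conj _ _ y15_val
    have hfix : g * n * g⁻¹ * (S.twist k').z * (g * n * g⁻¹)⁻¹ = (S.twist k').z := by
      rcases hcase with h | h
      · exact hstd _ T h hq _ hn'
      · exact diag_no_move _ hq (h ▸ hn')
    rw [S.twist_z, ← hg] at hfix
    refine hmove (mul_left_cancel (a := g) (mul_right_cancel (b := g⁻¹) (Eq.trans ?_ hfix)))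
    group
  by_cases hout : ∃ o, o * S.z = S.z * o ∧ o * o = 1 ∧ ∃ w, S.Acts o w ∧ w ∉ W1
  · rcases hu with ⟨v, hv⟩ | ⟨w, hw, hw1⟩
    · obtain ⟨o, -, ho2, w, hw, hw1⟩ := hout
      obtain ⟨h, hh, d, hd⟩ := exists_diag w.2 (hsqw ho2 hw hw1)
      have hodd : oddM d = true := by
        by_contra hc
        rw [Bool.not_eq_true, oddM_false, ← det_D_iff, ← hd, det_conj hh w.2] at hc
        exact hw1 (mem_W1.2 hc)
      have ho := hw.twist (⟨h, hh⟩ : W)⁻¹
      rw [inv_inv, show (⟨h, hh⟩ : W) * w * (⟨h, hh⟩ : W)⁻¹ = ⟨D d, D_mem d⟩ from Subtype.ext hd] at ho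
      set k : W := (⟨h, hh⟩ : W)⁻¹
      have hu' : (S.twist k).e (cW k⁻¹ v) = u := by
        rw [← hv]
        show S.e (cW k (cW k⁻¹ v)) = S.e v
        rw [← MulAut.mul_apply, ← map_mul, mul_inv_cancel, map_one, MulAut.one_apply]
      have hvv : v * v = 1 := S.inj (by rw [map_mul, hv, hu2, map_one])
      obtain ⟨a, hev, h0, h255, hconj⟩ := conj_dv (S.twist k) (x := cW k⁻¹ v) (by rw [← map_mul, hvv, map_one])
        (fun e => hu1 (by rw [← hu', e, map_one])) (fun e => hune (by rw [← hu', e]; exact S.twist_z k))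
      rw [hu'] at hconj
      refine build k o d hodd ho ho2 a h0 h255 ?_
      rw [((outerSys_std hodd ho ho2).even a hev).2]
      exact huc.trans hconj
    · obtain ⟨h, hh, d, hd⟩ := exists_diag w.2 (hsqw hu2 hw hw1)
      have hodd : oddM d = true := by
        by_contra hc
        rw [Bool.not_eq_true, oddM_false, ← det_D_iff, ← hd, det_conj hh w.2] at hc
        exact hw1 (mem_W1.2 hc)
      have ho := hw.twist (⟨h, hh⟩ : W)⁻¹
      rw [inv_inv, show (⟨h, hh⟩ : W) * w * (⟨h, hh⟩ : W)⁻¹ = ⟨D d, D_mem d⟩ from Subtype.ext hd] at ho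
      refine build _ u d hodd ho hu2 d (fun e => ?_) (fun e => ?_) ?_
      · rw [e] at hodd; rw [oddM, bits_eq] at hodd; revert hodd; decide
      · rw [e] at hodd; rw [oddM, bits_eq] at hodd; revert hodd; decide
      · rw [outerSys_self]; exact huc
  · push Not at hout
    obtain ⟨v, hv⟩ : u ∈ S.e.range := hu.elim id fun ⟨w, hw, hw1⟩ => absurd (hout u hucm hu2 w hw) hw1
    have hvv : v * v = 1 := S.inj (by rw [map_mul, hv, hu2, map_one])
    obtain ⟨a, hev, h0, h255, hconj⟩ := conj_dv S hvv (fun e => hu1 (by rw [← hv, e, map_one]))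
      (fun e => hune (by rw [← hv, e]; rfl))
    rw [hv] at hconj
    set A := evenSys S with hAdef
    have hA : IsStd A := evenSys_std S
    obtain ⟨n, hn, hmove⟩ := hA.exists_move (a := a) hev h0 h255
    obtain ⟨g, hg⟩ := isConj_iff.1 (huc.trans hconj).symm
    set B : Subgroup G := A.group.map (MulAut.conj g).toMonoidHom with hB
    have mem : ∀ x, x ∈ A.group → g * x * g⁻¹ ∈ B := fun x hx => ⟨x, hx, rfl⟩
    have hz : S.z ∈ B := hg ▸ mem _ (A.mem_group.2 ⟨a, hev, rfl⟩)
    have hsq : ∀ b ∈ B, b * b = 1 := by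
      rintro _ ⟨x, ⟨c, hc, rfl⟩, rfl⟩
      rw [← map_mul, A.map_sq hc, map_one]
    have hcard : 128 ≤ Nat.card B := by
      rw [hB, Subgroup.card_map_of_injective (MulAut.conj g).injective]
      exact card_even_masks.symm.trans_le A.card_group_ge
    have hin : ∀ b ∈ B, ∃ x : W1, S.Acts b (x : W) := fun b hb => by
      have hbz := Ctx.comm_of_sq hsq hb hz
      obtain ⟨w, hw⟩ := S.exists_acts hbz
      exact ⟨⟨w, hout b hbz (hsq b hb) w hw⟩, hw⟩
    obtain ⟨k', T, hT, hcase⟩ := carried_half hz hsq hcard hin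
    have hn' : T.Nrm (g * n * g⁻¹) := by
      intro x hx
      rw [hT] at hx ⊢
      obtain ⟨y, hy, rfl⟩ := hx
      have := mem _ (hn y hy)
      convert this using 1
      simp only [MulEquiv.coe_toMonoidHom, MulAut.conj_apply]; group
    have hq : ¬ IsConj ((S.twist k').e y15) (S.twist k').z := quad_not_conj _ _ y15_val
    have hfix : g * n * g⁻¹ * (S.twist k').z * (g * n * g⁻¹)⁻¹ = (S.twist k').z := by
      rcases hcase with h | h
      · exact hstd _ T h hq _ hn'
      · exact diag_no_move _ hq (h ▸ hn')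
    have hg' : g * A.ψ a * g⁻¹ = S.z := hg
    rw [S.twist_z, ← hg'] at hfix
    refine hmove (mul_left_cancel (a := g) (mul_right_cancel (b := g⁻¹) (Eq.trans ?_ hfix)))
    group

end Cfsg.Agent.StdO8
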