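import Cfsg.Agent.StdO8.Ctx
import Cfsg.Agent.StdO8.AutL
import Cfsg.Agent.Invol.ZStar
import Cfsg.Prelude.Def_Local
import Cfsg.Prelude.Def_TwoFusion
import Cfsg.Prelude.Def_CaseTheorems

/-!
From a standard double cover of the orthogonal group whose centraliser has cyclic Sylow subgroups
for the prime two to the setting, with a conjugate of the central involution commuting with it.
-/

set_option autoImplicit false

universe u v

namespace Cfsg.Agent.StdO8

open Subgroup

/-- Splitting a group with cyclic Sylow subgroups for the prime two. -/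
theorem exists_two_split {K : Type*} [Group K] [Finite K] (h2 : 2 ∣ Nat.card K)
    (hR : ∀ R : Sylow 2 K, IsCyclic ↥(R : Subgroup K)) {z : K} (hz : orderOf z = 2)
    (hzc : z ∈ center K) :
    ∃ (N : Subgroup K) (r : ℕ) (h : K), N.Normal ∧ Odd (Nat.card N) ∧ 1 ≤ r ∧ h ^ 2 ^ r = 1 ∧
      h ^ 2 ^ (r - 1) = z ∧ ∀ c, ∃ k : ℕ, ∃ o ∈ N, c = h ^ k * o := by
  have : Fact (Nat.Prime 2) := ⟨Nat.prime_two⟩
  let P : Sylow 2 K := default
  have hcyc := hR P
  have hmin : (Nat.card K).minFac = 2 := (Nat.minFac_eq_two_iff _).2 h2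
  let hle := IsCyclic.normalizer_le_centralizer hmin hcyc
  set N := (MonoidHom.transferSylow P hle).ker with hN
  have hc : N.IsComplement' P := IsCyclic.isComplement' hmin hcyc
  have hodd : Odd (Nat.card N) := by
    rw [Nat.odd_iff]
    have := MonoidHom.not_dvd_card_ker_transferSylow P hle
    rw [← hN] at this
    omega
  obtain ⟨h, hgen⟩ := hcyc.exists_generator
  obtain ⟨r, hr⟩ := P.2.exists_card_eq
  have hord : orderOf h = 2 ^ r := by
    rw [← hr]
    exact orderOf_eq_card_of_forall_mem_zpowers hgen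
  -- the central involution lies in the Sylow subgroup
  have hzP : z ∈ (P : Subgroup K) := by
    have hnorm : (zpowers z).Normal := ⟨fun x hx g => by
      obtain ⟨n, rfl⟩ := hx
      have := mem_center_iff.1 (zpow_mem hzc n) g
      rw [this, mul_inv_cancel_right]
      exact ⟨n, rfl⟩⟩
    have hp : IsPGroup 2 (zpowers z) := IsPGroup.of_card (n := 1) (by rw [Nat.card_zpowers, hz, pow_one])
    obtain ⟨P', hP'⟩ := hp.exists_le_sylow
    obtain ⟨g, hg⟩ := MulAction.exists_smul_eq K P' P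
    rw [← hg, Sylow.coe_subgroup_smul, Subgroup.mem_pointwise_smul_iff_inv_smul_mem]
    refine hP' ?_
    show (MulAut.conj g)⁻¹ • z ∈ zpowers z
    rw [← map_inv, MulAut.smul_def, MulAut.conj_apply, mem_center_iff.1 hzc g⁻¹, mul_inv_cancel_right]
    exact mem_zpowers z
  have hpw : ∀ x : (P : Subgroup K), ∃ n, n < 2 ^ r ∧ h ^ n = x := fun x => by
    obtain ⟨m, hm⟩ := (isOfFinOrder_of_finite h).mem_powers_iff_mem_zpowers.2 (hgen x)
    exact ⟨m % orderOf h, hord ▸ Nat.mod_lt _ (orderOf_pos h), by rw [pow_mod_orderOf]; exact hm⟩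
  obtain ⟨n, hnlt, hnz⟩ := hpw ⟨z, hzP⟩
  have hnz' : (h : K) ^ n = z := by
    rw [← SubgroupClass.coe_pow, hnz]
  have hr1 : 1 ≤ r := by
    rcases Nat.eq_zero_or_pos r with h0 | h0
    · exfalso
      rw [h0, pow_zero] at hnlt
      have : n = 0 := by omega
      rw [this, pow_zero] at hnz'
      rw [← hnz', orderOf_one] at hz
      omega
    · exact h0
  -- the only involution of a cyclic group
  have hhalf : n = 2 ^ (r - 1) := by
    have h2n : orderOf h ∣ 2 * n := orderOf_dvd_of_pow_eq_one (Subtype.ext (by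
      rw [SubgroupClass.coe_pow, mul_comm, pow_mul, hnz', show z ^ 2 = 1 from hz ▸ pow_orderOf_eq_one z,
        Subgroup.coe_one]))
    rw [hord] at h2n
    obtain ⟨m, hm⟩ := h2n
    have hp : 2 ^ r = 2 * 2 ^ (r - 1) := by rw [← pow_succ', Nat.sub_add_cancel hr1]
    rw [hp] at hm hnlt
    have hn0 : n ≠ 0 := fun h0 => by
      rw [h0, pow_zero] at hnz'
      rw [← hnz', orderOf_one] at hz
      omega
    have hm1 : m = 1 := by
      rcases m with _ | _ | m
      · omega
      · rfl
      · exfalso; nlinarith [Nat.one_le_two_pow (n := r - 1)]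
    rw [hm1] at hm
    omega
  refine ⟨N, r, h, by rw [hN]; infer_instance, hodd, hr1, ?_, hhalf ▸ hnz', fun c => ?_⟩
  · rw [← hord, ← SubgroupClass.coe_pow, pow_orderOf_eq_one, Subgroup.coe_one]
  · obtain ⟨p, o, hpo⟩ : ∃ p : (P : Subgroup K), ∃ o : N, (p : K) * o = c := by
      obtain ⟨⟨p, o⟩, hpo⟩ := hc.symm.2 c
      exact ⟨p, o, hpo⟩
    obtain ⟨k, -, hk⟩ := hpw p
    exact ⟨k, o, o.2, by rw [← SubgroupClass.coe_pow, hk, hpo]⟩

/-- **The setting of the standard double cover.** -/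
theorem exists_ctx {G : Type u} [Group G] [Finite G] (hO : Cfsg.oddCore G = ⊥) (L : Subgroup G)
    (hL : Cfsg.IsStandardSubgroup L) {F : Type v} [Field F] [Fintype F] (hF : Fintype.card F = 2)
    (hZ : Nat.card ↥(center ↥L) = 2)
    (hLX : Nonempty ((↥L ⧸ center ↥L) ≃* Cfsg.POmega F (Cfsg.quadFormPlus 4 F)))
    (hR : ∀ R : Sylow 2 ↥(centralizer (L : Set G)),
      IsCyclic ↥(R : Subgroup ↥(centralizer (L : Set G))))
    (hn : ¬ L.Normal) :
    ∃ S : Ctx G, ∃ g : G, g * S.z * g⁻¹ ≠ S.z ∧ Commute S.z (g * S.z * g⁻¹) := by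
  classical
  obtain ⟨hq, htight, -, hnorm⟩ := hL
  have hp : commutator L = ⊤ := hq.1.commutator_eq_top
  obtain ⟨ψ⟩ := nonempty_equiv hF hp hZ hLX
  let e : W1 →* G := L.subtype.comp ψ.symm.toMonoidHom
  have hinj : Function.Injective e := L.subtype_injective.comp ψ.symm.injective
  have heL : ∀ x, e x ∈ L := fun x => (ψ.symm x).2
  have hLe : ∀ y ∈ L, ∃ x, e x = y := fun y hy => ⟨ψ ⟨y, hy⟩, by simp [e]⟩
  set K : Subgroup G := centralizer (L : Set G) with hK
  have hmemK : ∀ {c : G}, c ∈ K ↔ ∀ x, c * e x = e x * c := fun {c} => by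
    rw [hK, mem_centralizer_iff]
    refine ⟨fun h x => (h _ (heL x)).symm, fun h y hy => ?_⟩
    obtain ⟨x, rfl⟩ := hLe y hy
    exact (h x).symm
  have hzW : zW ∈ center W1 := center_W1 ▸ mem_zpowers zW
  have hzK : e zW ∈ K := hmemK.2 fun x => by rw [← map_mul, ← map_mul, mem_center_iff.1 hzW x]
  have hz2 : e zW * e zW = 1 := by rw [← map_mul, zW_sq, map_one]
  have hz1 : e zW ≠ 1 := fun h => zW_ne (hinj (h.trans (map_one e).symm))
  have hord : orderOf (e zW) = 2 := orderOf_eq_prime (by rw [pow_two, hz2]) hz1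
  let zK : K := ⟨e zW, hzK⟩
  have hzord : orderOf zK = 2 := by rw [← hord, ← orderOf_injective K.subtype K.subtype_injective zK]; rfl
  have hzcen : zK ∈ center K := mem_center_iff.2 fun c => Subtype.ext ((hmemK.1 c.2) zW)
  have h2K : 2 ∣ Nat.card K := hzord ▸ orderOf_dvd_natCard zK
  obtain ⟨N, r, h, hNn, hNodd, hr, hpow, hhalf, hgen⟩ := exists_two_split h2K hR hzord hzcen
  have htN : ∀ g : G, g * e zW = e zW * g → g ∈ normalizer (L : Set G) := by
    intro g hg
    rw [hnorm]
    by_contra hgn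
    refine (Nat.not_even_iff_odd.mpr (htight.2 g hgn)) (even_iff_two_dvd.mpr ?_)
    have hj : e zW ∈ K ⊓ K.map (MulAut.conj g).toMonoidHom :=
      ⟨hzK, e zW, hzK, by simp [MulAut.conj_apply, hg]⟩
    rw [← hord, ← Nat.card_zpowers]
    exact card_dvd_of_le (zpowers_le.mpr hj)
  let S : Ctx G :=
  { e := e
    O := N.map K.subtype
    r := r
    h := h
    inj := hinj
    rpos := hr
    meet := fun x hx => by
      have hxc : x ∈ center W1 := mem_center_iff.2 fun y => hinj (by rw [map_mul, map_mul, hx y])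
      rw [center_W1] at hxc
      obtain ⟨k, hk⟩ := hxc
      simp only at hk
      subst hk
      rcases Int.even_or_odd' k with ⟨j, rfl | rfl⟩
      · exact .inl (by rw [zpow_mul, zpow_two, zW_sq, one_zpow])
      · exact .inr (by rw [zpow_add, zpow_mul, zpow_two, zW_sq, one_zpow, one_mul, zpow_one])
    O_odd := by rw [card_map_of_injective K.subtype_injective]; exact hNodd
    O_comm := by
      rintro _ ⟨o, -, rfl⟩ x
      exact hmemK.1 o.2 x
    O_normal := by
      rintro c hc _ ⟨o, ho, rfl⟩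
      exact ⟨⟨c, hmemK.2 hc⟩ * o * ⟨c, hmemK.2 hc⟩⁻¹, hNn.conj_mem o ho _, rfl⟩
    h_comm := fun x => hmemK.1 h.2 x
    h_pow := by rw [← SubgroupClass.coe_pow, hpow, Subgroup.coe_one]
    h_half := by rw [← SubgroupClass.coe_pow, hhalf]
    gen := fun c hc => by
      obtain ⟨k, o, ho, hco⟩ := hgen ⟨c, hmemK.2 hc⟩
      exact ⟨k, o, ⟨o, ho, rfl⟩, congrArg Subtype.val hco⟩
    act := fun g hg => by
      have hgN := mem_normalizer_iff.1 (htN g hg)
      let c : L →* L := ((MulAut.conj g).toMonoidHom.comp L.subtype).codRestrict L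
        fun y => (hgN y).1 y.2
      have hcinj : Function.Injective c := fun a b hab =>
        L.subtype_injective ((MulAut.conj g).injective (congrArg Subtype.val hab))
      let α : MulAut W1 := (ψ.symm.trans
        (MulEquiv.ofBijective c ⟨hcinj, Finite.injective_iff_surjective.1 hcinj⟩)).trans ψ
      obtain ⟨w, hw, hwx⟩ := exists_conj α
      refine ⟨⟨w, hw⟩, fun x => ?_⟩
      have hax : α x = cW ⟨w, hw⟩ x :=
        Subtype.ext (Subtype.ext ((hwx x).trans (congrArg Subtype.val (cW_val ⟨w, hw⟩ x)).symm))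
      rw [← hax]
      simp [e, α, c] }
  refine ⟨S, ?_⟩
  by_contra hcon
  simp only [not_exists, not_and] at hcon
  have hiso : Cfsg.IsIsolatedInvolution S.z := ⟨hord, fun g hg => by
    by_contra hne
    exact hcon g hne hg⟩
  refine hn ⟨fun y hy g => ?_⟩
  have hgz := Invol.zstar hiso g
  rw [hO, mem_bot] at hgz
  have hcomm : g * e zW = e zW * g := by
    calc g * e zW = e zW * g * (e zW)⁻¹ * g⁻¹ * (g * e zW) := by
          show g * S.z = S.z * g * S.z⁻¹ * g⁻¹ * (g * S.z)
          rw [hgz, one_mul]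
      _ = _ := by group
  exact (mem_normalizer_iff.1 (htN g hcomm) y).1 hy

end Cfsg.Agent.StdO8
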