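import Cfsg.Agent.StdO8.Diag

/-!
Diagonal symmetries by weight, and commuting reflections.
-/

set_option autoImplicit false
set_option maxRecDepth 100000
set_option maxHeartbeats 1000000
set_option linter.unusedSectionVars false
set_option linter.unusedVariables false

namespace Cfsg.Agent.StdO8

open Cfsg.Agent.Compute

/-- The negated axes of a mask. -/
noncomputable def dList (d : Fin 256) : List (Fin 240) :=
  ((List.finRange 8).filter fun i : Fin 8 => (d : ℕ).testBit (i : ℕ)).map ev

/-- The weight of a mask. -/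
noncomputable def bits (d : Fin 256) : ℕ := (dList d).length

theorem mem_dList {d : Fin 256} {x : Fin 240} :
    x ∈ dList d ↔ ∃ i : Fin 8, (d : ℕ).testBit (i : ℕ) = true ∧ ev i = x := by
  simp [dList]

theorem dList_pairwise (d : Fin 256) : (dList d).Pairwise fun x y => ip x y = 0 := by
  refine List.Pairwise.map ev (fun a b h => ip_ev_ev h) ?_
  exact (List.nodup_finRange 8).filter _

theorem D_eq_rprod (d : Fin 256) : D d = rprod (dList d) :=
  W_ext (D_mem d) (rprod_mem _) fun i => by
    rw [D_ev]
    by_cases h : (d : ℕ).testBit (i : ℕ) = true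
    · rw [if_pos h, rprod_neg _ (dList_pairwise d) _ (mem_dList.2 ⟨i, h, rfl⟩)]
    · rw [if_neg h, rprod_fix]
      intro y hy
      obtain ⟨j, hj, rfl⟩ := mem_dList.1 hy
      exact ip_ev_ev fun e => h (e ▸ hj)

theorem trace_D (d : Fin 256) : Matrix.trace (mat (D d)) = 8 - 2 * (bits d : ℚ) := by
  rw [D_eq_rprod, trace_rprod (dList_pairwise d)]; rfl

theorem det_D (d : Fin 256) : (mat (D d)).det = (-1) ^ bits d := by
  rw [D_eq_rprod, det_rprod]; rfl

theorem det_conj {g w : Equiv.Perm (Fin 240)} (hg : g ∈ W) (hw : w ∈ W) :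
    (mat (g * w * g⁻¹)).det = (mat w).det := by
  rw [mat_mul (mul_mem hg hw), mat_mul hg, Matrix.det_mul, Matrix.det_mul, mul_comm (mat g).det, mul_assoc,
    ← Matrix.det_mul, ← mat_mul hg, mul_inv_cancel, mat_one, Matrix.det_one, mul_one]

theorem dot_rt (a : Fin 120) : ∑ i, co (rt a) i * co (rt a) i = 4 := by rw [← ip_sum, ip_self]; norm_num

/-- Reflections determine their lines. -/
theorem refl_injective : Function.Injective refl := by
  intro a b h
  have h1 : refl a (rt b) = negP (rt b) := by rw [h, refl_self]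
  have h2 : ∀ i, 2 * co (rt b) i = ip (rt b) (rt a) * co (rt a) i := fun i => by
    have h3 := congrArg (fun x => co x i) h1
    simp only [refl_apply, co_reflP, co_negP] at h3
    omega
  have h4 := ip_sum (rt b) (rt a)
  have h5 : 2 * (2 * ip (rt b) (rt a)) = ip (rt b) (rt a) * 4 := by ring
  have h6 : ∑ i, (2 * co (rt b) i) * co (rt b) i = ip (rt b) (rt a) * ∑ i, co (rt a) i * co (rt b) i := by
    rw [Finset.mul_sum]; exact Finset.sum_congr rfl fun i _ => by rw [h2]; ring
  simp only [mul_assoc, ← Finset.mul_sum, dot_rt] at h6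
  rw [Finset.sum_congr rfl fun i _ => mul_comm (co (rt a) i) (co (rt b) i), ← h4] at h6
  have h7 : ip (rt b) (rt a) = 2 ∨ ip (rt b) (rt a) = -2 := by
    have : ip (rt b) (rt a) * ip (rt b) (rt a) = 4 := by linarith
    exact mul_self_eq_mul_self_iff.1 (this.trans (by norm_num : (4 : ℤ) = 2 * 2))
  rcases h7 with e | e
  · exact (ln_rt a).symm.trans ((congrArg ln (ip_eq_two e).symm).trans (ln_rt b))
  · have : ip (negP (rt b)) (rt a) = 2 := by rw [ip_negP_left, e]; rfl
    exact (ln_rt a).symm.trans ((congrArg ln (ip_eq_two this).symm).trans ((ln_negP _).trans (ln_rt b)))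

/-- Commuting reflections are orthogonal or equal. -/
theorem ip_of_comm {a b : Fin 120} (h : refl a * refl b = refl b * refl a) (hab : a ≠ b) :
    ip (rt b) (rt a) = 0 := by
  have hc := refl_conj (refl_mem a) b
  rw [h, mul_inv_cancel_right] at hc
  have hl := refl_injective hc
  rcases ln_eq ((ln_rt b).trans hl) with e | e
  · have h1 := congrArg (fun x => ∑ i, co x i * co (rt a) i) e
    simp only [refl_apply, co_reflP, sub_mul, Finset.sum_sub_distrib, mul_assoc, ← Finset.mul_sum,
      dot_rt] at h1
    omega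
  · refine absurd (refl_injective (a₁ := b) (a₂ := a) ?_) (Ne.symm hab)
    have h1 : refl a (rt b) = negP (rt b) := ((congrArg negP e).trans (negP_negP _)).symm
    have h2 : ∀ i, 2 * co (rt b) i = ip (rt b) (rt a) * co (rt a) i := fun i => by
      have h3 := congrArg (fun x => co x i) h1
      simp only [refl_apply, co_reflP, co_negP] at h3
      omega
    refine W_ext (refl_mem _) (refl_mem _) fun j => co_injective (funext fun i => ?_)
    simp only [refl_apply, co_reflP]
    have hj : 2 * ip (ev j) (rt b) = ip (rt b) (rt a) * ip (ev j) (rt a) := by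
      rw [ip_comm (ev j), ip_ev, ip_comm (ev j), ip_ev, h2]
    have hp : ip (rt b) (rt a) * ip (rt b) (rt a) = 4 := by
      have h6 : ∑ i, (2 * co (rt b) i) * co (rt b) i = ip (rt b) (rt a) * ∑ i, co (rt b) i * co (rt a) i := by
        rw [Finset.mul_sum]; exact Finset.sum_congr rfl fun i _ => by rw [h2]; ring
      simp only [mul_assoc, ← Finset.mul_sum, dot_rt] at h6
      rw [← ip_sum] at h6
      linarith
    have : 4 * (ip (ev j) (rt b) * co (rt b) i) = 4 * (ip (ev j) (rt a) * co (rt a) i) := by
      calc 4 * (ip (ev j) (rt b) * co (rt b) i) = (2 * ip (ev j) (rt b)) * (2 * co (rt b) i) := by ring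
        _ = (ip (rt b) (rt a) * ip (rt b) (rt a)) * (ip (ev j) (rt a) * co (rt a) i) := by rw [hj, h2]; ring
        _ = _ := by rw [hp]
    omega

theorem eq_D_of_lines {g : Equiv.Perm (Fin 240)} (hg : g ∈ W) (h : ∀ i, ln (g (ev i)) = ax i) : ∃ d, g = D d :=
  eq_D_of_fix hg fun k => by rw [rt_tgt, h, ← ln_ev, ← rt_tgt, ln_rt]

/-- A mask with one bit. -/
def bit1 (j : Fin 8) : Fin 256 := ⟨2 ^ (j : ℕ), by
  have := Nat.pow_lt_pow_right (show 1 < 2 by norm_num) j.2
  simpa using this⟩

theorem D_bit1 (j : Fin 8) : D (bit1 j) = refl (ax j) :=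
  W_ext (D_mem _) (refl_mem _) fun i => by
    rw [D_ev]
    simp only [bit1, Nat.testBit_two_pow, decide_eq_true_eq]
    split_ifs with h
    · obtain rfl : j = i := Fin.ext h
      rw [← rt_ax, refl_self, rt_ax]
    · rw [refl_fix]
      rw [rt_ax]
      exact ip_ev_ev fun e => h (congrArg Fin.val e.symm)

end Cfsg.Agent.StdO8
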