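import Cfsg.Agent.StdO8.Mono
import Cfsg.Agent.StdO8.Bits

/-!
The symmetries of determinant one.
-/

set_option autoImplicit false
set_option maxRecDepth 100000
set_option linter.unusedSectionVars false

namespace Cfsg.Agent.StdO8

open Matrix

/-- The symmetries of determinant one. -/
noncomputable def W1 : Subgroup W := detW.ker

theorem mem_W1 {g : W} : g ∈ W1 ↔ (mat (g : Equiv.Perm (Fin 240))).det = 1 := by
  rw [W1, MonoidHom.mem_ker, detW_apply]

theorem mat_orthogonal {g : Equiv.Perm (Fin 240)} (hg : g ∈ W) : (mat g)ᵀ * mat g = 1 := by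
  ext i j
  have h : (∑ k, co (g (ev i)) k * co (g (ev j)) k : ℤ) = 2 * co (ev i) j := by
    rw [← ip_sum, hg, ip_ev]
  have h' : ((∑ k, co (g (ev i)) k * co (g (ev j)) k : ℤ) : ℚ) = ((2 * co (ev i) j : ℤ) : ℚ) := congrArg _ h
  push_cast at h'
  simp only [Matrix.mul_apply, Matrix.transpose_apply, mat, Matrix.of_apply]
  calc (∑ k, (co (g (ev i)) k : ℚ) / 2 * ((co (g (ev j)) k : ℚ) / 2))
      = (∑ k, (co (g (ev i)) k : ℚ) * (co (g (ev j)) k : ℚ)) / 4 := by
        rw [Finset.sum_div]
        exact Finset.sum_congr rfl fun k _ => by ring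
    _ = (2 * (co (ev i) j : ℚ)) / 4 := by rw [h']
    _ = (1 : Matrix (Fin 8) (Fin 8) ℚ) i j := by
        rw [co_ev, Matrix.one_apply]
        split_ifs <;> norm_num

theorem det_sq (g : W) : detW g * detW g = 1 := by
  have h := congrArg Matrix.det (mat_orthogonal g.2)
  rwa [Matrix.det_mul, Matrix.det_transpose, Matrix.det_one, ← detW_apply] at h

theorem det_cases (g : W) : detW g = 1 ∨ detW g = -1 := mul_self_eq_one_iff.1 (det_sq g)

theorem index_W1 : W1.index = 2 := by
  have hne : (⟨refl (ax 0), refl_mem _⟩ : W) ∉ W1 := fun h => by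
    rw [mem_W1, det_refl] at h
    norm_num at h
  rw [Subgroup.index_eq_two_iff]
  refine ⟨⟨refl (ax 0), refl_mem _⟩, fun b => ?_⟩
  have hd : detW (⟨refl (ax 0), refl_mem _⟩ : W) = -1 := by rw [detW_apply]; exact det_refl _
  rw [W1, MonoidHom.mem_ker, MonoidHom.mem_ker, map_mul, hd]
  rcases det_cases b with h | h <;> rw [h] <;> norm_num [Xor]

theorem card_W1 : Nat.card W1 = 348364800 := by
  have h := W1.index_mul_card
  rw [index_W1, card_W] at h
  omega

theorem negW_det : (mat negW).det = 1 := by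
  rw [mat_negW, Matrix.det_neg, Matrix.det_one]
  norm_num

/-- The central involution. -/
noncomputable def zW : W1 := ⟨⟨negW, negW_mem⟩, mem_W1.2 negW_det⟩

/-- A symmetry fixing only zero has determinant one. -/
theorem det_one_of_fixfree {g : W}
    (h : ∀ v : Fin 8 → ℚ, mat (g : Equiv.Perm (Fin 240)) *ᵥ v = v → v = 0) : g ∈ W1 := by
  set M := mat (g : Equiv.Perm (Fin 240)) with hM
  have hu : (M - 1).det ≠ 0 := fun h0 => by
    obtain ⟨v, hv, hv'⟩ := Matrix.exists_mulVec_eq_zero_iff.2 h0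
    rw [Matrix.sub_mulVec, Matrix.one_mulVec, sub_eq_zero] at hv'
    exact hv (h v hv')
  rw [mem_W1, ← hM]
  have e1 : Mᵀ * (M - 1) = -(M - 1)ᵀ := by
    rw [Matrix.mul_sub, hM, mat_orthogonal g.2, Matrix.mul_one, Matrix.transpose_sub, Matrix.transpose_one, neg_sub]
  have e2 := congrArg Matrix.det e1
  rw [Matrix.det_mul, Matrix.det_transpose, Matrix.det_neg, Matrix.det_transpose, Fintype.card_fin] at e2
  rw [show ((-1 : ℚ) ^ 8) = 1 by norm_num, one_mul] at e2
  exact mul_right_cancel₀ hu (e2.trans (one_mul _).symm)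

/-- Square roots and higher roots of minus one have determinant one. -/
theorem mem_W1_of_pow_eq_neg {g : W} (n : ℕ) (h : ((g ^ n : W) : Equiv.Perm (Fin 240)) = negW) : g ∈ W1 := by
  refine det_one_of_fixfree fun v hv => ?_
  have hp : ∀ m : ℕ, mat ((g ^ m : W) : Equiv.Perm (Fin 240)) *ᵥ v = v := fun m => by
    induction m with
    | zero => rw [pow_zero, Subgroup.coe_one, mat_one, Matrix.one_mulVec]
    | succ m ih =>
      rw [pow_succ, Subgroup.coe_mul, mat_mul (g ^ m).2, ← Matrix.mulVec_mulVec, hv, ih]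
  have h' := hp n
  rw [h, mat_negW, Matrix.neg_mulVec, Matrix.one_mulVec] at h'
  funext i
  have hi := congrFun h' i
  simp only [Pi.neg_apply] at hi
  simp only [Pi.zero_apply]
  linarith

end Cfsg.Agent.StdO8
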