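import Cfsg.Agent.Compute.Perm

/-!
Data for the elementary abelian groups of signs on diagonal axes of the root system of type E8.
-/

set_option autoImplicit false
set_option maxRecDepth 100000
set_option linter.all false

namespace Cfsg.Agent.StdO8

noncomputable section

/-- The even sign changes on the diagonal axes, as words. -/
def diagWords : List (ℕ × List ℕ) :=
  [(0, []),
   (3, [0,1]),
   (5, [71,70]),
   (6, [61,63]),
   (9, [57,59]),
   (10, [69,68]),
   (12, [2,3]),
   (15, [0,1,2,3]),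
   (17, [34,35]),
   (18, [27,25]),
   (20, [92,94]),
   (23, [0,1,92,94]),
   (24, [103,102]),
   (27, [0,1,103,102]),
   (29, [71,70,103,102]),
   (30, [61,63,103,102]),
   (33, [31,29]),
   (34, [38,39]),
   (36, [97,96]),
   (39, [0,1,97,96]),
   (40, [88,90]),
   (43, [0,1,88,90]),
   (45, [71,70,88,90]),
   (46, [61,63,88,90]),
   (48, [4,5]),
   (51, [0,1,4,5]),
   (53, [71,70,4,5]),
   (54, [61,63,4,5]),
   (57, [57,59,4,5]),
   (58, [69,68,4,5]),
   (60, [2,3,4,5]),
   (63, [0,1,2,3,4,5]),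
   (65, [100,101]),
   (66, [95,93]),
   (68, [24,26]),
   (71, [0,1,24,26]),
   (72, [33,32]),
   (75, [0,1,33,32]),
   (77, [71,70,33,32]),
   (78, [61,63,33,32]),
   (80, [62,60]),
   (83, [0,1,62,60]),
   (85, [71,70,62,60]),
   (86, [61,63,62,60]),
   (89, [57,59,62,60]),
   (90, [69,68,62,60]),
   (92, [2,3,62,60]),
   (95, [0,1,2,3,62,60]),
   (96, [66,67]),
   (99, [0,1,66,67]),
   (101, [71,70,66,67]),
   (102, [61,63,66,67]),
   (105, [57,59,66,67]),
   (106, [69,68,66,67]),
   (108, [2,3,66,67]),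
   (111, [0,1,2,3,66,67]),
   (113, [34,35,66,67]),
   (114, [27,25,66,67]),
   (116, [92,94,66,67]),
   (119, [0,1,92,94,66,67]),
   (120, [103,102,66,67]),
   (123, [0,1,103,102,66,67]),
   (125, [71,70,103,102,66,67]),
   (126, [61,63,103,102,66,67]),
   (129, [91,89]),
   (130, [98,99]),
   (132, [37,36]),
   (135, [0,1,37,36]),
   (136, [28,30]),
   (139, [0,1,28,30]),
   (141, [71,70,28,30]),
   (142, [61,63,28,30]),
   (144, [64,65]),
   (147, [0,1,64,65]),
   (149, [71,70,64,65]),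
   (150, [61,63,64,65]),
   (153, [57,59,64,65]),
   (154, [69,68,64,65]),
   (156, [2,3,64,65]),
   (159, [0,1,2,3,64,65]),
   (160, [58,56]),
   (163, [0,1,58,56]),
   (165, [71,70,58,56]),
   (166, [61,63,58,56]),
   (169, [57,59,58,56]),
   (170, [69,68,58,56]),
   (172, [2,3,58,56]),
   (175, [0,1,2,3,58,56]),
   (177, [34,35,58,56]),
   (178, [27,25,58,56]),
   (180, [92,94,58,56]),
   (183, [0,1,92,94,58,56]),
   (184, [103,102,58,56]),
   (187, [0,1,103,102,58,56]),
   (189, [71,70,103,102,58,56]),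
   (190, [61,63,103,102,58,56]),
   (192, [6,7]),
   (195, [0,1,6,7]),
   (197, [71,70,6,7]),
   (198, [61,63,6,7]),
   (201, [57,59,6,7]),
   (202, [69,68,6,7]),
   (204, [2,3,6,7]),
   (207, [0,1,2,3,6,7]),
   (209, [34,35,6,7]),
   (210, [27,25,6,7]),
   (212, [92,94,6,7]),
   (215, [0,1,92,94,6,7]),
   (216, [103,102,6,7]),
   (219, [0,1,103,102,6,7]),
   (221, [71,70,103,102,6,7]),
   (222, [61,63,103,102,6,7]),
   (225, [31,29,6,7]),
   (226, [38,39,6,7]),
   (228, [97,96,6,7]),
   (231, [0,1,97,96,6,7]),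
   (232, [88,90,6,7]),
   (235, [0,1,88,90,6,7]),
   (237, [71,70,88,90,6,7]),
   (238, [61,63,88,90,6,7]),
   (240, [4,5,6,7]),
   (243, [0,1,4,5,6,7]),
   (245, [71,70,4,5,6,7]),
   (246, [61,63,4,5,6,7]),
   (249, [57,59,4,5,6,7]),
   (250, [69,68,4,5,6,7]),
   (252, [2,3,4,5,6,7]),
   (255, [0,1,2,3,4,5,6,7])]

/-- Words moving the first pair flip to every pair flip and permuting the pair flips. -/
def flipMoves : List (List ℕ) :=
  [[], [0,71], [0,57], [0,34], [0,31], [0,100], [0,91], [0,61], [0,69], [0,27], [0,38], [0,95], [0,98], [71,69], [71,27], [71,38], [71,95], [71,98], [57,27], [57,38], [57,95], [57,98], [34,38], [34,95], [34,98], [31,95], [31,98], [100,98]]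

end

end Cfsg.Agent.StdO8
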