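import Cfsg.Agent.StdO8.Bits
import Cfsg.Agent.StdO8.Data2

/-!
The large elementary abelian subgroups of the symmetry group: all signs of a frame, or the even signs
of a frame or of eight diagonal axes.
-/

set_option autoImplicit false
set_option maxRecDepth 100000
set_option maxHeartbeats 1000000
set_option linter.unusedSectionVars false
set_option linter.unusedVariables false
set_option linter.style.haveILetI false

namespace Cfsg.Agent.StdO8

open Cfsg.Agent.Compute Matrix

/-- The elements of a subgroup as matrices. -/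
noncomputable def chi (E : Subgroup W) (e : E) : Matrix (Fin 8) (Fin 8) ℚ := rho e.1

theorem chi_eq {E : Subgroup W} (e : E) : chi E e = mat ((e.1 : W) : Equiv.Perm (Fin 240)) := rfl

theorem chi_injective (E : Subgroup W) : Function.Injective (chi E) :=
  rho_injective.comp Subtype.val_injective

theorem exists_chi_split (E : Subgroup W) (hsq : ∀ e ∈ E, e * e = 1) : Nonempty (Split (chi E)) := by
  classical
  haveI : Fintype E := Fintype.ofFinite E
  refine exists_split _ (fun e => by rw [chi, ← map_mul, hsq _ e.2, map_one]) fun e f => ?_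
  have h := hsq _ (mul_mem e.2 f.2)
  have he := inv_eq_of_mul_eq_one_right (hsq _ e.2)
  have hf := inv_eq_of_mul_eq_one_right (hsq _ f.2)
  rw [chi, chi, ← map_mul, ← map_mul]
  congr 1
  rw [← inv_eq_of_mul_eq_one_right h, _root_.mul_inv_rev, he, hf]

theorem diag_facts {g : Equiv.Perm (Fin 240)} (hg : g ∈ W) (h2 : g * g = 1) :
    ∃ h ∈ W, ∃ d, h * g * h⁻¹ = D d ∧ Matrix.trace (mat g) = 8 - 2 * (bits d : ℚ) ∧
      (mat g).det = (-1) ^ bits d := by
  obtain ⟨h, hh, d, e⟩ := exists_diag hg h2
  exact ⟨h, hh, d, e, by rw [← trace_conj hh hg, e, trace_D], by rw [← det_conj hh hg, e, det_D]⟩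

theorem negated_of_bits {g : Equiv.Perm (Fin 240)} (hg : g ∈ W) (h2 : g * g = 1) {n : ℕ}
    (ht : Matrix.trace (mat g) = 8 - 2 * (n : ℚ)) :
    ∃ l : List (Fin 240), l.length = n ∧ l.Pairwise (fun x y => ip x y = 0) ∧ g = rprod l ∧
      ∀ x ∈ l, g x = negP x := by
  obtain ⟨h, hh, d, e, ht', -⟩ := diag_facts hg h2
  have hn : bits d = n := Nat.cast_injective (R := ℚ) (by linarith)
  have hh' := inv_mem hh
  have hge : g = h⁻¹ * D d * h := by rw [← e]; group
  have key : ∀ x ∈ (dList d).map (fun x => h⁻¹ x), g x = negP x := by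
    intro x hx
    obtain ⟨y, hy, rfl⟩ := List.mem_map.1 hx
    rw [hge, Equiv.Perm.mul_apply, Equiv.Perm.mul_apply, app_inv, D_eq_rprod,
      rprod_neg _ (dList_pairwise d) y hy, negP_map hh']
  have hp : ((dList d).map fun x => h⁻¹ x).Pairwise fun x y => ip x y = 0 :=
    (dList_pairwise d).map _ fun a b hab => by rw [mem_W.1 hh']; exact hab
  refine ⟨_, by rw [List.length_map]; exact hn, hp, W_ext hg (rprod_mem _) fun i => ?_, key⟩
  have hh'' : ∀ l : List (Fin 240), h⁻¹ * rprod l * h = rprod (l.map fun x => h⁻¹ x) := by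
    intro l
    induction l with
    | nil => simp [rprod]
    | cons a l ih =>
      rw [List.map_cons, rprod_cons, rprod_cons, ← ih]
      have hc : h⁻¹ * refl (ln a) * h = refl (ln (h⁻¹ a)) := by
        have := refl_conj hh' (ln a)
        rwa [inv_inv, ln_map hh' (ln_rt (ln a))] at this
      rw [← hc]; group
  rw [hge, D_eq_rprod, hh'']

theorem refl_of_trace_six {g : Equiv.Perm (Fin 240)} (hg : g ∈ W) (h2 : g * g = 1)
    (ht : Matrix.trace (mat g) = 6) : ∃ a, g = refl a := by
  obtain ⟨l, hl, -, e, -⟩ := negated_of_bits hg h2 (n := 1) (by rw [ht]; norm_num)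
  obtain ⟨x, rfl⟩ := List.length_eq_one_iff.1 hl
  exact ⟨ln x, e.trans (by simp [rprod])⟩

theorem trace_flip {E : Subgroup W} (S : Split (chi E)) (h8 : Fintype.card S.ι = 8) (e : E) :
    Matrix.trace (mat ((e.1 : W) : Equiv.Perm (Fin 240))) =
      8 - 2 * ((Finset.univ.filter fun i => S.sgn e i = true).card : ℚ) := by
  rw [← chi_eq, S.trace_eq]
  have h : ∀ i, (cond (S.sgn e i) (-1 : ℚ) 1) * (rk (S.P i) : ℚ) = 1 - 2 * (if S.sgn e i = true then 1 else 0) := by
    intro i
    rw [S.rk_one h8 i]
    cases S.sgn e i <;> norm_num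
  rw [Finset.sum_congr rfl fun i _ => h i, Finset.sum_sub_distrib, ← Finset.mul_sum, Finset.sum_boole,
    Finset.sum_const, Finset.card_univ, h8]
  norm_num

/-- A group of order 256 consists of all signs of a frame. -/
theorem frame256 (E : Subgroup W) (hsq : ∀ e ∈ E, e * e = 1) (hcard : 256 ≤ Nat.card E) :
    ∃ h : W, (∀ e ∈ E, ∃ d, ((h * e * h⁻¹ : W) : Equiv.Perm (Fin 240)) = D d) ∧
      ∀ d, ∃ e ∈ E, ((h * e * h⁻¹ : W) : Equiv.Perm (Fin 240)) = D d := by
  classical
  obtain ⟨S⟩ := exists_chi_split E hsq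
  have hc := S.card_E_le (chi_injective E)
  have hle := S.card_le
  have h8 : Fintype.card S.ι = 8 := by
    by_contra hne
    have : 2 ^ Fintype.card S.ι ≤ 2 ^ 7 := Nat.pow_le_pow_right (by norm_num) (by omega)
    omega
  have hbij : Function.Bijective S.sgn := by
    haveI : Fintype E := Fintype.ofFinite E
    refine (Fintype.bijective_iff_injective_and_card _).2 ⟨S.sgn_injective (chi_injective E), ?_⟩
    rw [h8] at hc
    rw [Fintype.card_fun, Fintype.card_bool, h8, ← Nat.card_eq_fintype_card]
    omega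
  let ε : Fin 8 ≃ S.ι := (Fintype.equivFinOfCardEq h8).symm
  choose el hel using hbij.2
  let e1 : Fin 8 → E := fun j => el fun i => decide (i = ε j)
  have hr : ∀ j, ∃ a, ((e1 j).1 : Equiv.Perm (Fin 240)) = refl a := by
    intro j
    refine refl_of_trace_six (e1 j).1.2 (congrArg Subtype.val (hsq _ (e1 j).2)) ?_
    rw [trace_flip S h8, hel, show (Finset.univ.filter fun i => decide (i = ε j) = true) = {ε j} by ext; simp]
    norm_num
  choose a ha using hr
  have hinj : Function.Injective a := fun j k h => by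
    have : e1 j = e1 k := Subtype.ext (Subtype.ext (by rw [ha, ha, h]))
    have h' := congrFun (congrArg S.sgn this) (ε j)
    simp only [e1, hel, decide_eq_decide, true_iff] at h'
    exact ε.injective h'
  have hcomm : ∀ x y : E, x * y = y * x := fun x y => by
    have h := hsq _ (mul_mem x.2 y.2)
    have he := inv_eq_of_mul_eq_one_right (hsq _ x.2)
    have hf := inv_eq_of_mul_eq_one_right (hsq _ y.2)
    exact Subtype.ext (by rw [Subgroup.coe_mul, Subgroup.coe_mul, ← inv_eq_of_mul_eq_one_right h, _root_.mul_inv_rev, he, hf])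
  have hperp : ∀ j k, j ≠ k → ip (rt (a j)) (rt (a k)) = 0 := fun j k hjk => by
    refine ip_of_comm ?_ (hinj.ne hjk.symm)
    rw [← ha, ← ha]
    exact congrArg (fun x : E => ((x.1 : W) : Equiv.Perm (Fin 240))) (hcomm (e1 k) (e1 j))
  obtain ⟨g, hg, hj⟩ := frame_std (fun j => rt (a j)) hperp
  choose j hj using hj
  have hjinj : Function.Injective j := fun x y h => by
    by_contra hne
    have h0 := hperp x y hne
    rw [← mem_W.1 hg] at h0
    rcases ln_eq ((hj x).trans (h ▸ (hj y).symm)) with e' | e'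
    · rw [e', ip_self] at h0; omega
    · rw [e', ip_negP_left, ip_self] at h0; omega
  have hfirst : ∀ e ∈ E, ∃ d, g * (e : W) * g⁻¹ = D d := by
    intro e he
    refine eq_D_of_lines (mul_mem (mul_mem hg e.2) (inv_mem hg)) fun i => ?_
    obtain ⟨x, rfl⟩ := Finite.injective_iff_surjective.1 hjinj i
    have hc' := congrArg (fun z : E => ((z.1 : W) : Equiv.Perm (Fin 240))) (hcomm ⟨e, he⟩ (e1 x))
    simp only [Subgroup.coe_mul, ha] at hc'
    have hfix : ln ((e : Equiv.Perm (Fin 240)) (rt (a x))) = a x :=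
      refl_injective (by rw [← refl_conj e.2, hc', mul_inv_cancel_right])
    have h1 : ln (ev (j x)) = ln (g (rt (a x))) := (ln_ev _).trans (hj x).symm
    rw [ln_map (mul_mem (mul_mem hg e.2) (inv_mem hg)) h1]
    simp only [Equiv.Perm.mul_apply, Equiv.Perm.coe_inv, Equiv.symm_apply_apply]
    rw [ln_map hg (hfix.trans (ln_rt _).symm), hj]
  refine ⟨⟨g, hg⟩, fun e he => hfirst e he, fun d => ?_⟩
  choose dd hdd using fun e : E => hfirst e.1 e.2
  have hi : Function.Injective dd := fun x y h => Subtype.ext (Subtype.ext (by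
    have := (hdd x).trans (h ▸ (hdd y).symm)
    exact mul_left_cancel (mul_right_cancel this)))
  haveI : Fintype E := Fintype.ofFinite E
  obtain ⟨e, rfl⟩ := ((Fintype.bijective_iff_injective_and_card dd).2 ⟨hi, le_antisymm
    (Fintype.card_le_of_injective dd hi) (by rw [Fintype.card_fin, ← Nat.card_eq_fintype_card]; exact hcard)⟩).2 d
  exact ⟨e.1, e.2, hdd e⟩

/-- A vector of a rank one range cannot have an orthogonal partner there. -/
theorem rank_one_no_pair {P : Matrix (Fin 8) (Fin 8) ℚ} (h : rk P = 1) {x y : Fin 240}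
    (hx : P *ᵥ vec x = vec x) (hy : P *ᵥ vec y = vec y) (hxy : ip x y = 0) : False := by
  obtain ⟨⟨v, hv⟩, -, hspan⟩ := finrank_eq_one_iff'.1 (h : Module.finrank ℚ _ = 1)
  obtain ⟨c, hc⟩ := hspan ⟨vec x, vec x, by rw [Matrix.toLin'_apply, hx]⟩
  obtain ⟨c', hc'⟩ := hspan ⟨vec y, vec y, by rw [Matrix.toLin'_apply, hy]⟩
  have e1 : c • v = vec x := congrArg Subtype.val hc
  have e2 : c' • v = vec y := congrArg Subtype.val hc'
  have h0 := vec_dot x y
  rw [hxy, ← e1, ← e2, smul_dotProduct, dotProduct_smul] at h0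
  simp only [smul_eq_mul, Int.cast_zero, mul_zero, mul_eq_zero] at h0
  have nz : ∀ z, vec z ⬝ᵥ vec z = 4 := fun z => by rw [vec_dot, ip_self]; norm_num
  rcases h0 with h0 | h0 | h0
  · have := nz x; rw [← e1, h0] at this; simp at this
  · have := nz y; rw [← e2, h0] at this; simp at this
  · have := nz x; rw [← e1, smul_dotProduct, dotProduct_smul, h0] at this; simp at this

theorem supp_chk : (allBelow 240 fun x => allBelow 8 fun i => allBelow 8 fun j =>
    !(allBelow 8 fun m => Nat.beq m i || Nat.beq m j || Nat.beq (coN x m) 2) ||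
      Nat.beq (Nat.div x 2) i || Nat.beq (Nat.div x 2) j) = true := by decide +kernel

theorem line_of_supp {x : Fin 240} {i j : Fin 8} (h : ∀ m, m ≠ i → m ≠ j → co x m = 0) :
    ln x = ax i ∨ ln x = ax j := by
  have h' := allBelow_eq_true.1 (allBelow_eq_true.1 (allBelow_eq_true.1 supp_chk x x.2) i i.2) j j.2
  rw [show (allBelow 8 fun m => Nat.beq m i || Nat.beq m j || Nat.beq (coN x m) 2) = true from
    allBelow_eq_true.2 fun m hm => by
      by_cases hi : (⟨m, hm⟩ : Fin 8) = i
      · subst hi; simp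
      by_cases hj : (⟨m, hm⟩ : Fin 8) = j
      · subst hj; simp
      have := h ⟨m, hm⟩ hi hj
      rw [co] at this
      have e : coN (x : ℕ) m = 2 := by
        have : ((coN (x : ℕ) m : ℕ) : ℤ) = 2 := by linarith
        exact_mod_cast this
      simp [e]] at h'
  simp only [Bool.not_true, Bool.false_or, Bool.or_eq_true, Nat.beq_eq] at h'
  exact h'.imp (fun e => Fin.ext e) fun e => Fin.ext e

theorem even_card : Nat.card {f : Fin 8 → Bool // Even (Finset.univ.filter fun i => f i = true).card} = 128 := by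
  rw [Nat.card_eq_fintype_card]
  decide +kernel

theorem even_mask_card : (Finset.univ.filter fun d : Fin 256 =>
    decide ((((List.range 8).filter fun i => (d : ℕ).testBit i).length) % 2 = 0) = true).card = 128 := by
  decide +kernel

theorem bits_eq (d : Fin 256) : bits d = ((List.range 8).filter fun i => (d : ℕ).testBit i).length := by
  rw [bits, dList, List.length_map, ← List.map_coe_finRange_eq_range, List.filter_map, List.length_map]
  rfl

/-- An involution of the axes with two given cycles and nothing else moved has them forming a quad. -/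
noncomputable def twoN (a b c d : ℕ) : Bool :=
  allBelow 8 fun i => allBelow 8 fun k =>
    Nat.beq (affN a b c d i) i || Nat.beq k i || Nat.beq k (affN a b c d i) || Nat.beq (affN a b c d k) k ||
      !(allBelow 8 fun m => Nat.beq m i || Nat.beq m k || Nat.beq m (affN a b c d i) || Nat.beq m (affN a b c d k) ||
        Nat.beq (affN a b c d m) m) ||
      Nat.beq (xor3 i (affN a b c d i) k) (affN a b c d k)

theorem two_chk : (allBelow 8 fun a => allBelow 8 fun b => allBelow 8 fun c => allBelow 8 fun d =>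
    !(goodN a b c d) || !(allBelow 8 fun i => Nat.beq (affN a b c d (affN a b c d i)) i) || twoN a b c d) = true := by
  decide +kernel

theorem two_cycles_quad (t : GTup) (h2 : ∀ i, aff t.1 (aff t.1 i) = i) {i k : Fin 8} (hi : aff t.1 i ≠ i)
    (hk : k ≠ i) (hk' : k ≠ aff t.1 i) (hkk : aff t.1 k ≠ k)
    (hm : ∀ m, m ≠ i → m ≠ k → m ≠ aff t.1 i → m ≠ aff t.1 k → aff t.1 m = m) :
    comp3 i (aff t.1 i) k = aff t.1 k := by
  obtain ⟨⟨a, b, c, d⟩, hg⟩ := t
  have h := allBelow_eq_true.1 (allBelow_eq_true.1 (allBelow_eq_true.1 (allBelow_eq_true.1 two_chk a a.2) b b.2) c c.2) d d.2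
  rw [show goodN a b c d = true from hg, show (allBelow 8 fun i => Nat.beq (affN a b c d (affN a b c d i)) i) = true from
    allBelow_eq_true.2 fun i hi => by
      rw [Nat.beq_eq]
      have := congrArg Fin.val (h2 ⟨i, hi⟩)
      rw [affN_eq, affN_eq] at this
      exact this, Bool.not_true, Bool.false_or, Bool.false_or, twoN] at h
  have h' := allBelow_eq_true.1 (allBelow_eq_true.1 h i i.2) k k.2
  simp only [Bool.or_eq_true, Bool.not_eq_true', Nat.beq_eq] at h'
  apply Fin.ext
  rw [affN_eq] at *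
  rcases h' with ((((e | e) | e) | e) | e) | e
  · exact absurd (Fin.ext (by rw [affN_eq]; exact e)) hi
  · exact absurd (Fin.ext e) hk
  · exact absurd (Fin.ext (by rw [affN_eq]; exact e)) hk'
  · exact absurd (Fin.ext (by rw [affN_eq]; exact e)) hkk
  · exfalso
    rw [Bool.eq_false_iff, ne_eq, allBelow_eq_true] at e
    apply e
    intro m hm8
    simp only [Bool.or_eq_true, Nat.beq_eq]
    by_contra hc
    simp only [not_or] at hc
    refine hc.2 ?_
    have := congrArg Fin.val (hm ⟨m, hm8⟩ (fun e => hc.1.1.1.1 (congrArg Fin.val e))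
      (fun e => hc.1.1.1.2 (congrArg Fin.val e)) (fun e => hc.1.1.2 ((congrArg Fin.val e).trans (affN_eq _ _)))
      (fun e => hc.1.2 ((congrArg Fin.val e).trans (affN_eq _ _))))
    rw [affN_eq] at this
    exact this
  · show xor3 i (aff (a, b, c, d) i : ℕ) k = _
    rw [affN_eq]; exact e

/-- The other axis of a pair. -/
def other (i : Fin 8) : Fin 8 := ⟨if (i : ℕ) % 2 = 0 then (i : ℕ) + 1 else (i : ℕ) - 1, by split_ifs <;> omega⟩

theorem other_other : ∀ i, other (other i) = i := by decide

theorem other_ne : ∀ i, other i ≠ i := by decide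

theorem other_cases : ∀ i j : Fin 8, (i : ℕ) / 2 = (j : ℕ) / 2 → j = i ∨ j = other i := by decide

/-- A symmetry that is scalar or a swap on each pair of axes. -/
def PairScalar (g : Equiv.Perm (Fin 240)) : Prop :=
  ∀ i, (g (ev i) = ev i ∧ g (ev (other i)) = ev (other i)) ∨
    (g (ev i) = negP (ev i) ∧ g (ev (other i)) = negP (ev (other i))) ∨
    (ln (g (ev i)) = ax (other i))

/-- The expected image of an axis. -/
noncomputable def tgtImg (sw sg i : ℕ) : ℕ :=
  Nat.add (Nat.mul 2 (cond (Nat.testBit sw (Nat.div i 2)) (Nat.xor i 1) i))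
    (cond (Nat.testBit sg (Nat.div i 2)) 1 0)

theorem words_cover : (allBelow 16 fun sw => allBelow 16 fun sg =>
    !(Nat.beq (Nat.mod (sum8 fun p => cond (Nat.blt p 4 && Nat.testBit sw p) 1 0) 2) 0) ||
      !(List.all diagWords fun p => !(okN p.2 && allBelow 8 fun i =>
        Nat.beq (actN p.2 (Nat.mul 2 i)) (tgtImg sw sg i)))) = true := by decide +kernel

theorem pairs_even : (allBelow 8 fun a => allBelow 8 fun b => allBelow 8 fun c => allBelow 8 fun d =>
    !(goodN a b c d) || !(allBelow 8 fun i => Nat.beq (affN a b c d i) i || Nat.beq (affN a b c d i) (Nat.xor i 1)) ||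
      Nat.beq (Nat.mod (sum8 fun p => cond (Nat.blt p 4 && !(Nat.beq (affN a b c d (Nat.mul 2 p)) (Nat.mul 2 p))) 1 0) 2) 0)
      = true := by decide +kernel

theorem other_val : ∀ i : Fin 8, ((other i : Fin 8) : ℕ) = Nat.xor i 1 := by decide

theorem negN_two : (allBelow 120 fun i => Nat.beq (negN (Nat.mul 2 i)) (Nat.add (Nat.mul 2 i) 1)) = true := by
  decide +kernel

/-- Such an involution is one of the listed words. -/
theorem pairScalar_word {g : Equiv.Perm (Fin 240)} (hg : g ∈ W) (h2 : g * g = 1) (hp : PairScalar g) :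
    ∃ p ∈ diagWords, g = evalW p.2 := by
  have hgg : ∀ x, g (g x) = x := fun x => by rw [← Equiv.Perm.mul_apply, h2, Equiv.Perm.one_apply]
  have hline : ∀ i, ln (g (ev i)) = ax i ∨ ln (g (ev i)) = ax (other i) := fun i => by
    rcases hp i with ⟨e, -⟩ | ⟨e, -⟩ | e
    · exact .inl (by rw [e, ln_ev])
    · exact .inl (by rw [e, ln_negP, ln_ev])
    · exact .inr e
  obtain ⟨t, ht⟩ := mono_affine hg fun i => (hline i).elim (fun e => ⟨_, e⟩) fun e => ⟨_, e⟩
  obtain ⟨⟨a, b, c, d⟩, hgood⟩ := t
  have key : ∀ (q : ℕ → Bool), ∃ n < 16, ∀ p < 4, Nat.testBit n p = q p := by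
    intro q
    have h : ∀ a b c e : Bool, ∃ n < 16, Nat.testBit n 0 = a ∧ Nat.testBit n 1 = b ∧ Nat.testBit n 2 = c ∧
        Nat.testBit n 3 = e := by decide
    obtain ⟨n, hn, h0, h1, h2, h3⟩ := h (q 0) (q 1) (q 2) (q 3)
    exact ⟨n, hn, fun p hp => by interval_cases p <;> assumption⟩
  obtain ⟨sw, hsw, hswq⟩ := key fun p => !(Nat.beq (affN a b c d (2 * p)) (2 * p))
  obtain ⟨sg, hsg, hsgq⟩ := key fun p => if h : 2 * p < 8 then decide ((g (ev ⟨2 * p, h⟩) : ℕ) % 2 = 1) else false
  have hpres : (allBelow 8 fun i => Nat.beq (affN a b c d i) i || Nat.beq (affN a b c d i) (Nat.xor i 1)) = true :=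
    allBelow_eq_true.2 fun i hi => by
      rw [Bool.or_eq_true, Nat.beq_eq, Nat.beq_eq]
      have e0 := ht ⟨i, hi⟩
      rcases hline ⟨i, hi⟩ with e | e <;> rw [e] at e0 <;> have e1 := congrArg Fin.val (ax_injective e0.symm) <;>
        rw [affN_eq] at e1
      · exact .inl e1
      · exact .inr (e1.trans (other_val _))
  have hev := allBelow_eq_true.1 (allBelow_eq_true.1 (allBelow_eq_true.1 (allBelow_eq_true.1 pairs_even a a.2) b b.2) c c.2) d d.2
  rw [show goodN a b c d = true from hgood, hpres, Bool.not_true, Bool.false_or, Bool.false_or] at hev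
  have hw := allBelow_eq_true.1 (allBelow_eq_true.1 words_cover sw hsw) sg hsg
  rw [show Nat.beq (Nat.mod (sum8 fun p => cond (Nat.blt p 4 && Nat.testBit sw p) 1 0) 2) 0 = true from by
    rw [← hev]
    simp only [sum8, hswq 0 (by norm_num), hswq 1 (by norm_num), hswq 2 (by norm_num), hswq 3 (by norm_num)]
    rfl, Bool.not_true, Bool.false_or, Bool.not_eq_true'] at hw
  obtain ⟨p, hp', hq⟩ : ∃ p ∈ diagWords, (okN p.2 && allBelow 8 fun i =>
      Nat.beq (actN p.2 (Nat.mul 2 i)) (tgtImg sw sg i)) = true := by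
    by_contra hcon
    push Not at hcon
    rw [show (List.all diagWords fun p => !(okN p.2 && allBelow 8 fun i =>
        Nat.beq (actN p.2 (Nat.mul 2 i)) (tgtImg sw sg i))) = true from List.all_eq_true.2 fun p hp => by
      rw [Bool.not_eq_true']; exact Bool.eq_false_iff.2 (hcon p hp)] at hw
    exact Bool.noConfusion hw
  rw [Bool.and_eq_true, allBelow_eq_true] at hq
  refine ⟨p, hp', W_ext hg (evalW_mem _) fun i => Fin.ext ?_⟩
  have himg := Nat.eq_of_beq_eq_true (hq.2 i i.2)
  rw [evalW_apply _ hq.1]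
  refine Eq.trans ?_ himg.symm
  obtain ⟨q, hq4, hqi⟩ : ∃ q, q < 4 ∧ (i : ℕ) / 2 = q := ⟨_, by omega, rfl⟩
  have hlt : 2 * q < 8 := by clear hqi; omega
  let i0 : Fin 8 := ⟨2 * q, hlt⟩
  have hlines : ln (g (ev i)) = ax (aff (a, b, c, d) i) := ht i
  have hbit : Nat.testBit sw q = true ↔ (aff (a, b, c, d) i : ℕ) ≠ i := by
    rw [hswq q hq4, Bool.not_eq_true', Bool.eq_false_iff, ne_eq, ne_eq, Nat.beq_eq,
      show affN a b c d (2 * q) = (aff (a, b, c, d) i0 : ℕ) from (affN_eq (a, b, c, d) i0).symm]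
    rcases other_cases i0 i (by simp [i0]; omega) with hi0 | hi0 <;> rw [hi0]
    · refine not_congr ⟨fun e => ?_, fun e => ?_⟩
      · have e' : aff (a, b, c, d) i0 = i0 := Fin.ext e
        rcases hline (other i0) with h | h
        · exact congrArg Fin.val (ax_injective ((ht (other i0)).symm.trans h))
        · exfalso
          rw [other_other] at h
          exact other_ne i0 (ln_ev_injective hg (h.trans (by rw [ht i0, e'])))
      · have e' : aff (a, b, c, d) (other i0) = other i0 := Fin.ext e
        rcases hline i0 with h | h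
        · exact congrArg Fin.val (ax_injective ((ht i0).symm.trans h))
        · exfalso
          exact (other_ne i0).symm (ln_ev_injective hg (h.trans (by rw [ht (other i0), e'])))
  have hsign : ((g (ev i) : ℕ) % 2 = 1) ↔ Nat.testBit sg q = true := by
    rw [hsgq q hq4, dif_pos hlt, decide_eq_true_eq]
    rcases other_cases i0 i (by simp [i0]; omega) with hi0 | hi0 <;> rw [hi0]
    · have mod2 : ∀ (x : Fin 240) (j : Fin 8), ln x = ax j → x = ev j ∨ x = negP (ev j) := fun x j h =>
        ln_eq (h.trans (ln_ev j).symm)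
      have par : ∀ j : Fin 8, ((negP (ev j) : Fin 240) : ℕ) % 2 = 1 := fun j => by
        show negN (2 * (j : ℕ)) % 2 = 1
        have := Nat.eq_of_beq_eq_true (allBelow_eq_true.1 negN_two j (by omega))
        rw [Nat.mul_eq, Nat.add_eq] at this
        omega
      rcases hp i0 with ⟨e1, e2⟩ | ⟨e1, e2⟩ | e
      · rw [show (⟨2 * q, hlt⟩ : Fin 8) = i0 from rfl, e1, e2]
        simp [ev]
      · rw [show (⟨2 * q, hlt⟩ : Fin 8) = i0 from rfl, e1, e2, par, par]
      · rw [show (⟨2 * q, hlt⟩ : Fin 8) = i0 from rfl]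
        rcases mod2 _ _ e with e1 | e1
        · rw [show g (ev (other i0)) = ev i0 by rw [← e1, hgg], e1]
          simp [ev]
        · rw [show g (ev (other i0)) = negP (ev i0) by
            rw [show ev (other i0) = negP (g (ev i0)) by rw [e1, negP_negP], negP_map hg, hgg], e1, par, par]
  have hval : ((g (ev i) : Fin 240) : ℕ) / 2 = (aff (a, b, c, d) i : ℕ) := congrArg Fin.val hlines
  rw [tgtImg, show Nat.div (i : ℕ) 2 = q from hqi]
  have hcase : (aff (a, b, c, d) i : ℕ) = cond (Nat.testBit sw q) (Nat.xor i 1) (i : ℕ) := by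
    rcases Bool.eq_false_or_eq_true (Nat.testBit sw q) with e | e
    · rw [e, cond_true]
      rcases hline i with h | h
      · exact absurd (congrArg Fin.val (ax_injective ((ht i).symm.trans h))) (hbit.1 e)
      · rw [← other_val]; exact congrArg Fin.val (ax_injective ((ht i).symm.trans h))
    · rw [e, cond_false]
      by_contra hne
      rw [hbit.2 hne] at e
      exact Bool.noConfusion e
  rw [← hcase, ← hval, Nat.add_eq, Nat.mul_eq]
  rcases Bool.eq_false_or_eq_true (Nat.testBit sg q) with e | e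
  · have := hsign.2 e
    rw [e, cond_true]; omega
  · rw [e, cond_false]
    have : ¬ (g (ev i) : ℕ) % 2 = 1 := fun h => by rw [hsign.1 h] at e; exact Bool.noConfusion e
    omega

end Cfsg.Agent.StdO8
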