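import Cfsg.Agent.StdO8.Data3
import Cfsg.Agent.StdO8.Det
import Cfsg.Agent.StdO8.Elem

/-!
Masks of signs under the permutations of the axes, their classes, and the possible orbits.
-/

set_option autoImplicit false
set_option maxRecDepth 100000
set_option maxHeartbeats 1000000
set_option linter.unusedSectionVars false

namespace Cfsg.Agent.StdO8

open Cfsg.Agent.Compute

/-- The sum of two masks. -/
def mx (a b : Fin 256) : Fin 256 := ⟨(a : ℕ) ^^^ (b : ℕ), Nat.xor_lt_two_pow (n := 8) a.2 b.2⟩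

theorem mx_val (a b : Fin 256) : ((mx a b : Fin 256) : ℕ) = (a : ℕ) ^^^ (b : ℕ) := rfl

theorem mx_bit (a b : Fin 256) (i : ℕ) :
    ((mx a b : Fin 256) : ℕ).testBit i = ((a : ℕ).testBit i ^^ (b : ℕ).testBit i) := Nat.testBit_xor _ _ _

theorem mask_ext {a b : Fin 256} (h : ∀ i : Fin 8, (a : ℕ).testBit (i : ℕ) = (b : ℕ).testBit (i : ℕ)) : a = b := by
  refine Fin.ext (Nat.eq_of_testBit_eq fun j => ?_)
  rcases Nat.lt_or_ge j 8 with hj | hj
  · exact h ⟨j, hj⟩
  · have hp : 2 ^ 8 ≤ 2 ^ j := Nat.pow_le_pow_right (by norm_num) hj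
    rw [Nat.testBit_lt_two_pow (lt_of_lt_of_le a.2 hp), Nat.testBit_lt_two_pow (lt_of_lt_of_le b.2 hp)]

theorem D_mx (a b : Fin 256) : D (mx a b) = D a * D b :=
  W_ext (D_mem _) (mul_mem (D_mem _) (D_mem _)) fun i => by
    rw [Equiv.Perm.mul_apply, D_ev, D_ev, mx_bit]
    cases ha : (a : ℕ).testBit (i : ℕ) <;> cases hb : (b : ℕ).testBit (i : ℕ) <;>
      simp [D_ev, negP_map (D_mem _), negP_negP, ha, hb]

theorem D_zero : D 0 = 1 := W_ext (D_mem _) (one_mem _) fun i => by simp [D_ev]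

theorem D_full : D 255 = negW := W_ext (D_mem _) negW_mem fun i => by
  rw [D_ev, negW_apply, if_pos]
  revert i
  decide

theorem mx_self (a : Fin 256) : mx a a = 0 := Fin.ext (Nat.xor_self _)

theorem mx_assoc (a b c : Fin 256) : mx (mx a b) c = mx a (mx b c) := Fin.ext (Nat.xor_assoc _ _ _)

theorem mx_comm (a b : Fin 256) : mx a b = mx b a := Fin.ext (Nat.xor_comm _ _)

theorem mx_zero (a : Fin 256) : mx a 0 = a := Fin.ext (Nat.xor_zero _)

/-- The parity of a mask. -/
noncomputable def oddM (d : Fin 256) : Bool := decide (bits d % 2 = 1)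

theorem oddM_false {d : Fin 256} : oddM d = false ↔ Even (bits d) := by
  rw [oddM, decide_eq_false_iff_not, Nat.even_iff]
  omega

theorem det_D_iff {d : Fin 256} : (mat (D d)).det = 1 ↔ Even (bits d) := by
  rw [det_D]
  exact neg_one_pow_eq_one_iff_even (by norm_num)

theorem oddM_mx (a b : Fin 256) : oddM (mx a b) = (oddM a ^^ oddM b) := by
  have h : (mat (D (mx a b))).det = (mat (D a)).det * (mat (D b)).det := by
    rw [D_mx, mat_mul (D_mem _), Matrix.det_mul]
  simp only [det_D] at h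
  have key : ∀ n : ℕ, ((-1 : ℚ) ^ n) = if decide (n % 2 = 1) = true then -1 else 1 := fun n => by
    rcases Nat.even_or_odd n with hn | hn
    · rw [hn.neg_one_pow, if_neg]; simp [Nat.even_iff.1 hn]
    · rw [hn.neg_one_pow, if_pos]; simp [Nat.odd_iff.1 hn]
  rw [key, key, key] at h
  unfold oddM
  generalize decide (bits (mx a b) % 2 = 1) = u at h ⊢
  generalize decide (bits a % 2 = 1) = v at h ⊢
  generalize decide (bits b % 2 = 1) = w at h ⊢
  cases u <;> cases v <;> cases w <;> first | rfl | norm_num at h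

/-- An axis permutation carries one mask to another. -/
def Maps (t : GTup) (d d' : Fin 256) : Prop :=
  ∀ j : Fin 8, (d' : ℕ).testBit (aff t.1 j : ℕ) = (d : ℕ).testBit (j : ℕ)

theorem aff_bijective (t : GTup) : Function.Bijective (aff t.1) := by
  obtain ⟨g, hg, ht⟩ := exists_mono t
  have hinj : Function.Injective (aff t.1) := fun i j h => ln_ev_injective hg (by rw [ht, ht, h])
  exact ⟨hinj, Finite.injective_iff_surjective.1 hinj⟩

theorem exists_maps (t : GTup) (d : Fin 256) : ∃ d', Maps t d d' := by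
  obtain ⟨d', h⟩ := exists_mask fun i : Fin 8 => ∃ j : Fin 8, aff t.1 j = i ∧ (d : ℕ).testBit (j : ℕ) = true
  refine ⟨d', fun j => Bool.eq_iff_iff.2 ((h (aff t.1 j)).trans ⟨?_, fun e => ⟨j, rfl, e⟩⟩)⟩
  rintro ⟨j', e, hb⟩
  exact (aff_bijective t).1 e ▸ hb

theorem Maps.unique {t : GTup} {d d' d'' : Fin 256} (h : Maps t d d') (h' : Maps t d d'') : d' = d'' :=
  mask_ext fun i => by
    obtain ⟨j, rfl⟩ := (aff_bijective t).2 i
    rw [h, h']

/-- The image of a mask under an axis permutation. -/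
noncomputable def pm (t : GTup) (d : Fin 256) : Fin 256 := (exists_maps t d).choose

theorem pm_spec (t : GTup) (d : Fin 256) : Maps t d (pm t d) := (exists_maps t d).choose_spec

theorem pm_eq {t : GTup} {d d' : Fin 256} (h : Maps t d d') : pm t d = d' := (pm_spec t d).unique h

theorem pm_mx (t : GTup) (a b : Fin 256) : pm t (mx a b) = mx (pm t a) (pm t b) :=
  pm_eq fun j => by rw [mx_bit, mx_bit, pm_spec t a j, pm_spec t b j]

/-- Symmetries of the frame permute the masks. -/
theorem conj_D {g : Equiv.Perm (Fin 240)} (hg : g ∈ W) {t : GTup} (ht : ∀ i, ln (g (ev i)) = ax (aff t.1 i))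
    (d : Fin 256) : g * D d * g⁻¹ = D (pm t d) :=
  W_ext (mul_mem (mul_mem hg (D_mem _)) (inv_mem hg)) (D_mem _) fun i => by
    obtain ⟨j, rfl⟩ := (aff_bijective t).2 i
    rw [Equiv.Perm.mul_apply, Equiv.Perm.mul_apply, D_ev, pm_spec t d j]
    have key : g (D d (ev j)) = if (d : ℕ).testBit (j : ℕ) = true then negP (g (ev j)) else g (ev j) := by
      rw [D_ev]
      split_ifs
      · rw [negP_map hg]
      · rfl
    rcases ln_eq ((ln_ev (aff t.1 j)).trans (ht j).symm) with e | e
    · rw [e, show g⁻¹ (g (ev j)) = ev j from g.symm_apply_apply _, key]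
    · rw [e, show g⁻¹ (negP (g (ev j))) = negP (ev j) by
        rw [← negP_map hg]; exact g.symm_apply_apply _, negP_map (D_mem _), negP_map hg, key]
      split_ifs <;> simp [negP_negP]

theorem oddM_pm (t : GTup) (d : Fin 256) : oddM (pm t d) = oddM d := by
  obtain ⟨g, hg, ht⟩ := exists_mono t
  have h := det_conj hg (D_mem d)
  rw [conj_D hg ht, det_D, det_D] at h
  rw [oddM, oddM, decide_eq_decide]
  rcases Nat.even_or_odd (bits (pm t d)) with hp | hp <;> rcases Nat.even_or_odd (bits d) with hd | hd <;>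
    simp only [hp.neg_one_pow, hd.neg_one_pow] at h <;>
    first | norm_num at h | skip
  · simp [Nat.even_iff.1 hp, Nat.even_iff.1 hd]
  · simp [Nat.odd_iff.1 hp, Nat.odd_iff.1 hd]

/-- Every axis permutation is realised by a symmetry of determinant one. -/
theorem exists_mono1 (t : GTup) : ∃ g : W1, ∀ i, ln (((g : W) : Equiv.Perm (Fin 240)) (ev i)) = ax (aff t.1 i) := by
  obtain ⟨g, hg, ht⟩ := exists_mono t
  rcases det_cases ⟨g, hg⟩ with h | h <;> rw [detW_apply] at h
  · exact ⟨⟨⟨g, hg⟩, mem_W1.2 h⟩, ht⟩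
  · refine ⟨⟨⟨g * D 1, mul_mem hg (D_mem _)⟩, mem_W1.2 ?_⟩, fun i => ?_⟩
    · show (mat (g * D 1)).det = 1
      rw [mat_mul hg, Matrix.det_mul, h, det_D, show bits 1 = 1 from by rw [bits_eq]; decide]
      norm_num
    · show ln (g (D 1 (ev i))) = _
      exact (ln_map hg ((ln_D _ i).trans (ln_ev i).symm)).trans (ht i)

/-- The class of a mask, as a condition. -/
noncomputable def inCls (k : ℕ) (x : ℕ) : Bool := Nat.testBit (clsCodes.getD k 0) x

/-- The mask lies in some class. -/
noncomputable def anyCls (x : ℕ) : Bool :=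
  inCls 0 x || inCls 1 x || inCls 2 x || inCls 3 x || inCls 4 x || inCls 5 x || inCls 6 x

theorem anyCls_iff {x : ℕ} : anyCls x = true ↔ ∃ k, k < 7 ∧ inCls k x = true := by
  simp only [anyCls, Bool.or_eq_true]
  constructor
  · rintro ((((((h | h) | h) | h) | h) | h) | h)
    exacts [⟨0, by norm_num, h⟩, ⟨1, by norm_num, h⟩, ⟨2, by norm_num, h⟩, ⟨3, by norm_num, h⟩,
      ⟨4, by norm_num, h⟩, ⟨5, by norm_num, h⟩, ⟨6, by norm_num, h⟩]
  · rintro ⟨k, hk, h⟩
    interval_cases k <;> simp [h]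

/-- A mask is a quad. -/
noncomputable def quadMask (x : ℕ) : Bool :=
  Nat.beq (sum8 fun i => cond (Nat.testBit x i) 1 0) 4 &&
    Nat.beq (List.rec (motive := fun _ => ℕ) 0 (fun i _ r => Nat.xor (cond (Nat.testBit x i) i 0) r)
      [0, 1, 2, 3, 4, 5, 6, 7]) 0

theorem cls_cover : (allBelow 256 fun x =>
    (Nat.beq x 0 || Nat.beq x 255 || quadMask x || anyCls x) &&
    allBelow 7 fun k => !(inCls k x) || (!(Nat.beq x 255) && !(Nat.beq x 0))) = true := by decide +kernel

/-- The images of the basis coded for a mask. -/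
noncomputable def aglN (x i : ℕ) : ℕ := Nat.land (Nat.shiftRight (aglCodes.getD x 0) (Nat.mul 3 i)) 7

theorem agl_chk : (allBelow 256 fun x => allBelow 7 fun k => !(inCls k x) ||
    (goodN (aglN x 3) (aglN x 2) (aglN x 1) (aglN x 0) && allBelow 8 fun j =>
      cond (Nat.testBit (clsReps.getD k 0) j) (Nat.testBit x (affN (aglN x 3) (aglN x 2) (aglN x 1) (aglN x 0) j))
        (!(Nat.testBit x (affN (aglN x 3) (aglN x 2) (aglN x 1) (aglN x 0) j))))) = true := by decide +kernel

theorem rep_lt : (allBelow 7 fun k => Nat.blt (clsReps.getD k 0) 256 && inCls k (clsReps.getD k 0)) = true := by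
  decide +kernel

/-- The representative of a class. -/
noncomputable def repM (k : ℕ) : Fin 256 := ⟨clsReps.getD k 0 % 256, Nat.mod_lt _ (by norm_num)⟩

theorem repM_cls {k : ℕ} (hk : k < 7) : inCls k (repM k : ℕ) = true := by
  have h := allBelow_eq_true.1 rep_lt k hk
  rw [Bool.and_eq_true, Nat.blt_eq] at h
  show inCls k (clsReps.getD k 0 % 256) = true
  rw [Nat.mod_eq_of_lt h.1]
  exact h.2

/-- The permutations of the axes are transitive on each class. -/
theorem cls_trans {k : ℕ} (hk : k < 7) {x : Fin 256} (hx : inCls k x = true) : ∃ t : GTup, pm t (repM k) = x := by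
  have hr := allBelow_eq_true.1 rep_lt k hk
  rw [Bool.and_eq_true, Nat.blt_eq] at hr
  have h := allBelow_eq_true.1 (allBelow_eq_true.1 agl_chk x x.2) k hk
  rw [hx, Bool.not_true, Bool.false_or, Bool.and_eq_true] at h
  have hlt : ∀ i, aglN x i < 8 := fun i => by
    show Nat.land _ 7 < 8
    exact lt_of_le_of_lt Nat.and_le_right (by norm_num)
  let t : GTup := ⟨(⟨aglN x 3, hlt 3⟩, ⟨aglN x 2, hlt 2⟩, ⟨aglN x 1, hlt 1⟩, ⟨aglN x 0, hlt 0⟩), h.1⟩
  refine ⟨t, pm_eq fun j => ?_⟩
  have hj := allBelow_eq_true.1 h.2 j j.2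
  rw [affN_eq, show ((repM k : Fin 256) : ℕ) = clsReps.getD k 0 % 256 from rfl, Nat.mod_eq_of_lt hr.1]
  show (x : ℕ).testBit (affN (aglN x 3) (aglN x 2) (aglN x 1) (aglN x 0) j) = _
  revert hj
  generalize (x : ℕ).testBit (affN (aglN x 3) (aglN x 2) (aglN x 1) (aglN x 0) j) = u
  generalize Nat.testBit (clsReps.getD k 0) (j : ℕ) = v
  cases u <;> cases v <;> simp

end Cfsg.Agent.StdO8
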