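import Cfsg.Agent.StdO8.Ctx
import Cfsg.Agent.StdO8.Masks

/-!
Consequences of the setting: the centraliser of the cover, and the action on it.
-/

set_option autoImplicit false
set_option maxRecDepth 100000
set_option linter.unusedSectionVars false

universe u

namespace Cfsg.Agent.StdO8

open Cfsg.Agent.Compute

/-- Only minus one centralises the symmetries of determinant one. -/
theorem centraliser_W1 {w : W} (h : ∀ x : W1, cW w x = x) :
    (w : Equiv.Perm (Fin 240)) = 1 ∨ (w : Equiv.Perm (Fin 240)) = negW := by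
  have hc : ∀ x : W1, (w : Equiv.Perm (Fin 240)) * ((x : W) : Equiv.Perm (Fin 240)) =
      ((x : W) : Equiv.Perm (Fin 240)) * w := fun x => by
    have h' := congrArg (fun y : W1 => ((y : W) : Equiv.Perm (Fin 240))) (h x)
    simp only [cW_val, Subgroup.coe_mul, Subgroup.coe_inv] at h'
    exact mul_inv_eq_iff_eq_mul.1 h'
  obtain ⟨g, hg⟩ := w
  have hl : ∀ i, ln (g (ev i)) = ax i := by
    intro i
    have key : ∀ d : Fin 256, Even (bits d) → D d (g (ev i)) = g (D d (ev i)) := fun d hd => by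
      have := Equiv.congr_fun (hc ⟨⟨D d, D_mem d⟩, mem_W1.2 (det_D_iff.2 hd)⟩) (ev i)
      exact this.symm
    have hco : ∀ (d : Fin 256) (m : Fin 8) (x : Fin 240), co (D d x) m =
        if (d : ℕ).testBit (m : ℕ) = true then -co x m else co x m := fun d m x => by
      rw [← ip_ev, ← ip_ev]
      have e : ev m = D d (D d (ev m)) := by
        rw [← Equiv.Perm.mul_apply, ← D_mx, mx_self, D_zero, Equiv.Perm.one_apply]
      rw [e, mem_W.1 (D_mem d), ← e, D_ev]
      split_ifs <;> simp [ip_negP_right]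
    have hsupp : ∀ m, m ≠ i → co (g (ev i)) m = 0 := by
      intro m hm
      obtain ⟨k, hki, hkm⟩ := (show ∀ a b : Fin 8, ∃ k, k ≠ a ∧ k ≠ b by decide) i m
      obtain ⟨d, hd⟩ := exists_mask fun j : Fin 8 => j = m ∨ j = k
      have hev : Even (bits d) := by
        rw [bits, dList, List.length_map]
        have hperm : ((List.finRange 8).filter fun j : Fin 8 => (d : ℕ).testBit (j : ℕ)).toFinset = {m, k} := by
          ext j; simp [hd j]
        have hnd := (List.nodup_finRange 8).filter (fun j : Fin 8 => (d : ℕ).testBit (j : ℕ))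
        rw [← List.toFinset_card_of_nodup hnd, hperm, Finset.card_pair hkm.symm]
        exact even_two
      have e := congrArg (fun x => co x m) (key d hev)
      simp only [hco, D_ev] at e
      rw [if_pos ((hd m).2 (.inl rfl)), if_neg (fun hi => by
        rcases (hd i).1 hi with h' | h'
        · exact hm h'.symm
        · exact hki h'.symm)] at e
      omega
    rcases line_of_supp (i := i) (j := i) fun m hm _ => hsupp m hm with e | e <;> exact e
  obtain ⟨d, rfl⟩ := eq_D_of_lines hg hl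
  have hinv : ∀ t, pm t d = d := fun t => by
    obtain ⟨m, hm⟩ := exists_mono1 t
    have h' := hc m
    simp only at h'
    refine D_injective ?_
    rw [← conj_D (m : W).2 hm d, ← h', mul_inv_cancel_right]
  have hno : ∀ k, k < 7 → inCls k d = false := fun k hk => Bool.eq_false_iff.2 fun hkd => by
    obtain ⟨t, ht⟩ := cls_trans hk hkd
    have e : repM k = d := by
      have e1 := pm_spec t (repM k)
      rw [ht] at e1
      refine mask_ext fun j => ?_
      rw [← e1 j, ← pm_spec t d j, hinv]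
    have h2 : ∀ t', pm t' (repM k) = repM k := fun t' => e ▸ hinv t'
    have hall : ∀ y : Fin 256, inCls k y = true → y = repM k := fun y hy => by
      obtain ⟨t', rfl⟩ := cls_trans hk hy; exact h2 t'
    have hchk : (allBelow 7 fun k => !(allBelow 256 fun y => !(inCls k y) || Nat.beq y (clsReps.getD k 0))) = true := by
      decide +kernel
    have := allBelow_eq_true.1 hchk k hk
    rw [Bool.not_eq_true', Bool.eq_false_iff] at this
    refine this (allBelow_eq_true.2 fun y hy => ?_)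
    cases hyk : inCls k y
    · rfl
    · have := congrArg Fin.val (hall ⟨y, hy⟩ hyk)
      simp only [repM] at this
      rw [Bool.not_true, Bool.false_or, Nat.beq_eq]
      have hr := allBelow_eq_true.1 rep_lt k hk
      rw [Bool.and_eq_true, Nat.blt_eq] at hr
      rw [this, Nat.mod_eq_of_lt hr.1]
  have hcov := allBelow_eq_true.1 cls_cover d d.2
  simp only [Bool.and_eq_true, Bool.or_eq_true, Nat.beq_eq] at hcov
  rcases hcov.1 with ((e | e) | e) | e
  · left; show D d = 1; rw [show d = 0 from Fin.ext e]; exact D_zero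
  · right; show D d = negW; rw [show d = 255 from Fin.ext e]; exact D_full
  · exfalso
    obtain ⟨t, ht⟩ : ∃ t : GTup, pm t d ≠ d := by
      by_contra hcon
      push Not at hcon
      have hq : (allBelow 256 fun y => !(quadMask y) || !(allBelow 8 fun a => allBelow 8 fun b => allBelow 8 fun c =>
          allBelow 8 fun e => !(goodN a b c e) || allBelow 8 fun j =>
            cond (Nat.testBit y j) (Nat.testBit y (affN a b c e j)) (!(Nat.testBit y (affN a b c e j))))) = true := by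
        decide +kernel
      have := allBelow_eq_true.1 hq d d.2
      rw [e, Bool.not_true, Bool.false_or, Bool.not_eq_true', Bool.eq_false_iff] at this
      refine this (allBelow_eq_true.2 fun a ha => allBelow_eq_true.2 fun b hb => allBelow_eq_true.2 fun c hc' =>
        allBelow_eq_true.2 fun f hf => ?_)
      cases hgd : goodN a b c f
      · rfl
      · rw [Bool.not_true, Bool.false_or]
        refine allBelow_eq_true.2 fun j hj => ?_
        have h1 := pm_spec ⟨(⟨a, ha⟩, ⟨b, hb⟩, ⟨c, hc'⟩, ⟨f, hf⟩), hgd⟩ d ⟨j, hj⟩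
        rw [hcon, affN_eq] at h1
        simp only at h1
        cases hv : (d : ℕ).testBit j <;> simp [hv] at h1 ⊢ <;> exact h1
    exact ht (hinv t)
  · exfalso
    obtain ⟨k, hk, hkd⟩ := anyCls_iff.1 e
    rw [hno k hk] at hkd
    exact Bool.false_ne_true hkd

namespace Ctx

variable {G : Type u} [Group G] (S : Ctx G)

theorem z_sq : S.z * S.z = 1 := by rw [z, ← map_mul, zW_sq, map_one]

theorem z_ne : S.z ≠ 1 := fun h => zW_ne (S.inj (h.trans (map_one _).symm))

theorem z_comm (x : W1) : S.z * S.e x = S.e x * S.z := by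
  rw [z, ← map_mul, ← map_mul]
  refine congrArg _ (Subtype.ext ?_)
  have h := congrArg (fun y : W1 => (y : W)) (cW_zW (x : W))
  simp only [cW_val] at h
  show (zW : W) * (x : W) = (x : W) * zW
  exact (mul_inv_eq_iff_eq_mul.1 h).symm

theorem z_mem : S.z ∈ S.cent := S.mem_cent.2 S.z_comm

theorem z_cent {c : G} (hc : c ∈ S.cent) : c * S.z = S.z * c := S.mem_cent.1 hc zW

theorem O_le : S.O ≤ S.cent := fun o ho => S.mem_cent.2 (S.O_comm o ho)

theorem h_mem : S.h ∈ S.cent := S.mem_cent.2 S.h_comm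

theorem meet' {x : W1} (h : S.e x ∈ S.cent) : x = 1 ∨ x = zW := S.meet x (S.mem_cent.1 h)

theorem eq_one_of_pow_two {o : G} (ho : o ∈ S.O) {k : ℕ} (h : o ^ 2 ^ k = 1) : o = 1 := by
  have h1 : orderOf o ∣ Nat.card S.O := Subgroup.orderOf_dvd_natCard S.O ho
  have h2 : Nat.Coprime (2 ^ k) (Nat.card S.O) :=
    (Nat.coprime_two_left.2 S.O_odd).pow_left k
  exact orderOf_eq_one_iff.1 (Nat.eq_one_of_dvd_coprimes h2 (orderOf_dvd_of_pow_eq_one h) h1)

theorem z_notin : S.z ∉ S.O := fun h => S.z_ne (S.eq_one_of_pow_two h (k := 1) (by rw [pow_one, sq, S.z_sq]))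

theorem e_notin {x : W1} (h : S.e x ∈ S.O) : x = 1 := by
  rcases S.meet' (S.O_le h) with rfl | rfl
  · rfl
  · exact absurd h S.z_notin

theorem O_normal' {c : G} (hc : c ∈ S.cent) {o : G} (ho : o ∈ S.O) : c * o * c⁻¹ ∈ S.O :=
  S.O_normal c (S.mem_cent.1 hc) o ho

theorem gen' {c : G} (hc : c ∈ S.cent) : ∃ k : ℕ, ∃ o ∈ S.O, c = S.h ^ k * o := S.gen c (S.mem_cent.1 hc)

theorem pow_mem_O {c : G} (hc : c ∈ S.cent) : c ^ 2 ^ S.r ∈ S.O := by
  obtain ⟨k, o, ho, rfl⟩ := S.gen' hc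
  have h : ∀ n : ℕ, (S.h ^ k * o) ^ n * ((S.h ^ k) ^ n)⁻¹ ∈ S.O := fun n => by
    induction n with
    | zero => simp
    | succ n ih =>
      have e : (S.h ^ k * o) ^ (n + 1) * ((S.h ^ k) ^ (n + 1))⁻¹ =
          (S.h ^ k * o) ^ n * ((S.h ^ k) ^ n)⁻¹ * ((S.h ^ k) ^ (n + 1) * o * ((S.h ^ k) ^ (n + 1))⁻¹) := by
        rw [pow_succ, pow_succ]; group
      rw [e]
      exact mul_mem ih (S.O_normal' (pow_mem (pow_mem S.h_mem _) _) ho)
  have h' := h (2 ^ S.r)
  rwa [← pow_mul, mul_comm k, pow_mul, S.h_pow, one_pow, inv_one, mul_one] at h'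

theorem comm_mem_O {c d : G} (hc : c ∈ S.cent) (hd : d ∈ S.cent) : c * d * c⁻¹ * d⁻¹ ∈ S.O := by
  obtain ⟨k, o, ho, rfl⟩ := S.gen' hc
  obtain ⟨m, p, hp, rfl⟩ := S.gen' hd
  have e : S.h ^ k * o * (S.h ^ m * p) * (S.h ^ k * o)⁻¹ * (S.h ^ m * p)⁻¹ =
      (S.h ^ k * o * (S.h ^ k)⁻¹) * (S.h ^ (k + m) * p * o⁻¹ * (S.h ^ (k + m))⁻¹) *
        (S.h ^ m * p⁻¹ * (S.h ^ m)⁻¹) := by
    have e1 : S.h ^ (k + m) = S.h ^ k * S.h ^ m := pow_add _ _ _
    have e2 : S.h ^ (k + m) = S.h ^ m * S.h ^ k := by rw [add_comm, pow_add]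
    calc _ = (S.h ^ k * o * (S.h ^ k)⁻¹) * ((S.h ^ k * S.h ^ m) * p * o⁻¹ * (S.h ^ k)⁻¹ * (p⁻¹ * (S.h ^ m)⁻¹)) := by
          group
      _ = (S.h ^ k * o * (S.h ^ k)⁻¹) * ((S.h ^ k * S.h ^ m) * p * o⁻¹ * (S.h ^ m * S.h ^ k)⁻¹ *
          (S.h ^ m * p⁻¹ * (S.h ^ m)⁻¹)) := by group
      _ = _ := by rw [← e1, ← e2, mul_assoc (S.h ^ k * o * (S.h ^ k)⁻¹)]
  rw [e]
  exact mul_mem (mul_mem (S.O_normal' (pow_mem S.h_mem _) ho)
    (by rw [mul_assoc (S.h ^ (k + m))]; exact S.O_normal' (pow_mem S.h_mem _) (mul_mem hp (inv_mem ho))))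
    (S.O_normal' (pow_mem S.h_mem _) (inv_mem hp))

theorem inv_cent {c : G} (hc : c ∈ S.cent) (h2 : c * c = 1) : c = 1 ∨ c = S.z := by
  obtain ⟨k, o, ho, rfl⟩ := S.gen' hc
  have hk : S.h ^ k * S.h ^ k ∈ S.O := by
    have e : S.h ^ k * S.h ^ k = ((S.h ^ k * S.h ^ k) * o⁻¹ * (S.h ^ k * S.h ^ k)⁻¹) *
        (S.h ^ k * o⁻¹ * (S.h ^ k)⁻¹) * (S.h ^ k * o * (S.h ^ k * o)) := by group
    rw [e, h2, mul_one]
    exact mul_mem (S.O_normal' (mul_mem (pow_mem S.h_mem _) (pow_mem S.h_mem _)) (inv_mem ho))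
      (S.O_normal' (pow_mem S.h_mem _) (inv_mem ho))
  have hk1 : S.h ^ k * S.h ^ k = 1 := S.eq_one_of_pow_two hk (k := S.r) (by
    rw [← pow_add, ← pow_mul, mul_comm, pow_mul, S.h_pow, one_pow])
  obtain ⟨r, hr⟩ : ∃ r, S.r = r + 1 := ⟨S.r - 1, by have := S.rpos; omega⟩
  have hd : orderOf S.h = 2 ^ (r + 1) := by
    refine orderOf_eq_prime_pow (p := 2) ?_ (hr ▸ S.h_pow)
    rw [show r = S.r - 1 by omega, S.h_half]
    exact S.z_ne
  obtain ⟨j, rfl⟩ : 2 ^ r ∣ k := by
    have h' := orderOf_dvd_of_pow_eq_one (show S.h ^ (k + k) = 1 by rw [pow_add, hk1])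
    rw [hd, pow_succ, show k + k = k * 2 by ring] at h'
    exact Nat.dvd_of_mul_dvd_mul_right (by norm_num) h'
  rw [pow_mul, show S.h ^ 2 ^ r = S.z by rw [show r = S.r - 1 by omega, S.h_half]; rfl] at h2 ⊢
  have hz : S.z ^ j = 1 ∨ S.z ^ j = S.z := by
    rcases Nat.even_or_odd j with ⟨i, rfl⟩ | ⟨i, rfl⟩
    · left; rw [← two_mul, pow_mul, sq, S.z_sq, one_pow]
    · right; rw [pow_succ, pow_mul, sq, S.z_sq, one_pow, one_mul]
  have ho2 : o * o = 1 := by
    rcases hz with e | e <;> rw [e] at h2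
    · simpa using h2
    · rw [mul_assoc, ← mul_assoc o, S.z_cent (S.O_le ho), mul_assoc S.z o o, ← mul_assoc, S.z_sq, one_mul] at h2
      exact h2
  rw [S.eq_one_of_pow_two ho (k := 1) (by rw [pow_one, sq, ho2]), mul_one]
  exact hz

/-- An element acts on the cover as a symmetry. -/
def Acts (g : G) (w : W) : Prop := ∀ x, g * S.e x * g⁻¹ = S.e (cW w x)

theorem exists_acts {g : G} (hg : g * S.z = S.z * g) : ∃ w, S.Acts g w := S.act g hg

variable {S}

theorem Acts.comm {g : G} {w : W} (h : S.Acts g w) : g * S.z = S.z * g := by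
  have := h zW
  rw [cW_zW] at this
  exact mul_inv_eq_iff_eq_mul.1 this

theorem Acts.mul {g g' : G} {w w' : W} (h : S.Acts g w) (h' : S.Acts g' w') : S.Acts (g * g') (w * w') := fun x => by
  rw [map_mul, MulAut.mul_apply, ← h, ← h']
  group

theorem Acts.pow {g : G} {w : W} (h : S.Acts g w) : ∀ n : ℕ, S.Acts (g ^ n) (w ^ n)
  | 0 => fun x => by simp
  | n + 1 => by rw [pow_succ, pow_succ]; exact (Acts.pow h n).mul h

theorem acts_e (v : W1) : S.Acts (S.e v) (v : W) := fun x => by rw [cW_inner, map_mul, map_mul, map_inv]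

theorem acts_cent {c : G} (hc : c ∈ S.cent) : S.Acts c 1 := fun x => by
  rw [S.mem_cent.1 hc, mul_inv_cancel_right, map_one, MulAut.one_apply]

theorem Acts.unique {g : G} {w w' : W} (h : S.Acts g w) (h' : S.Acts g w') :
    (w : Equiv.Perm (Fin 240)) = w' ∨ (w : Equiv.Perm (Fin 240)) = negW * w' := by
  have hz : ∀ x, cW (w * w'⁻¹) x = x := fun x => by
    rw [map_mul, MulAut.mul_apply]
    have e := (h ((cW w'⁻¹) x)).symm.trans (h' ((cW w'⁻¹) x))
    rw [S.inj e, ← MulAut.mul_apply, ← map_mul, mul_inv_cancel, map_one, MulAut.one_apply]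
  rcases centraliser_W1 hz with e | e <;> rw [Subgroup.coe_mul, Subgroup.coe_inv, mul_inv_eq_iff_eq_mul] at e
  · exact .inl (e.trans (one_mul _))
  · exact .inr e

theorem Acts.cent_of_one {g : G} {v : W1} (h : S.Acts g (v : W)) : (S.e v)⁻¹ * g ∈ S.cent := S.mem_cent.2 fun x => by
  have h1 := h x
  rw [cW_inner, map_mul, map_mul, map_inv, mul_inv_eq_iff_eq_mul] at h1
  rw [mul_assoc, h1]
  group

/-- An element of odd order of the centraliser of the involution lies in the cover times the odd part. -/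
theorem exists_of_odd {g : G} (hg : g * S.z = S.z * g) {m : ℕ} (hm : Odd m) (h1 : g ^ m = 1) :
    ∃ v : W1, ∃ o ∈ S.O, g = S.e v * o := by
  obtain ⟨w, hw⟩ := S.exists_acts hg
  have hpow := hw.pow m
  rw [h1] at hpow
  have hw1 : w ∈ W1 := by
    rw [W1, MonoidHom.mem_ker]
    have hd : detW w ^ m = 1 := by
      rw [← map_pow, detW_apply]
      rcases hpow.unique (acts_cent (one_mem _)) with e | e
      · rw [e, Subgroup.coe_one, mat_one, Matrix.det_one]
      · rw [e, Subgroup.coe_one, mul_one, negW_det]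
    rcases det_cases w with e | e
    · exact e
    · rw [e, hm.neg_one_pow] at hd; norm_num at hd
  set c := (S.e ⟨w, hw1⟩)⁻¹ * g with hc
  have hcc : c ∈ S.cent := Acts.cent_of_one (v := ⟨w, hw1⟩) hw
  have hpc : S.e (⟨w, hw1⟩ ^ m) * c ^ m = 1 := by
    rw [map_pow, ← (show Commute (S.e ⟨w, hw1⟩) c from (S.mem_cent.1 hcc _).symm).mul_pow, hc, mul_inv_cancel_left, h1]
  have hcm : c ^ (2 * m) = 1 := by
    have hin : S.e (⟨w, hw1⟩ ^ m) ∈ S.cent := by
      rw [eq_inv_of_mul_eq_one_left hpc]; exact inv_mem (pow_mem hcc _)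
    rcases S.meet' hin with e | e <;> rw [e] at hpc
    · rw [map_one, one_mul] at hpc; rw [mul_comm, pow_mul, hpc, one_pow]
    · have e' : c ^ m = S.z := (eq_inv_of_mul_eq_one_right hpc).trans (inv_eq_of_mul_eq_one_right S.z_sq)
      rw [mul_comm, pow_mul, e', sq, S.z_sq]
  have hc2 : c * c ∈ S.O := by
    have hco : Nat.Coprime m (2 ^ S.r) :=
      (Nat.coprime_two_right.2 hm).pow_right _
    obtain ⟨k, hk⟩ := exists_pow_eq_self_of_coprime (n := 2 ^ S.r) (x := c * c) (hco.symm.coprime_dvd_right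
      (orderOf_dvd_of_pow_eq_one (by rw [← sq, ← pow_mul, hcm])))
    rw [← hk, ← sq, ← pow_mul, ← pow_mul, mul_comm 2, mul_assoc, pow_mul]
    exact pow_mem (S.pow_mem_O hcc) _
  obtain ⟨k, o, ho, hck⟩ := S.gen' hcc
  have hk2 : S.h ^ k * S.h ^ k ∈ S.O := by
    have e : S.h ^ k * S.h ^ k = ((S.h ^ k * S.h ^ k) * o⁻¹ * (S.h ^ k * S.h ^ k)⁻¹) *
        (S.h ^ k * o⁻¹ * (S.h ^ k)⁻¹) * (S.h ^ k * o * (S.h ^ k * o)) := by group
    rw [e, ← hck]
    exact mul_mem (mul_mem (S.O_normal' (mul_mem (pow_mem S.h_mem _) (pow_mem S.h_mem _)) (inv_mem ho))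
      (S.O_normal' (pow_mem S.h_mem _) (inv_mem ho))) hc2
  rcases S.inv_cent (pow_mem S.h_mem k) (S.eq_one_of_pow_two hk2 (k := S.r)
    (by rw [← pow_add, ← pow_mul, mul_comm, pow_mul, S.h_pow, one_pow])) with e | e
  · refine ⟨⟨w, hw1⟩, o, ho, ?_⟩
    rw [show o = c by rw [hck, e, one_mul], hc, mul_inv_cancel_left]
  · refine ⟨⟨w, hw1⟩ * zW, o, ho, ?_⟩
    rw [map_mul, mul_assoc, show S.e zW * o = c by rw [hck, e]; rfl, hc, mul_inv_cancel_left]

end Ctx

end Cfsg.Agent.StdO8
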