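import Cfsg.Agent.StdO8.Model

/-!
Moving frames: the symmetry group is generated by the reflections, frames are all alike, and the
stabiliser of a frame acts on its axes as the affine group.
-/

set_option autoImplicit false
set_option maxRecDepth 100000
set_option maxHeartbeats 1000000
set_option linter.unusedSectionVars false

namespace Cfsg.Agent.StdO8

open Cfsg.Agent.Compute

/-- The image of a label under a word in the reflections. -/
noncomputable def actN (w : List ℕ) (x : ℕ) : ℕ :=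
  List.rec (motive := fun _ => ℕ) x (fun a _ y => reflN a y) w

/-- All letters are lines. -/
noncomputable def okN (w : List ℕ) : Bool :=
  List.rec (motive := fun _ => Bool) true (fun a _ r => Nat.blt a 120 && r) w

/-- The symmetry of a word. -/
noncomputable def evalW (w : List ℕ) : Equiv.Perm (Fin 240) :=
  (w.map fun a => refl ⟨a % 120, Nat.mod_lt _ (by norm_num)⟩).prod

theorem evalW_mem (w : List ℕ) : evalW w ∈ W :=
  list_prod_mem fun g hg => by
    obtain ⟨a, -, rfl⟩ := List.mem_map.1 hg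
    exact refl_mem _

theorem evalW_apply : ∀ (w : List ℕ), okN w = true → ∀ x : Fin 240, (evalW w x : ℕ) = actN w x
  | [], _, x => rfl
  | a :: w, h, x => by
    obtain ⟨ha, hw⟩ : Nat.blt a 120 = true ∧ okN w = true := by simpa [okN] using h
    have ih := evalW_apply w hw x
    show ((refl ⟨a % 120, _⟩ (evalW w x) : Fin 240) : ℕ) = reflN a (actN w x)
    have ha' : a < 120 := by simpa [Nat.blt_eq] using ha
    rw [refl_apply, ← ih]
    show reflN (a % 120) _ = _
    rw [Nat.mod_eq_of_lt ha']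

/-- The target line of a step. -/
noncomputable def tgtN (k : ℕ) : ℕ := cond (Nat.beq k 3) 4 k

/-- Orthogonality of two lines. -/
noncomputable def perpN (a b : ℕ) : Bool := Nat.beq (ipN (Nat.mul 2 a) (Nat.mul 2 b)) 2

/-- A line that can occur at a step. -/
noncomputable def candN (k y : ℕ) : Bool :=
  (allBelow k fun j => perpN y (tgtN j)) && !(Nat.beq k 3 && Nat.beq y 3)

/-- The words of a step. -/
noncomputable def chainN (k : ℕ) : List (ℕ × List ℕ) :=
  [chain0, chain1, chain2, chain3].getD k []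

/-- A word moves its line to the target and fixes the earlier targets. -/
noncomputable def stepN (k : ℕ) (p : ℕ × List ℕ) : Bool :=
  okN p.2 && Nat.blt p.1 120 && Nat.beq (Nat.div (actN p.2 (Nat.mul 2 p.1)) 2) (tgtN k) &&
    allBelow k fun j => Nat.beq (Nat.div (actN p.2 (Nat.mul 2 (tgtN j))) 2) (tgtN j)

theorem chain_step : (allBelow 4 fun k => List.all (chainN k) (stepN k)) = true := by decide +kernel

theorem chain_cover : (allBelow 4 fun k => allBelow 120 fun y => !(candN k y) ||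
    !(List.all (chainN k) fun p => !(Nat.beq p.1 y))) = true := by decide +kernel

theorem chain_len : chain0.length = 120 ∧ chain1.length = 63 ∧ chain2.length = 30 ∧ chain3.length = 12 := by
  decide +kernel

/-- The target of a step. -/
noncomputable def tgt (k : Fin 4) : Fin 120 := ⟨tgtN k, by unfold tgtN; fin_cases k <;> decide⟩

theorem exists_step (k : Fin 4) (y : Fin 120) (hy : ∀ j < k, ip (rt y) (rt (tgt j)) = 0)
    (h3 : (k : ℕ) = 3 → (y : ℕ) ≠ 3) :
    ∃ p ∈ chainN k, p.1 = y ∧ ln (evalW p.2 (rt y)) = tgt k ∧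
      ∀ j < k, ln (evalW p.2 (rt (tgt j))) = tgt j := by
  have hc : candN k y = true := by
    rw [candN, Bool.and_eq_true, allBelow_eq_true]
    refine ⟨fun j hj => ?_, ?_⟩
    · have h := hy ⟨j, hj.trans k.2⟩ hj
      rw [ip] at h
      rw [perpN, Nat.beq_eq]
      simp only [rt, tgt] at h
      rw [Nat.mul_eq, Nat.mul_eq]; omega
    · rw [Bool.not_eq_true', Bool.and_eq_false_iff]
      by_cases e : (k : ℕ) = 3
      · right; exact Bool.eq_false_iff.2 fun hb => h3 e (Nat.eq_of_beq_eq_true hb)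
      · left; exact Bool.eq_false_iff.2 fun hb => e (Nat.eq_of_beq_eq_true hb)
  have h := allBelow_eq_true.1 (allBelow_eq_true.1 chain_cover k k.2) y y.2
  rw [hc, Bool.not_true, Bool.false_or, Bool.not_eq_true'] at h
  obtain ⟨p, hp, hpy⟩ : ∃ p ∈ chainN k, p.1 = (y : ℕ) := by
    by_contra hcon
    push Not at hcon
    rw [show (List.all (chainN k) fun p => !(Nat.beq p.1 (y : ℕ))) = true from List.all_eq_true.2 fun p hp => by
      rw [Bool.not_eq_true']; exact Bool.eq_false_iff.2 fun hb => hcon p hp (Nat.eq_of_beq_eq_true hb)] at h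
    exact Bool.noConfusion h
  have hs := List.all_eq_true.1 (allBelow_eq_true.1 chain_step k k.2) p hp
  simp only [stepN, Bool.and_eq_true, allBelow_eq_true, Nat.beq_eq] at hs
  obtain ⟨⟨⟨hok, -⟩, ht⟩, hfix⟩ := hs
  refine ⟨p, hp, hpy, Fin.ext ?_, fun j hj => Fin.ext ?_⟩
  · show (evalW p.2 (rt y) : ℕ) / 2 = tgtN k
    rw [evalW_apply _ hok, show ((rt y : Fin 240) : ℕ) = Nat.mul 2 p.1 from by rw [hpy]; rfl]
    exact ht
  · show (evalW p.2 (rt (tgt j)) : ℕ) / 2 = tgtN j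
    rw [evalW_apply _ hok]
    exact hfix j hj

/-- The frame line of an axis. -/
def ax (i : Fin 8) : Fin 120 := ⟨(i : ℕ), by omega⟩

theorem rt_ax (i : Fin 8) : rt (ax i) = ev i := Fin.ext rfl

theorem ax_injective : Function.Injective ax := fun i j h => by simpa [ax, Fin.ext_iff] using h

theorem ln_ev (i : Fin 8) : ln (ev i) = ax i := by rw [← rt_ax, ln_rt]

theorem tgt_eq : tgt 0 = ax 0 ∧ tgt 1 = ax 1 ∧ tgt 2 = ax 2 ∧ tgt 3 = ax 4 :=
  ⟨rfl, rfl, rfl, rfl⟩

theorem ip_ln_zero {g : Equiv.Perm (Fin 240)} (hg : g ∈ W) {a b : Fin 120} {x y : Fin 240}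
    (ha : ln (g (rt a)) = ln x) (hb : ln (g (rt b)) = ln y) (h : ip (rt a) (rt b) = 0) : ip x y = 0 := by
  rw [← hg] at h
  rcases ln_eq ha with e | e <;> rcases ln_eq hb with e' | e' <;>
    simpa [e, e', ip_negP_left, ip_negP_right] using h

theorem ip_rt_zero {x y : Fin 240} (h : ip x y = 0) : ip (rt (ln x)) (rt (ln y)) = 0 := by
  rcases ln_eq (ln_rt (ln x)) with e | e <;> rcases ln_eq (ln_rt (ln y)) with e' | e' <;>
    simp [e, e', ip_negP_left, ip_negP_right, h]

theorem ip_ev_ev {i j : Fin 8} (h : i ≠ j) : ip (ev i) (ev j) = 0 := by rw [ip_ev, co_ev, if_neg h]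

/-- Two roots meeting four roots. -/
def QuadRoot (a b c d : Fin 240) : Prop := ∃ r, ip r a ≠ 0 ∧ ip r b ≠ 0 ∧ ip r c ≠ 0 ∧ ip r d ≠ 0

theorem QuadRoot.map {g : Equiv.Perm (Fin 240)} (hg : g ∈ W) {a b c d : Fin 240} (h : QuadRoot a b c d) :
    QuadRoot (g a) (g b) (g c) (g d) := by
  obtain ⟨r, hr⟩ := h
  exact ⟨g r, by simpa [mem_W.1 hg] using hr⟩

/-- Some root meets all four lines. -/
noncomputable def quadN (a b c d : ℕ) : Bool :=
  !(allBelow 240 fun r => Nat.beq (ipN r (Nat.mul 2 a)) 2 || Nat.beq (ipN r (Nat.mul 2 b)) 2 ||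
    Nat.beq (ipN r (Nat.mul 2 c)) 2 || Nat.beq (ipN r (Nat.mul 2 d)) 2)

theorem quadN_iff (a b c d : Fin 120) : quadN a b c d = true ↔ QuadRoot (rt a) (rt b) (rt c) (rt d) := by
  have key : ∀ (r : Fin 240) (a : Fin 120), Nat.beq (ipN r (Nat.mul 2 a)) 2 = true ↔ ip r (rt a) = 0 := fun r a => by
    rw [Nat.beq_eq, ip, Nat.mul_eq, show ((rt a : Fin 240) : ℕ) = 2 * (a : ℕ) from rfl]; omega
  rw [quadN, Bool.not_eq_true', Bool.eq_false_iff, ne_eq, allBelow_eq_true]
  constructor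
  · intro h
    push Not at h
    obtain ⟨r, hr, h⟩ := h
    simp only [ne_eq, Bool.or_eq_true, not_or] at h
    have k := key ⟨r, hr⟩
    exact ⟨⟨r, hr⟩, fun e => h.1.1.1 ((k a).2 e), fun e => h.1.1.2 ((k b).2 e),
      fun e => h.1.2 ((k c).2 e), fun e => h.2 ((k d).2 e)⟩
  · rintro ⟨r, h1, h2, h3, h4⟩ hall
    have := hall r r.2
    simp only [Bool.or_eq_true, key r] at this
    rcases this with ((h | h) | h) | h <;> contradiction

/-- The fourth axis of a quad. -/
noncomputable def xor3 (a b c : ℕ) : ℕ := Nat.xor (Nat.xor a b) c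

theorem quad_chk : (allBelow 8 fun a => allBelow 8 fun b => allBelow 8 fun c =>
    Nat.beq a b || Nat.beq a c || Nat.beq b c ||
      (quadN a b c (xor3 a b c) && allBelow 120 fun y =>
        !(perpN y a && perpN y b && perpN y c) || Nat.beq y (xor3 a b c) || !(quadN a b c y))) = true := by
  decide +kernel

theorem rest_chk : (allBelow 120 fun y =>
    !(perpN y 0 && perpN y 1 && perpN y 2 && perpN y 4) || Nat.blt y 8) = true := by decide +kernel

attribute [local irreducible] quadN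

/-- The fourth axis. -/
noncomputable def comp3 (a b c : Fin 8) : Fin 8 := ⟨xor3 a b c, Nat.xor_lt_two_pow (n := 3) (Nat.xor_lt_two_pow (n := 3) a.2 b.2) c.2⟩

theorem quad_spec {a b c : Fin 8} (h1 : a ≠ b) (h2 : a ≠ c) (h3 : b ≠ c) :
    QuadRoot (ev a) (ev b) (ev c) (ev (comp3 a b c)) ∧
      ∀ y : Fin 240, ip y (ev a) = 0 → ip y (ev b) = 0 → ip y (ev c) = 0 → QuadRoot (ev a) (ev b) (ev c) y →
        ln y = ax (comp3 a b c) := by
  have h := allBelow_eq_true.1 (allBelow_eq_true.1 (allBelow_eq_true.1 quad_chk a a.2) b b.2) c c.2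
  have n1 : ¬ Nat.beq (a : ℕ) b = true := fun e => h1 (Fin.ext (Nat.eq_of_beq_eq_true e))
  have n2 : ¬ Nat.beq (a : ℕ) c = true := fun e => h2 (Fin.ext (Nat.eq_of_beq_eq_true e))
  have n3 : ¬ Nat.beq (b : ℕ) c = true := fun e => h3 (Fin.ext (Nat.eq_of_beq_eq_true e))
  rw [Bool.eq_false_iff.2 n1, Bool.eq_false_iff.2 n2, Bool.eq_false_iff.2 n3, Bool.false_or, Bool.false_or, Bool.false_or] at h
  simp only [Bool.or_eq_true, Bool.and_eq_true, allBelow_eq_true, Bool.not_eq_true'] at h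
  refine ⟨?_, fun y ha hb hc hq => ?_⟩
  · simpa [rt_ax] using (quadN_iff (ax a) (ax b) (ax c) (ax (comp3 a b c))).1 h.1
  · have h' := h.2 (ln y) (ln y).2
    have hp : ∀ i, ip y (ev i) = 0 → perpN (ln y) i = true := fun i hi => by
      have := ip_rt_zero hi
      rw [ln_ev, rt_ax, ip] at this
      rw [perpN, Nat.beq_eq, Nat.mul_eq, Nat.mul_eq]
      simp only [rt, ev] at this
      omega
    rw [hp a ha, hp b hb, hp c hc] at h'
    simp only [Bool.and_self, Bool.true_eq_false, false_or] at h'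
    rcases h' with h' | h'
    · exact Fin.ext (Nat.eq_of_beq_eq_true h')
    · exfalso
      refine Bool.eq_false_iff.1 h' ((quadN_iff (ax a) (ax b) (ax c) (ln y)).2 ?_)
      simp only [rt_ax]
      obtain ⟨r, hr⟩ := hq
      refine ⟨r, hr.1, hr.2.1, hr.2.2.1, ?_⟩
      rcases ip_rt_ln r y with e | e <;> simp [e, hr.2.2.2]

theorem rest_spec {y : Fin 240} (h0 : ip y (ev 0) = 0) (h1 : ip y (ev 1) = 0) (h2 : ip y (ev 2) = 0)
    (h4 : ip y (ev 4) = 0) : ∃ i, ln y = ax i := by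
  have h := allBelow_eq_true.1 rest_chk (ln y) (ln y).2
  have hp : ∀ i, ip y (ev i) = 0 → perpN (ln y) (i : Fin 8) = true := fun i hi => by
    have := ip_rt_zero hi
    rw [ln_ev, rt_ax, ip] at this
    rw [perpN, Nat.beq_eq, Nat.mul_eq, Nat.mul_eq]
    simp only [rt, ev] at this
    omega
  have e0 := hp 0 h0; have e1 := hp 1 h1; have e2 := hp 2 h2; have e4 := hp 4 h4
  simp only [Fin.val_zero, Fin.val_one, Fin.val_two, show ((4 : Fin 8) : ℕ) = 4 from rfl] at e0 e1 e2 e4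
  rw [e0, e1, e2, e4] at h
  exact ⟨⟨ln y, by simpa [Nat.blt_eq] using h⟩, Fin.ext rfl⟩

/-- The signs of a mask. -/
noncomputable def dWord (d : ℕ) : List ℕ := (List.range 8).filter fun i => d.testBit i

/-- The diagonal symmetry of a mask. -/
noncomputable def D (d : Fin 256) : Equiv.Perm (Fin 240) := evalW (dWord d)

theorem D_mem (d : Fin 256) : D d ∈ W := evalW_mem _

theorem d_chk : (allBelow 256 fun d => okN (dWord d) && allBelow 8 fun i =>
    Nat.beq (actN (dWord d) (Nat.mul 2 i)) (cond (Nat.testBit d i) (negN (Nat.mul 2 i)) (Nat.mul 2 i))) = true := by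
  decide +kernel

theorem D_ev (d : Fin 256) (i : Fin 8) :
    D d (ev i) = if (d : ℕ).testBit i then negP (ev i) else ev i := by
  have h := allBelow_eq_true.1 d_chk d d.2
  simp only [Bool.and_eq_true, allBelow_eq_true] at h
  have h2 := Nat.eq_of_beq_eq_true (h.2 i i.2)
  apply Fin.ext
  rw [D, evalW_apply _ h.1]
  show actN _ (2 * (i : ℕ)) = _
  rw [Nat.mul_eq] at h2
  rw [h2]
  cases (d : ℕ).testBit i <;> rfl

theorem exists_mask (p : Fin 8 → Prop) : ∃ d : Fin 256, ∀ i : Fin 8, (d : ℕ).testBit (i : ℕ) = true ↔ p i := by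
  classical
  have key : ∀ q : Fin 8 → Bool, ∃ d : Fin 256, ∀ i : Fin 8, (d : ℕ).testBit (i : ℕ) = q i := by
    intro q
    have hinj : Function.Injective fun d : Fin 256 => fun i : Fin 8 => (d : ℕ).testBit i := fun a b h =>
      Fin.ext (Nat.eq_of_testBit_eq fun j => by
        rcases Nat.lt_or_ge j 8 with hj | hj
        · exact congrFun h ⟨j, hj⟩
        · have hp : 2 ^ 8 ≤ 2 ^ j := Nat.pow_le_pow_right (by norm_num) hj
          rw [Nat.testBit_lt_two_pow (lt_of_lt_of_le a.2 hp), Nat.testBit_lt_two_pow (lt_of_lt_of_le b.2 hp)])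
    obtain ⟨d, hd⟩ := ((Fintype.bijective_iff_injective_and_card _).2 ⟨hinj, by simp⟩).2 q
    exact ⟨d, congrFun hd⟩
  obtain ⟨d, hd⟩ := key fun i => decide (p i)
  exact ⟨d, fun i => by rw [hd]; simp⟩

/-- A symmetry fixing the four axes of a basis fixes all and is diagonal. -/
theorem eq_D_of_fix {g : Equiv.Perm (Fin 240)} (hg : g ∈ W) (h : ∀ k : Fin 4, ln (g (rt (tgt k))) = tgt k) :
    ∃ d, g = D d := by
  obtain ⟨t0, t1, t2, t3⟩ := tgt_eq
  have f0 : ln (g (ev 0)) = ax 0 := by simpa [t0, rt_ax] using h 0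
  have f1 : ln (g (ev 1)) = ax 1 := by simpa [t1, rt_ax] using h 1
  have f2 : ln (g (ev 2)) = ax 2 := by simpa [t2, rt_ax] using h 2
  have f4 : ln (g (ev 4)) = ax 4 := by simpa [t3, rt_ax] using h 3
  have step : ∀ a b c : Fin 8, a ≠ b → a ≠ c → b ≠ c → ln (g (ev a)) = ax a → ln (g (ev b)) = ax b →
      ln (g (ev c)) = ax c → (a ≠ comp3 a b c ∧ b ≠ comp3 a b c ∧ c ≠ comp3 a b c) →
      ln (g (ev (comp3 a b c))) = ax (comp3 a b c) := by
    intro a b c h1 h2 h3 fa fb fc hne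
    obtain ⟨hq, huniq⟩ := quad_spec h1 h2 h3
    have hz : ∀ x, x ≠ comp3 a b c → ln (g (ev x)) = ax x → ip (g (ev (comp3 a b c))) (ev x) = 0 := by
      intro x hx fx
      exact ip_ln_zero hg (a := ax (comp3 a b c)) (b := ax x) (x := g (ev (comp3 a b c))) (y := ev x)
        (by rw [rt_ax]) (by rw [rt_ax, fx, ln_ev]) (by rw [rt_ax, rt_ax, ip_ev_ev hx.symm])
    refine huniq _ (hz a hne.1 fa) (hz b hne.2.1 fb) (hz c hne.2.2 fc) ?_
    obtain ⟨r, q1, q2, q3, q4⟩ := hq.map hg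
    refine ⟨r, ?_, ?_, ?_, q4⟩
    · rcases ln_eq (fa.trans (ln_ev a).symm) with e | e <;> simpa [e, ip_negP_right] using q1
    · rcases ln_eq (fb.trans (ln_ev b).symm) with e | e <;> simpa [e, ip_negP_right] using q2
    · rcases ln_eq (fc.trans (ln_ev c).symm) with e | e <;> simpa [e, ip_negP_right] using q3
  have all : ∀ i : Fin 8, ln (g (ev i)) = ax i := by
    intro i
    have f3 := step 0 1 2 (by decide) (by decide) (by decide) f0 f1 f2 (by decide +kernel)
    have f5 := step 0 1 4 (by decide) (by decide) (by decide) f0 f1 f4 (by decide +kernel)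
    have f6 := step 0 2 4 (by decide) (by decide) (by decide) f0 f2 f4 (by decide +kernel)
    have f7 := step 1 2 4 (by decide) (by decide) (by decide) f1 f2 f4 (by decide +kernel)
    rw [show comp3 0 1 2 = 3 from Fin.ext (by decide +kernel)] at f3
    rw [show comp3 0 1 4 = 5 from Fin.ext (by decide +kernel)] at f5
    rw [show comp3 0 2 4 = 6 from Fin.ext (by decide +kernel)] at f6
    rw [show comp3 1 2 4 = 7 from Fin.ext (by decide +kernel)] at f7
    fin_cases i <;> assumption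
  obtain ⟨d, hd⟩ := exists_mask fun i => g (ev i) = negP (ev i)
  refine ⟨d, W_ext hg (D_mem d) fun i => ?_⟩
  rw [D_ev]
  rcases ln_eq ((all i).trans (ln_ev i).symm) with e | e
  · rw [e, if_neg]
    rw [hd, e]
    exact fun e' => negP_ne _ e'.symm
  · rw [if_pos ((hd i).2 e), e]

/-- A word moving four roots with the pattern of a basis to the axes of a basis. -/
theorem move_four (r : Fin 4 → Fin 240) (hp : ∀ i j, i ≠ j → ip (r i) (r j) = 0)
    (hq : ¬ QuadRoot (r 0) (r 1) (r 2) (r 3)) :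
    ∃ p₀ ∈ chainN 0, ∃ p₁ ∈ chainN 1, ∃ p₂ ∈ chainN 2, ∃ p₃ ∈ chainN 3,
      ∀ k : Fin 4, ln ((evalW p₃.2 * evalW p₂.2 * evalW p₁.2 * evalW p₀.2) (r k)) = tgt k := by
  have key : ∀ (g : Equiv.Perm (Fin 240)), g ∈ W → ∀ k : Fin 4, (∀ j < k, ln (g (r j)) = tgt j) →
      ∃ p ∈ chainN k, ∀ j ≤ k, ln (evalW p.2 (g (r j))) = tgt j := by
    intro g hg k hk
    obtain ⟨p, hp', -, h1, h2⟩ := exists_step k (ln (g (r k))) (fun j hj => by
        rw [← hk j hj]
        exact ip_rt_zero (by rw [mem_W.1 hg]; exact hp k j (ne_of_gt hj)))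
      (fun e3 e => by
        obtain rfl : k = 3 := Fin.ext e3
        refine hq ?_
        have hz := (QuadRoot.map (inv_mem hg) (a := ev 0) (b := ev 1) (c := ev 2) (d := ev 3)
          (by have := (quad_spec (a := 0) (b := 1) (c := 2) (by decide) (by decide) (by decide)).1
              rwa [show comp3 0 1 2 = 3 from Fin.ext (by decide +kernel)] at this))
        obtain ⟨q, q1, q2, q3, q4⟩ := hz
        obtain ⟨t0, t1, t2, -⟩ := tgt_eq
        have conv : ∀ (i : Fin 4) (x : Fin 8), ln (g (r i)) = ax x → ip q (g⁻¹ (ev x)) ≠ 0 → ip q (r i) ≠ 0 := by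
          intro i x hx hne h0
          apply hne
          rw [← mem_W.1 hg, app_inv]
          rcases ln_eq (hx.trans (ln_ev x).symm) with e' | e'
          · rw [← e', mem_W.1 hg, h0]
          · rw [show ev x = negP (g (r i)) by rw [e', negP_negP], ip_negP_right, mem_W.1 hg, h0, neg_zero]
        exact ⟨q, conv 0 0 (t0 ▸ hk 0 (by decide)) q1, conv 1 1 (t1 ▸ hk 1 (by decide)) q2,
          conv 2 2 (t2 ▸ hk 2 (by decide)) q3, conv 3 3 (Fin.ext e) q4⟩)
    refine ⟨p, hp', fun j hj => ?_⟩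
    rcases eq_or_lt_of_le hj with rfl | hlt
    · exact (ln_map (evalW_mem _) (ln_rt _).symm).trans h1
    · exact (ln_map (evalW_mem _) ((hk j hlt).trans (ln_rt _).symm)).trans (h2 j hlt)
  obtain ⟨p₀, m₀, e₀⟩ := key 1 (one_mem _) 0 (fun j hj => absurd hj (by simp))
  obtain ⟨p₁, m₁, e₁⟩ := key (evalW p₀.2) (evalW_mem _) 1 (fun j hj => e₀ j (by
    fin_cases j <;> first | decide | exact absurd hj (by decide)))
  obtain ⟨p₂, m₂, e₂⟩ := key (evalW p₁.2 * evalW p₀.2) (mul_mem (evalW_mem _) (evalW_mem _)) 2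
    (fun j hj => e₁ j (by fin_cases j <;> first | decide | exact absurd hj (by decide)))
  obtain ⟨p₃, m₃, e₃⟩ := key (evalW p₂.2 * evalW p₁.2 * evalW p₀.2)
    (mul_mem (mul_mem (evalW_mem _) (evalW_mem _)) (evalW_mem _)) 3
    (fun j hj => e₂ j (by fin_cases j <;> first | decide | exact absurd hj (by decide)))
  exact ⟨p₀, m₀, p₁, m₁, p₂, m₂, p₃, m₃, fun k => e₃ k (Fin.le_last k)⟩

theorem basis_noQuad : ¬ QuadRoot (ev 0) (ev 1) (ev 2) (ev 4) := by
  have h : quadN 0 1 2 4 = false := by decide +kernel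
  intro hq
  have := (quadN_iff (ax 0) (ax 1) (ax 2) (ax 4)).2 (by simpa [rt_ax] using hq)
  exact Bool.noConfusion (h.symm.trans this)

/-- The four axes of a basis. -/
def bas : Fin 4 → Fin 8 := ![0, 1, 2, 4]

theorem rt_tgt (k : Fin 4) : rt (tgt k) = ev (bas k) := by
  obtain ⟨t0, t1, t2, t3⟩ := tgt_eq
  fin_cases k
  · exact t0 ▸ rt_ax 0
  · exact t1 ▸ rt_ax 1
  · exact t2 ▸ rt_ax 2
  · exact t3 ▸ rt_ax 4

/-- Every symmetry is a product of chain words and a diagonal one. -/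
theorem W_normal_form {g : Equiv.Perm (Fin 240)} (hg : g ∈ W) :
    ∃ p₀ ∈ chainN 0, ∃ p₁ ∈ chainN 1, ∃ p₂ ∈ chainN 2, ∃ p₃ ∈ chainN 3, ∃ d,
      g = (evalW p₃.2 * evalW p₂.2 * evalW p₁.2 * evalW p₀.2)⁻¹ * D d := by
  obtain ⟨p₀, m₀, p₁, m₁, p₂, m₂, p₃, m₃, h⟩ := move_four (fun k => g (ev (bas k)))
    (fun i j hij => by rw [mem_W.1 hg]; exact ip_ev_ev fun e => hij (by revert e; revert i j; decide))
    (fun hq => basis_noQuad (by simpa [bas] using hq.map (inv_mem hg)))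
  set w := evalW p₃.2 * evalW p₂.2 * evalW p₁.2 * evalW p₀.2
  obtain ⟨d, hd⟩ := eq_D_of_fix (g := w * g)
    (mul_mem (mul_mem (mul_mem (mul_mem (evalW_mem _) (evalW_mem _)) (evalW_mem _)) (evalW_mem _)) hg)
    fun k => by rw [Equiv.Perm.mul_apply, rt_tgt]; exact h k
  exact ⟨p₀, m₀, p₁, m₁, p₂, m₂, p₃, m₃, d, by rw [← hd, inv_mul_cancel_left]⟩

/-- The symmetries are generated by the reflections. -/
theorem W_closure : W = Subgroup.closure (Set.range refl) := by
  refine le_antisymm (fun g hg => ?_) ((Subgroup.closure_le W).2 (by rintro _ ⟨a, rfl⟩; exact refl_mem a))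
  have hw : ∀ w, evalW w ∈ Subgroup.closure (Set.range refl) := fun w => list_prod_mem fun g hg => by
    obtain ⟨a, -, rfl⟩ := List.mem_map.1 hg
    exact Subgroup.subset_closure ⟨_, rfl⟩
  obtain ⟨p₀, -, p₁, -, p₂, -, p₃, -, d, rfl⟩ := W_normal_form hg
  exact mul_mem (inv_mem (mul_mem (mul_mem (mul_mem (hw _) (hw _)) (hw _)) (hw _))) (hw _)

theorem card_W_le : Nat.card W ≤ 696729600 := by
  obtain ⟨l0, l1, l2, l3⟩ := chain_len
  let f : Fin chain0.length × Fin chain1.length × Fin chain2.length × Fin chain3.length × Fin 256 → W :=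
    fun x => ⟨(evalW chain3[x.2.2.2.1].2 * evalW chain2[x.2.2.1].2 * evalW chain1[x.2.1].2 *
      evalW chain0[x.1].2)⁻¹ * D x.2.2.2.2,
      mul_mem (inv_mem (mul_mem (mul_mem (mul_mem (evalW_mem _) (evalW_mem _)) (evalW_mem _)) (evalW_mem _))) (D_mem _)⟩
  have hf : Function.Surjective f := by
    rintro ⟨g, hg⟩
    obtain ⟨p₀, m₀, p₁, m₁, p₂, m₂, p₃, m₃, d, rfl⟩ := W_normal_form hg
    obtain ⟨i0, h0, rfl⟩ := List.mem_iff_getElem.1 (show p₀ ∈ chain0 from m₀)
    obtain ⟨i1, h1, rfl⟩ := List.mem_iff_getElem.1 (show p₁ ∈ chain1 from m₁)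
    obtain ⟨i2, h2, rfl⟩ := List.mem_iff_getElem.1 (show p₂ ∈ chain2 from m₂)
    obtain ⟨i3, h3, rfl⟩ := List.mem_iff_getElem.1 (show p₃ ∈ chain3 from m₃)
    exact ⟨(⟨i0, h0⟩, ⟨i1, h1⟩, ⟨i2, h2⟩, ⟨i3, h3⟩, d), rfl⟩
  refine (Nat.card_le_card_of_surjective f hf).trans_eq ?_
  simp only [Nat.card_prod, Nat.card_fin, l0, l1, l2, l3]

/-- Eight orthogonal roots are moved onto the axes. -/
theorem frame_std (r : Fin 8 → Fin 240) (hp : ∀ i j, i ≠ j → ip (r i) (r j) = 0) :
    ∃ g ∈ W, ∀ i, ∃ j, ln (g (r i)) = ax j := by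
  obtain ⟨t0, t1, t2, t3⟩ := tgt_eq
  obtain ⟨p0, -, -, a0, -⟩ := exists_step 0 (ln (r 0)) (fun j hj => absurd hj (by simp)) (by simp)
  have hg0 := evalW_mem p0.2
  set g0 := evalW p0.2
  have b0 : ln (g0 (r 0)) = tgt 0 := (ln_map hg0 (ln_rt _).symm).trans a0
  obtain ⟨p1, -, -, a1, c1⟩ := exists_step 1 (ln (g0 (r 1))) (fun j hj => by
    obtain rfl : j = 0 := by omega
    rw [← b0]; exact ip_rt_zero (by rw [mem_W.1 hg0]; exact hp 1 0 (by decide))) (by simp)
  set g1 := evalW p1.2 * g0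
  have hg1 : g1 ∈ W := mul_mem (evalW_mem _) hg0
  have b1 : ln (g1 (r 0)) = tgt 0 ∧ ln (g1 (r 1)) = tgt 1 :=
    ⟨(ln_map (evalW_mem _) (b0.trans (ln_rt _).symm)).trans (c1 0 (by decide)),
      (ln_map (evalW_mem _) (ln_rt _).symm).trans a1⟩
  obtain ⟨p2, -, -, a2, c2⟩ := exists_step 2 (ln (g1 (r 2))) (fun j hj => by
    obtain rfl | rfl : j = 0 ∨ j = 1 := by omega
    · rw [← b1.1]; exact ip_rt_zero (by rw [mem_W.1 hg1]; exact hp 2 0 (by decide))
    · rw [← b1.2]; exact ip_rt_zero (by rw [mem_W.1 hg1]; exact hp 2 1 (by decide))) (by simp)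
  set g2 := evalW p2.2 * g1
  have hg2 : g2 ∈ W := mul_mem (evalW_mem _) hg1
  have b2 : ln (g2 (r 0)) = tgt 0 ∧ ln (g2 (r 1)) = tgt 1 ∧ ln (g2 (r 2)) = tgt 2 :=
    ⟨(ln_map (evalW_mem _) (b1.1.trans (ln_rt _).symm)).trans (c2 0 (by decide)),
      (ln_map (evalW_mem _) (b1.2.trans (ln_rt _).symm)).trans (c2 1 (by decide)),
      (ln_map (evalW_mem _) (ln_rt _).symm).trans a2⟩
  obtain ⟨m, hm, hm3⟩ : ∃ m : Fin 8, 3 ≤ (m : ℕ) ∧ (ln (g2 (r m)) : ℕ) ≠ 3 := by
    by_contra hcon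
    push Not at hcon
    have e : ln (g2 (r 3)) = ln (g2 (r 4)) := Fin.ext ((hcon 3 (by decide)).trans (hcon 4 (by decide)).symm)
    have h0 : ip (g2 (r 3)) (g2 (r 4)) = 0 := by rw [mem_W.1 hg2]; exact hp 3 4 (by decide)
    rcases ln_eq e with e' | e'
    · rw [e', ip_self] at h0; omega
    · rw [e', ip_negP_left, ip_self] at h0; omega
  obtain ⟨p3, -, -, a3, c3⟩ := exists_step 3 (ln (g2 (r m))) (fun j hj => by
    obtain rfl | rfl | rfl : j = 0 ∨ j = 1 ∨ j = 2 := by omega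
    · rw [← b2.1]; exact ip_rt_zero (by rw [mem_W.1 hg2]; exact hp m 0 (fun e => by subst e; simp at hm))
    · rw [← b2.2.1]; exact ip_rt_zero (by rw [mem_W.1 hg2]; exact hp m 1 (fun e => by subst e; simp at hm))
    · rw [← b2.2.2]; exact ip_rt_zero (by rw [mem_W.1 hg2]; exact hp m 2 (fun e => by subst e; simp at hm))) (fun _ => hm3)
  set g := evalW p3.2 * g2
  have hg : g ∈ W := mul_mem (evalW_mem _) hg2
  have f0 : ln (g (r 0)) = ax 0 := ((ln_map (evalW_mem _) (b2.1.trans (ln_rt _).symm)).trans (c3 0 (by decide))).trans t0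
  have f1 : ln (g (r 1)) = ax 1 := ((ln_map (evalW_mem _) (b2.2.1.trans (ln_rt _).symm)).trans (c3 1 (by decide))).trans t1
  have f2 : ln (g (r 2)) = ax 2 := ((ln_map (evalW_mem _) (b2.2.2.trans (ln_rt _).symm)).trans (c3 2 (by decide))).trans t2
  have f4 : ln (g (r m)) = ax 4 := ((ln_map (evalW_mem _) (ln_rt _).symm).trans a3).trans t3
  refine ⟨g, hg, fun i => ?_⟩
  by_cases h : i = 0 ∨ i = 1 ∨ i = 2 ∨ i = m
  · rcases h with rfl | rfl | rfl | rfl
    exacts [⟨_, f0⟩, ⟨_, f1⟩, ⟨_, f2⟩, ⟨_, f4⟩]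
  · simp only [not_or] at h
    have hz : ∀ (j : Fin 8) (x : Fin 8), i ≠ j → ln (g (r j)) = ax x → ip (g (r i)) (ev x) = 0 := by
      intro j x hij hx
      have h0 : ip (g (r i)) (g (r j)) = 0 := by rw [mem_W.1 hg]; exact hp i j hij
      rcases ln_eq (hx.trans (ln_ev x).symm) with e | e <;> simpa [e, ip_negP_right] using h0
    exact rest_spec (hz 0 0 h.1 f0) (hz 1 1 h.2.1 f1) (hz 2 2 h.2.2.1 f2) (hz m 4 h.2.2.2 f4)

/-- No root is orthogonal to a whole frame. -/
theorem exists_ip_ev_ne (x : Fin 240) : ∃ i, ip x (ev i) ≠ 0 := by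
  by_contra hcon
  push Not at hcon
  have h := ip_sum x x
  simp only [← ip_ev, hcon, mul_zero, Finset.sum_const_zero, ip_self] at h
  omega

end Cfsg.Agent.StdO8
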