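import Cfsg.Agent.StdO8.Halves
import Cfsg.Agent.StdO8.Det
import Cfsg.Agent.StdOE.Cover.Main

/-!
The kernel of the determinant on the Weyl group of type `E8` is the double cover of the orthogonal
group of plus type of dimension eight over two elements, and every such cover is isomorphic to it.
-/

set_option autoImplicit false
set_option maxRecDepth 100000

namespace Cfsg.Agent.StdO8

open Cfsg.Agent.Compute Cfsg.Agent.StemCert.CyclicSheets
open Cfsg.Agent.OrthMult
open scoped commutatorElement

theorem refl_code_chk : (allBelow 240 fun x =>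
    Nat.beq (cAct 8 2 StdOE.Cover.reflCode x) (reflN 0 x)) = true := by decide +kernel

attribute [local irreducible] cAct StdOE.Cover.reflCode reflN genN pbN

theorem refl_eq : StdOE.Cover.refl = refl 0 := Equiv.ext fun x => Fin.ext (by
  rw [StdOE.Cover.refl, StdOE.Cover.den_half StdOE.Cover.refl_spec.1]
  exact Nat.eq_of_beq_eq_true (allBelow_eq_true.1 refl_code_chk x x.2))

theorem half_eq (y : StdOE.Cover.Γ₈) :
    (homA StdOE.Cover.F₂ y : Equiv.Perm (Fin 240)) = StdOE.Cover.half y := by
  obtain ⟨a, b, c, h⟩ := exists_three y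
  rw [(hom_eq h).1]
  exact Equiv.ext fun x => Fin.ext
    ((congrArg Fin.val (h.actA x)).symm.trans (StdOE.Cover.half_apply y x).symm)

theorem M_le : StdOE.Cover.M ≤ W := by
  rw [← StdOE.Cover.half_range]
  rintro _ ⟨y, rfl⟩
  exact half_eq y ▸ (homA _ y).2

theorem W_eq : StdOE.Cover.W = W := by
  refine Subgroup.eq_of_le_of_card_ge (sup_le M_le (Subgroup.zpowers_le.2 ?_)) ?_
  · rw [refl_eq]; exact refl_mem 0
  · rw [StdOE.Cover.card_W, card_W]

theorem detW_comm (a b : W) : detW ⁅a, b⁆ = 1 := by
  rw [commutatorElement_def, map_mul, map_mul, map_mul, mul_assoc (detW a), mul_comm (detW b),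
    ← mul_assoc, ← map_mul detW a, mul_inv_cancel, map_one, one_mul, ← map_mul, mul_inv_cancel, map_one]

theorem W1_eq : W1 = StdOE.Cover.M.subgroupOf W := by
  have hle : StdOE.Cover.M.subgroupOf W ≤ W1 := by
    intro g hg
    rw [Subgroup.mem_subgroupOf, ← StdOE.Cover.half_range] at hg
    obtain ⟨y, hy⟩ := hg
    rw [show g = homA _ y from Subtype.ext (hy.symm.trans (half_eq y).symm)]
    suffices (⊤ : Subgroup StdOE.Cover.Γ₈) ≤ (detW.comp (homA StdOE.Cover.F₂)).ker from
      this (Subgroup.mem_top y)
    rw [← StdOE.Cover.Γ₈_perfect, _root_.commutator_def, Subgroup.commutator_le]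
    intro a _ b _
    rw [MonoidHom.mem_ker, MonoidHom.comp_apply, map_commutatorElement, detW_comm]
  have h2 : (StdOE.Cover.M.subgroupOf W).index = 2 := by
    rw [← Subgroup.relIndex, ← W_eq, StdOE.Cover.index_M_W]
  have hmul := Subgroup.relIndex_mul_index hle
  rw [h2, index_W1] at hmul
  exact le_antisymm (Subgroup.relIndex_eq_one.1 (by omega)) hle

/-- The identification of the two models. -/
noncomputable def toW1 : W1 ≃* StdOE.Cover.M :=
  (MulEquiv.subgroupCongr W1_eq).trans (Subgroup.subgroupOfEquivOfLe M_le)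

theorem toW1_val (x : W1) : (toW1 x : Equiv.Perm (Fin 240)) = (x : W) := rfl

theorem negW_eq : negW = StdOE.Cover.sgn := by
  rw [← (hom_zc0 (F := StdOE.Cover.F₂)).1, half_eq, StdOE.Cover.half_z0]

theorem W1_perfect : commutator W1 = ⊤ := by
  rw [_root_.commutator_def, ← Subgroup.map_top_of_surjective toW1.symm.toMonoidHom toW1.symm.surjective,
    ← Subgroup.map_commutator, ← _root_.commutator_def, StdOE.Cover.M_perfect]

theorem center_W1 : Subgroup.center W1 = Subgroup.zpowers zW := by
  have he : toW1.toMonoidHom zW = StdOE.Cover.sgnM := Subtype.ext negW_eq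
  refine Subgroup.map_injective (f := toW1.toMonoidHom) toW1.injective ?_
  rw [MonoidHom.map_zpowers, he, ← StdOE.Cover.center_M_eq]
  ext m
  rw [Subgroup.mem_map_equiv, Subgroup.mem_center_iff, Subgroup.mem_center_iff]
  constructor
  · intro h n
    simpa using congrArg toW1 (h (toW1.symm n))
  · intro h n
    exact toW1.injective (by simpa using h (toW1 n))

/-- **Every double cover is isomorphic to the commutator subgroup of the Weyl group.** -/
theorem nonempty_equiv {F : Type*} [Field F] [Fintype F] (hF : Fintype.card F = 2)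
    {L : Type*} [Group L] [Finite L] (hperf : commutator L = ⊤)
    (hZ : Nat.card ↥(Subgroup.center L) = 2)
    (hX : Nonempty ((L ⧸ Subgroup.center L) ≃* Cfsg.POmega F (Cfsg.quadFormPlus 4 F))) :
    Nonempty (L ≃* W1) := by
  obtain ⟨e⟩ := StdOE.Cover.exists_iso hperf hF hZ hX
  exact ⟨e.trans toW1.symm⟩

end Cfsg.Agent.StdO8
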