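import Cfsg.Agent.Compute.Perm

/-!
Data for the classes of masks under the affine permutations of the axes.
-/

set_option autoImplicit false
set_option maxRecDepth 100000
set_option linter.all false

namespace Cfsg.Agent.StdO8

noncomputable section

/-- The classes of masks, as sets of bits. -/
def clsCodes : List ℕ :=
  [340282366920938463481821351509772796182, 6277101736848204796510388876134615003923331065896005670504, 26960359788324348720949767030734241706367231428990564075626486589568, 491338128622295080467692194227914152817285605757702676906227817904976429056, 10135356007067392298401852992480860869043946928093127336450413029551874506752, 47267576113963700113891037153651775520272614183047870828201421166580517044224, 7494979546278868352838388259605652777030681542822747306921801562456064]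

/-- Representatives of the classes. -/
def clsReps : List ℕ :=
  [1, 3, 7, 248, 252, 254, 23]

/-- For each mask the images of a basis carrying the representative of its class to it. -/
def aglCodes : List ℕ :=
  [0, 84, 532, 84, 1036, 140, 644, 84, 1548, 204, 708, 92, 1220, 156, 668, 0, 2058, 266, 770, 98, 1281, 161, 672, 84, 1793, 225, 736, 92, 1248, 156, 668, 3000, 2570, 330, 834, 106, 1345, 169, 680, 85, 1857, 233, 744, 93, 1256, 157, 669, 2488, 2370, 298, 810, 0, 1320, 165, 677, 1976, 1832, 229, 741, 1464, 0, 954, 442, 3522, 3082, 394, 898, 114, 1409, 177, 688, 86, 1921, 241, 752, 94, 1264, 158, 670, 2424, 2433, 305, 816, 102, 1329, 0, 678, 1912, 1840, 230, 0, 1401, 1254, 888, 377, 3009, 2945, 369, 880, 110, 1392, 174, 0, 1849, 1905, 0, 750, 1336, 1262, 824, 313, 2497, 2416, 302, 814, 1272, 1326, 760, 249, 1985, 1838, 696, 185, 1473, 122, 962, 458, 3594, 3594, 458, 962, 122, 1473, 185, 696, 87, 1985, 249, 760, 95, 1272, 159, 671, 2416, 2497, 313, 824, 103, 1336, 167, 0, 1905, 1849, 0, 743, 1392, 1255, 880, 369, 2945, 3009, 377, 888, 111, 1401, 0, 687, 1840, 1912, 239, 0, 1329, 1263,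 816, 305, 2433, 2424, 303, 815, 1264, 1327, 752, 241, 1921, 1839, 688, 177, 1409, 114, 898, 394, 3082, 3522, 442, 954, 0, 1464, 183, 695, 1832, 1976, 247, 759, 1320, 0, 810, 298, 2370, 2488, 311, 823, 1256, 1335, 744, 233, 1857, 1847, 680, 169, 1345, 106, 834, 330, 2570, 3000, 375, 887, 1248, 1399, 736, 225, 1793, 1911, 672, 161, 1281, 98, 770, 266, 2058, 0, 668, 156, 1220, 92, 708, 204, 1548, 84, 644, 140, 1036, 84, 532, 84, 0]

end

end Cfsg.Agent.StdO8
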