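import Cfsg.Agent.StdO8.Mono

/-!
Every involutory symmetry is diagonal in some frame.
-/

set_option autoImplicit false
set_option maxRecDepth 100000
set_option maxHeartbeats 1000000
set_option linter.unusedSectionVars false
set_option linter.unusedVariables false
set_option linter.style.haveILetI false

namespace Cfsg.Agent.StdO8

open Cfsg.Agent.Compute

/-- An axis of the image of a basis. -/
noncomputable def affN (a b c d i : ℕ) : ℕ :=
  [a, b, c, xor3 a b c, d, xor3 a b d, xor3 a c d, xor3 b c d].getD i 0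

theorem affN_eq (t : Tup) (i : Fin 8) : (aff t i : ℕ) = affN t.1 t.2.1 t.2.2.1 t.2.2.2 i := by
  fin_cases i <;> rfl

/-- An involution of the axes has two cycles forming a quad. -/
noncomputable def cycleN (a b c d : ℕ) : Bool :=
  !(allBelow 8 fun i => allBelow 8 fun k =>
    Nat.beq (affN a b c d i) i || Nat.beq k i || Nat.beq k (affN a b c d i) || Nat.beq (affN a b c d k) k ||
      !(Nat.beq (xor3 i (affN a b c d i) k) (affN a b c d k)))

theorem cycle_chk : (allBelow 8 fun a => allBelow 8 fun b => allBelow 8 fun c => allBelow 8 fun d =>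
    !(goodN a b c d) || !(allBelow 8 fun i => Nat.beq (affN a b c d (affN a b c d i)) i) ||
      (allBelow 8 fun i => Nat.beq (affN a b c d i) i) || cycleN a b c d) = true := by decide +kernel

theorem exists_cycles (t : GTup) (h2 : ∀ i, aff t.1 (aff t.1 i) = i) {i₀ : Fin 8} (hi : aff t.1 i₀ ≠ i₀) :
    ∃ i k : Fin 8, aff t.1 i ≠ i ∧ k ≠ i ∧ k ≠ aff t.1 i ∧ aff t.1 k ≠ k ∧
      comp3 i (aff t.1 i) k = aff t.1 k := by
  obtain ⟨⟨a, b, c, d⟩, hg⟩ := t
  have h := allBelow_eq_true.1 (allBelow_eq_true.1 (allBelow_eq_true.1 (allBelow_eq_true.1 cycle_chk a a.2) b b.2) c c.2) d d.2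
  have e1 : goodN a b c d = true := hg
  have e2 : (allBelow 8 fun i => Nat.beq (affN a b c d (affN a b c d i)) i) = true :=
    allBelow_eq_true.2 fun i hi => by
      rw [Nat.beq_eq]
      have := congrArg Fin.val (h2 ⟨i, hi⟩)
      rw [affN_eq, affN_eq] at this
      exact this
  have e3 : (allBelow 8 fun i => Nat.beq (affN a b c d i) i) = false := Bool.eq_false_iff.2 fun he => hi (Fin.ext (by
    rw [affN_eq]; exact Nat.eq_of_beq_eq_true (allBelow_eq_true.1 he i₀ i₀.2)))
  rw [e1, e2, e3, Bool.not_true, Bool.false_or, Bool.false_or, Bool.false_or, cycleN, Bool.not_eq_true',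
    Bool.eq_false_iff, ne_eq, allBelow_eq_true] at h
  push Not at h
  obtain ⟨i, hi', h⟩ := h
  rw [ne_eq, allBelow_eq_true] at h
  push Not at h
  obtain ⟨k, hk', h⟩ := h
  simp only [ne_eq, Bool.or_eq_true, Bool.not_eq_true', not_or, Bool.not_eq_false, Nat.beq_eq] at h
  obtain ⟨⟨⟨⟨n1, n2⟩, n3⟩, n4⟩, n5⟩ := h
  refine ⟨⟨i, hi'⟩, ⟨k, hk'⟩, fun e => n1 ?_, fun e => n2 (congrArg Fin.val e), fun e => n3 ?_, fun e => n4 ?_, Fin.ext ?_⟩
  · have := congrArg Fin.val e; rwa [affN_eq] at this
  · have := congrArg Fin.val e; rwa [affN_eq] at this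
  · have := congrArg Fin.val e; rwa [affN_eq] at this
  · show xor3 i (aff (a, b, c, d) ⟨i, hi'⟩ : ℕ) k = (aff (a, b, c, d) ⟨k, hk'⟩ : ℕ)
    rw [affN_eq, affN_eq]; exact n5

/-- A root on a quad with prescribed relations of the signs. -/
noncomputable def pairRootN (i j k l : ℕ) (s s' : Bool) (r : ℕ) : Bool :=
  (allBelow 8 fun m => Nat.beq m i || Nat.beq m j || Nat.beq m k || Nat.beq m l || Nat.beq (coN r m) 2) &&
    !(Nat.beq (coN r i) 2) &&
    Nat.beq (coN r j) (cond s (coN r i) (Nat.sub 4 (coN r i))) &&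
    Nat.beq (coN r l) (cond s' (coN r k) (Nat.sub 4 (coN r k)))

theorem root_chk : (allBelow 8 fun i => allBelow 8 fun j => allBelow 8 fun k =>
    Nat.beq i j || Nat.beq i k || Nat.beq j k || allBelow 4 fun s =>
      !(allBelow 240 fun r => !(pairRootN i j k (xor3 i j k) (Nat.testBit s 0) (Nat.testBit s 1) r))) = true := by
  decide +kernel

theorem exists_pair_root {i j k : Fin 8} (h1 : i ≠ j) (h2 : i ≠ k) (h3 : j ≠ k) (s s' : Bool) :
    ∃ r : Fin 240, (∀ m, m ≠ i → m ≠ j → m ≠ k → m ≠ comp3 i j k → co r m = 0) ∧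
      co r j = (cond s 1 (-1) : ℤ) * co r i ∧ co r (comp3 i j k) = (cond s' 1 (-1) : ℤ) * co r k := by
  have h := allBelow_eq_true.1 (allBelow_eq_true.1 (allBelow_eq_true.1 root_chk i i.2) j j.2) k k.2
  rw [Bool.eq_false_iff.2 fun e => h1 (Fin.ext (Nat.eq_of_beq_eq_true e)),
    Bool.eq_false_iff.2 fun e => h2 (Fin.ext (Nat.eq_of_beq_eq_true e)),
    Bool.eq_false_iff.2 fun e => h3 (Fin.ext (Nat.eq_of_beq_eq_true e)), Bool.false_or, Bool.false_or, Bool.false_or,
    allBelow_eq_true] at h
  obtain ⟨n, hn, e0, e1⟩ : ∃ n, n < 4 ∧ Nat.testBit n 0 = s ∧ Nat.testBit n 1 = s' := by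
    cases s <;> cases s'
    exacts [⟨0, by decide⟩, ⟨2, by decide⟩, ⟨1, by decide⟩, ⟨3, by decide⟩]
  have h' := h n hn
  rw [e0, e1, Bool.not_eq_true', Bool.eq_false_iff, ne_eq, allBelow_eq_true] at h'
  push Not at h'
  obtain ⟨r, hr, h'⟩ := h'
  simp only [ne_eq, Bool.not_eq_true', Bool.not_eq_false, pairRootN, Bool.and_eq_true, allBelow_eq_true,
    Bool.or_eq_true, Nat.beq_eq] at h'
  obtain ⟨⟨⟨hz, -⟩, hj⟩, hl⟩ := h'
  have hlt : ∀ m, m < 8 → coN r m ≤ 4 := by
    have hb : (allBelow 240 fun x => allBelow 8 fun m => Nat.ble (coN x m) 4) = true := by decide +kernel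
    intro m hm
    simpa [Nat.ble_eq] using allBelow_eq_true.1 (allBelow_eq_true.1 hb r hr) m hm
  refine ⟨⟨r, hr⟩, fun m m1 m2 m3 m4 => ?_, ?_, ?_⟩
  · rcases hz m m.2 with (((e | e) | e) | e) | e
    · exact absurd (Fin.ext e) m1
    · exact absurd (Fin.ext e) m2
    · exact absurd (Fin.ext e) m3
    · exact absurd (Fin.ext e) m4
    · simp [co, e]
  · have := hlt i i.2
    cases s <;> simp only [cond_false, cond_true, Nat.sub_eq] at hj <;> simp [co, hj] <;> omega
  · have := hlt k k.2
    cases s' <;> simp only [cond_false, cond_true, Nat.sub_eq] at hl <;>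
      simp [co, comp3, hl] <;> omega

/-- An involution preserving the frame negates a root. -/
theorem root_of_mono {g : Equiv.Perm (Fin 240)} (hg : g ∈ W) (hm : IsMono g) (h2 : g * g = 1) (h1 : g ≠ 1) :
    ∃ x, g x = negP x := by
  obtain ⟨t, ht⟩ := mono_affine hg hm
  have hgg : ∀ x, g (g x) = x := fun x => by rw [← Equiv.Perm.mul_apply, h2, Equiv.Perm.one_apply]
  have hinv : ∀ i, aff t.1 (aff t.1 i) = i := fun i => ax_injective (by
    rw [← ht, ← ln_map hg ((ht i).trans (ln_ev _).symm), hgg, ln_ev])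
  by_cases hid : ∀ i, aff t.1 i = i
  · by_contra hcon
    push Not at hcon
    refine h1 (W_ext hg (one_mem W) fun i => ?_)
    rcases ln_eq ((ht i).trans (by rw [hid]; exact (ln_ev i).symm) : ln (g (ev i)) = ln (ev i)) with e | e
    · exact e
    · exact absurd e (hcon _)
  push Not at hid
  obtain ⟨i₀, hi₀⟩ := hid
  obtain ⟨i, k, n1, n2, n3, n4, hq⟩ := exists_cycles t hinv hi₀
  set j := aff t.1 i
  set l := aff t.1 k
  have hsign : ∀ x : Fin 8, ∃ s : Bool, (∀ m, co (g (ev x)) m = cond s (-1 : ℤ) 1 * co (ev (aff t.1 x)) m) ∧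
      ∀ m, co (g (ev (aff t.1 x))) m = cond s (-1 : ℤ) 1 * co (ev x) m := fun x => by
    rcases ln_eq ((ht x).trans (ln_ev _).symm) with e | e
    · exact ⟨false, fun m => by simp [e], fun m => by rw [← e, hgg]; simp⟩
    · refine ⟨true, fun m => by simp [e, co_negP], fun m => ?_⟩
      rw [show ev (aff t.1 x) = negP (g (ev x)) by rw [e, negP_negP], negP_map hg, hgg, co_negP]
      simp
  obtain ⟨s, si, sj⟩ := hsign i
  obtain ⟨s', sk, sl⟩ := hsign k
  obtain ⟨r, hz, hj, hl⟩ := exists_pair_root (i := i) (j := j) (k := k) n1.symm n2.symm n3.symm s s'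
  rw [hq] at hz hl
  refine ⟨r, co_injective (funext fun m => ?_)⟩
  have hsum := co_map hg r m
  have d1 : i ≠ j := n1.symm
  have d4 : k ≠ l := n4.symm
  have d5 : i ≠ l := fun e => n3 (by rw [show j = aff t.1 i from rfl, e, hinv])
  have d6 : j ≠ l := fun e => n2.symm (by
    have := congrArg (aff t.1) e
    rwa [hinv, hinv] at this)
  have hfour : ∑ x, co r x * co (g (ev x)) m =
      co r i * co (g (ev i)) m + co r j * co (g (ev j)) m + co r k * co (g (ev k)) m + co r l * co (g (ev l)) m := by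
    rw [← Finset.sum_subset (Finset.subset_univ ({i, j, k, l} : Finset (Fin 8))) fun x _ hx => by
      simp only [Finset.mem_insert, Finset.mem_singleton, not_or] at hx
      rw [hz x hx.1 hx.2.1 hx.2.2.1 hx.2.2.2, zero_mul]]
    rw [Finset.sum_insert (by simp [d1, n2.symm, d5]), Finset.sum_insert (by simp [n3.symm, d6]),
      Finset.sum_insert (by simp [d4]), Finset.sum_singleton]
    ring
  rw [hfour, si, sj, sk, sl, hj, hl, co_ev, co_ev, co_ev, co_ev] at hsum
  rw [co_negP]
  by_cases mi : i = m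
  · subst mi
    simp [d1.symm, n2, d5.symm] at hsum
    cases s <;> simp at hsum ⊢ <;> omega
  by_cases mj : j = m
  · subst mj
    simp [mi, n3, d6.symm] at hsum
    cases s <;> simp at hsum hj ⊢ <;> omega
  by_cases mk : k = m
  · subst mk
    simp [mi, mj, d4.symm] at hsum
    cases s' <;> simp at hsum ⊢ <;> omega
  by_cases ml : l = m
  · subst ml
    simp [mi, mj, mk] at hsum
    cases s' <;> simp at hsum hl ⊢ <;> omega
  rw [hz m (Ne.symm mi) (Ne.symm mj) (Ne.symm mk) (Ne.symm ml)]
  simp [mi, mj, mk, ml] at hsum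
  omega

/-- A nontrivial involution negates a root. -/
theorem exists_root {g : Equiv.Perm (Fin 240)} (hg : g ∈ W) (h2 : g * g = 1) (h1 : g ≠ 1) :
    ∃ x, g x = negP x := by
  haveI : Fact (Nat.Prime 2) := ⟨Nat.prime_two⟩
  let e : W := ⟨g, hg⟩
  have hp : IsPGroup 2 (Subgroup.zpowers e) := IsPGroup.of_card (n := 1) (by
    rw [Nat.card_zpowers, pow_one]
    exact orderOf_eq_prime (by rw [pow_two]; exact Subtype.ext h2) fun h => h1 (congrArg Subtype.val h))
  obtain ⟨h, hh⟩ := exists_conj_mono _ hp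
  have hm := hh e (Subgroup.mem_zpowers e)
  set c : Equiv.Perm (Fin 240) := h.1
  obtain ⟨x, hx⟩ := root_of_mono (g := c * g * c⁻¹) (mul_mem (mul_mem h.2 hg) (inv_mem h.2)) hm
    (by rw [show c * g * c⁻¹ * (c * g * c⁻¹) = c * (g * g) * c⁻¹ by group, h2, mul_one, mul_inv_cancel])
    (fun e' => h1 (conj_eq_one_iff.1 e'))
  refine ⟨c⁻¹ x, ?_⟩
  rw [← negP_map (inv_mem h.2), ← hx]
  simp [c, Equiv.Perm.mul_apply]

theorem rprod_fix : ∀ (l : List (Fin 240)) (x : Fin 240), (∀ y ∈ l, ip x y = 0) → rprod l x = x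
  | [], _, _ => rfl
  | y :: l, x, h => by
    rw [rprod_cons, Equiv.Perm.mul_apply, rprod_fix l x fun z hz => h z (by simp [hz])]
    exact refl_fix (by rcases ip_rt_ln x y with e | e <;> simp [e, h y (by simp)])

theorem rprod_neg : ∀ (l : List (Fin 240)), l.Pairwise (fun x y => ip x y = 0) →
    ∀ x ∈ l, rprod l x = negP x
  | [], _, x, hx => by simp at hx
  | y :: l, h, x, hx => by
    obtain ⟨h1, h2⟩ := List.pairwise_cons.1 h
    rw [rprod_cons, Equiv.Perm.mul_apply]
    rcases List.mem_cons.1 hx with rfl | hx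
    · rw [rprod_fix l x h1]
      rcases ln_eq (ln_rt (ln x)) with e | e
      · have := refl_self (ln x); rwa [e] at this
      · have := refl_self (ln x)
        rw [e, negP_map (refl_mem _), negP_negP] at this
        rw [← negP_negP (refl (ln x) x), this]
    · rw [rprod_neg l h2 x hx, negP_map (refl_mem _), refl_fix]
      rcases ip_rt_ln x y with e | e <;> simp [e, ip_comm x y, h1 x hx]

theorem comm_refl_eigen {g : Equiv.Perm (Fin 240)} (hg : g ∈ W) {x : Fin 240} (hx : g x = x ∨ g x = negP x) :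
    g * refl (ln x) = refl (ln x) * g := by
  have hl : ln (g (rt (ln x))) = ln x := by
    refine (ln_map hg (ln_rt _)).trans ?_
    rcases hx with e | e <;> simp [e, ln_negP]
  have := refl_conj hg (ln x)
  rw [hl] at this
  exact mul_inv_eq_iff_eq_mul.1 this

theorem comm_rprod {g : Equiv.Perm (Fin 240)} (hg : g ∈ W) :
    ∀ l : List (Fin 240), (∀ x ∈ l, g x = x ∨ g x = negP x) → g * rprod l = rprod l * g
  | [], _ => by simp [rprod]
  | y :: l, h => by
    rw [rprod_cons, ← mul_assoc, comm_refl_eigen hg (h y (by simp)), mul_assoc,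
      comm_rprod hg l fun z hz => h z (by simp [hz]), ← mul_assoc]

theorem rprod_sq : ∀ l : List (Fin 240), l.Pairwise (fun x y => ip x y = 0) → rprod l * rprod l = 1
  | [], _ => by simp [rprod]
  | y :: l, h => by
    obtain ⟨h1, h2⟩ := List.pairwise_cons.1 h
    have hc := comm_rprod (refl_mem (ln y)) l fun z hz => Or.inl (refl_fix (by
      rcases ip_rt_ln z y with e | e <;> simp [e, ip_comm z y, h1 z hz]))
    rw [rprod_cons, show refl (ln y) * rprod l * (refl (ln y) * rprod l) =
      refl (ln y) * (rprod l * refl (ln y)) * rprod l by group, ← hc, ← mul_assoc, refl_sq, one_mul,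
      rprod_sq l h2]

/-- Orthogonal roots are at most eight. -/
theorem length_le (l : List (Fin 240)) (h : l.Pairwise fun x y => ip x y = 0) : l.length ≤ 8 := by
  by_contra hcon
  have hget : ∀ i j : ℕ, ∀ (hi : i < l.length) (hj : j < l.length), i ≠ j → ip l[i] l[j] = 0 := by
    intro i j hi hj hij
    rcases Nat.lt_or_gt_of_ne hij with h' | h'
    · exact List.pairwise_iff_getElem.1 h i j hi hj h'
    · rw [ip_comm]; exact List.pairwise_iff_getElem.1 h j i hj hi h'
  let r : Fin 8 → Fin 240 := fun i => l[(i : ℕ)]'(by omega)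
  obtain ⟨g, hg, hj⟩ := frame_std r fun i j hij => hget _ _ _ _ fun e => hij (Fin.ext e)
  choose j hj using hj
  have hinj : Function.Injective j := fun a b e => by
    by_contra hne
    have h0 : ip (r a) (r b) = 0 := hget _ _ _ _ fun e' => hne (Fin.ext e')
    rw [← mem_W.1 hg] at h0
    rcases ln_eq ((hj a).trans (e ▸ (hj b).symm)) with e' | e'
    · rw [e', ip_self] at h0; omega
    · rw [e', ip_negP_left, ip_self] at h0; omega
  obtain ⟨i, hi⟩ := exists_ip_ev_ne (g (l[8]'(by omega)))
  obtain ⟨a, rfl⟩ := Finite.injective_iff_surjective.1 hinj i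
  apply hi
  have h0 : ip (g (l[8]'(by omega))) (g (r a)) = 0 := by
    rw [mem_W.1 hg]; exact hget _ _ _ _ (by have := a.2; omega)
  rcases ln_eq ((hj a).trans (ln_ev _).symm) with e | e <;> simpa [e, ip_negP_right] using h0

/-- Eight orthogonal eigenroots. -/
theorem exists_eigenframe {g : Equiv.Perm (Fin 240)} (hg : g ∈ W) (h2 : g * g = 1) :
    ∃ l : List (Fin 240), l.length = 8 ∧ l.Pairwise (fun x y => ip x y = 0) ∧ ∀ x ∈ l, g x = x ∨ g x = negP x := by
  have hgg : ∀ x, g (g x) = x := fun x => by rw [← Equiv.Perm.mul_apply, h2, Equiv.Perm.one_apply]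
  suffices ∀ k ≤ 8, ∃ N P : List (Fin 240), N.length + P.length = k ∧
      (N ++ P).Pairwise (fun x y => ip x y = 0) ∧ (∀ x ∈ N, g x = negP x) ∧ ∀ x ∈ P, g x = x by
    obtain ⟨N, P, hk, hp, hN, hP⟩ := this 8 le_rfl
    exact ⟨N ++ P, by simp [hk], hp, fun x hx => (List.mem_append.1 hx).elim (fun h => .inr (hN x h)) fun h => .inl (hP x h)⟩
  intro k
  induction k with
  | zero => exact fun _ => ⟨[], [], rfl, List.Pairwise.nil, by simp, by simp⟩
  | succ k ih =>
    intro hk
    obtain ⟨N, P, hlen, hp, hN, hP⟩ := ih (by omega)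
    obtain ⟨hNp, hPp, hNP⟩ := List.pairwise_append.1 hp
    have eig : ∀ x ∈ N ++ P, g x = x ∨ g x = negP x := fun x hx =>
      (List.mem_append.1 hx).elim (fun h => .inr (hN x h)) fun h => .inl (hP x h)
    set a := g * rprod N with ha
    set b := negW * g * rprod P with hb
    have ham : a ∈ W := mul_mem hg (rprod_mem N)
    have hbm : b ∈ W := mul_mem (mul_mem negW_mem hg) (rprod_mem P)
    have hngm : negW * g ∈ W := mul_mem negW_mem hg
    have hng2 : negW * g * (negW * g) = 1 := by
      rw [show negW * g * (negW * g) = negW * (g * negW) * g by group, negW_comm hg, ← mul_assoc,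
        negW_sq, one_mul, h2]
    have sq : ∀ (u : Equiv.Perm (Fin 240)) (l : List (Fin 240)), u ∈ W → u * u = 1 →
        (∀ x ∈ l, u x = x ∨ u x = negP x) → l.Pairwise (fun x y => ip x y = 0) →
        u * rprod l * (u * rprod l) = 1 := by
      intro u l hu hu2 hul hl
      rw [show u * rprod l * (u * rprod l) = u * (rprod l * u) * rprod l by group, ← comm_rprod hu l hul,
        ← mul_assoc, hu2, one_mul, rprod_sq l hl]
    have hNfix : ∀ x ∈ P, rprod N x = x := fun x hx =>
      rprod_fix N x fun y hy => by rw [ip_comm]; exact hNP y hy x hx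
    have hPfix : ∀ x ∈ N, rprod P x = x := fun x hx => rprod_fix P x fun y hy => hNP x hx y hy
    have haall : ∀ x ∈ N ++ P, a x = x := by
      intro x hx
      rcases List.mem_append.1 hx with h | h
      · rw [ha, Equiv.Perm.mul_apply, rprod_neg N hNp x h, negP_map hg, hN x h, negP_negP]
      · rw [ha, Equiv.Perm.mul_apply, hNfix x h, hP x h]
    have hball : ∀ x ∈ N ++ P, b x = x := by
      intro x hx
      rcases List.mem_append.1 hx with h | h
      · rw [hb, Equiv.Perm.mul_apply, hPfix x h, Equiv.Perm.mul_apply, hN x h, negW_apply, negP_negP]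
      · rw [hb, Equiv.Perm.mul_apply, rprod_neg P hPp x h, Equiv.Perm.mul_apply, negP_map hg, hP x h, negW_apply,
          negP_negP]
    have perp : ∀ {u : Equiv.Perm (Fin 240)} {z : Fin 240}, u ∈ W → u z = negP z → (∀ x ∈ N ++ P, u x = x) →
        ∀ x ∈ N ++ P, ip z x = 0 := by
      intro u z hu hz hfix x hx
      have h := mem_W.1 hu z x
      rw [hz, hfix x hx, ip_negP_left] at h
      omega
    have ext1 : ∀ z, g z = negP z → (∀ x ∈ N ++ P, ip z x = 0) →
        ∃ N' P' : List (Fin 240), N'.length + P'.length = k + 1 ∧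
        (N' ++ P').Pairwise (fun x y => ip x y = 0) ∧ (∀ x ∈ N', g x = negP x) ∧ ∀ x ∈ P', g x = x :=
      fun z hz hzp => ⟨z :: N, P, by simp; omega, List.pairwise_cons.2 ⟨hzp, hp⟩,
        List.forall_mem_cons.2 ⟨hz, hN⟩, hP⟩
    by_cases h1 : a = 1
    · by_cases h1' : b = 1
      · exfalso
        have eN : g = rprod N := by
          have e : g * rprod N * rprod N = 1 * rprod N := by rw [← ha, h1]
          rw [mul_assoc, rprod_sq N hNp, mul_one, one_mul] at e
          exact e
        have eP : negW * g = rprod P := by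
          have e : negW * g * rprod P * rprod P = 1 * rprod P := by rw [← hb, h1']
          rw [mul_assoc, rprod_sq P hPp, mul_one, one_mul] at e
          exact e
        have htot : rprod (N ++ P) = negW := by
          rw [show rprod (N ++ P) = rprod N * rprod P by simp [rprod], ← eN, ← eP, ← mul_assoc, negW_comm hg,
            mul_assoc, h2, mul_one]
        have ht := trace_rprod hp
        rw [htot, mat_negW, Matrix.trace_neg, Matrix.trace_one, List.length_append, hlen] at ht
        simp only [Fintype.card_fin] at ht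
        have : ((k : ℕ) : ℚ) = ((8 : ℕ) : ℚ) := by push_cast at ht ⊢; linarith
        have := (Nat.cast_injective (R := ℚ)) this
        omega
      · obtain ⟨z, hz⟩ := exists_root hbm (sq _ P hngm hng2 (fun x hx => by
          right; rw [Equiv.Perm.mul_apply, hP x hx, negW_apply]) hPp) h1'
        have hzp := perp hbm hz hball
        have hgz : g z = z := by
          rw [hb, Equiv.Perm.mul_apply, rprod_fix P z fun y hy => hzp y (List.mem_append_right _ hy),
            Equiv.Perm.mul_apply, negW_apply] at hz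
          have := congrArg negP hz
          rwa [negP_negP, negP_negP] at this
        refine ⟨N, P ++ [z], by simp; omega, ?_, hN, fun x hx => ?_⟩
        · rw [← List.append_assoc, List.pairwise_append]
          exact ⟨hp, by simp, fun x hx y hy => by
            rw [List.mem_singleton.1 hy, ip_comm]; exact hzp x hx⟩
        · rcases List.mem_append.1 hx with h | h
          exacts [hP x h, (List.mem_singleton.1 h) ▸ hgz]
    · obtain ⟨z, hz⟩ := exists_root ham (sq g N hg h2 (fun x hx => .inr (hN x hx)) hNp) h1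
      have hzp := perp ham hz haall
      refine ext1 z ?_ hzp
      rwa [ha, Equiv.Perm.mul_apply, rprod_fix N z fun y hy => hzp y (List.mem_append_left _ hy)] at hz

/-- An involution is conjugate to a diagonal one. -/
theorem exists_diag {g : Equiv.Perm (Fin 240)} (hg : g ∈ W) (h2 : g * g = 1) :
    ∃ h ∈ W, ∃ d, h * g * h⁻¹ = D d := by
  obtain ⟨l, hlen, hp, heig⟩ := exists_eigenframe hg h2
  have hget : ∀ i j : ℕ, ∀ (hi : i < l.length) (hj : j < l.length), i ≠ j → ip l[i] l[j] = 0 := by
    intro i j hi hj hij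
    rcases Nat.lt_or_gt_of_ne hij with h' | h'
    · exact List.pairwise_iff_getElem.1 hp i j hi hj h'
    · rw [ip_comm]; exact List.pairwise_iff_getElem.1 hp j i hj hi h'
  let r : Fin 8 → Fin 240 := fun i => l[(i : ℕ)]'(by omega)
  obtain ⟨h, hh, hj⟩ := frame_std r fun i j hij => hget _ _ _ _ fun e => hij (Fin.ext e)
  choose j hj using hj
  have hinj : Function.Injective j := fun a b e => by
    by_contra hne
    have h0 : ip (r a) (r b) = 0 := hget _ _ _ _ fun e' => hne (Fin.ext e')
    rw [← mem_W.1 hh] at h0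
    rcases ln_eq ((hj a).trans (e ▸ (hj b).symm)) with e' | e'
    · rw [e', ip_self] at h0; omega
    · rw [e', ip_negP_left, ip_self] at h0; omega
  set w := h * g * h⁻¹ with hw
  have hwm : w ∈ W := mul_mem (mul_mem hh hg) (inv_mem hh)
  have hev : ∀ i, w (ev i) = ev i ∨ w (ev i) = negP (ev i) := by
    intro i
    obtain ⟨a, rfl⟩ := Finite.injective_iff_surjective.1 hinj i
    have key : w (h (r a)) = h (g (r a)) := by simp [hw, Equiv.Perm.mul_apply]
    rcases ln_eq ((hj a).trans (ln_ev _).symm) with e | e <;>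
      rcases heig (r a) (List.getElem_mem _) with e' | e'
    · left; rw [← e, key, e']
    · right; rw [← e, key, e', negP_map hh]
    · left; rw [show ev (j a) = negP (h (r a)) by rw [e, negP_negP], negP_map hwm, key, e']
    · right; rw [show ev (j a) = negP (h (r a)) by rw [e, negP_negP], negP_map hwm, key, e', negP_map hh]
  obtain ⟨d, hd⟩ := exists_mask fun i => w (ev i) = negP (ev i)
  refine ⟨h, hh, d, W_ext hwm (D_mem d) fun i => ?_⟩
  rw [D_ev]
  rcases hev i with e | e
  · rw [e, if_neg]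
    rw [hd, e]
    exact fun e' => negP_ne _ e'.symm
  · rw [if_pos ((hd i).2 e), e]

end Cfsg.Agent.StdO8
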