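import Cfsg.Agent.StdO8.Std
import Cfsg.Agent.StdO8.Data2

/-!
The even sign changes of diagonal axes, and why no normalising element moves the involution there.
-/

set_option autoImplicit false
set_option maxRecDepth 100000
set_option maxHeartbeats 1000000
set_option linter.unusedSectionVars false

universe u

namespace Cfsg.Agent.StdO8

open Cfsg.Agent.Compute

/-- The word of a diagonal mask. -/
noncomputable def dgWord (a : ℕ) : List ℕ :=
  List.rec (motive := fun _ => List ℕ) [] (fun p _ r => cond (Nat.beq p.1 a) p.2 r) diagWords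

/-- The mask is even. -/
noncomputable def evN (a : ℕ) : Bool := Nat.beq (Nat.mod (sum8 fun i => cond (Nat.testBit a i) 1 0) 2) 0

/-- Two words give the same symmetry. -/
noncomputable def wordEqN (w v : List ℕ) : Bool :=
  okN w && okN v && allBelow 8 fun i => Nat.beq (actN w (Nat.mul 2 i)) (actN v (Nat.mul 2 i))

theorem wordEqN_eq {w v : List ℕ} (h : wordEqN w v = true) : evalW w = evalW v := by
  simp only [wordEqN, Bool.and_eq_true, allBelow_eq_true] at h
  refine W_ext (evalW_mem _) (evalW_mem _) fun i => Fin.ext ?_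
  rw [evalW_apply _ h.1.1, evalW_apply _ h.1.2]
  exact Nat.eq_of_beq_eq_true (h.2 i i.2)

theorem evalW_cat (w v : List ℕ) : evalW (w ++ v) = evalW w * evalW v := by
  simp only [evalW, List.map_append, List.prod_append]

theorem det_evalW (w : List ℕ) : (mat (evalW w)).det = (-1) ^ w.length := by
  induction w with
  | nil => rw [show evalW [] = 1 from rfl, mat_one, Matrix.det_one, List.length_nil, pow_zero]
  | cons a w ih =>
    rw [show evalW (a :: w) = refl ⟨a % 120, Nat.mod_lt _ (by norm_num)⟩ * evalW w from rfl, mat_mul (refl_mem _),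
      Matrix.det_mul, det_refl, ih, List.length_cons, pow_succ]
    ring

theorem dg_len_chk : (allBelow 256 fun a => Nat.beq (Nat.mod (dgWord a).length 2) 0) = true := by decide +kernel

theorem dg_mul_chk : (allBelow 256 fun a => !(evN a) || allBelow 256 fun b => !(evN b) ||
    wordEqN (dgWord (Nat.xor a b)) (dgWord a ++ dgWord b)) = true := by decide +kernel

theorem dg_inj_chk : (allBelow 256 fun a => !(evN a) || Nat.beq a 0 || !(wordEqN (dgWord a) []) ) = true := by decide +kernel

theorem dg_ok_chk : (allBelow 256 fun a => okN (dgWord a)) = true := by decide +kernel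

theorem dg_full_chk : wordEqN (dgWord 255) (dWord 255) = true := by decide +kernel

theorem diag_mem_chk : (List.all diagWords fun p => Nat.blt p.1 256 && evN p.1 && wordEqN (dgWord p.1) p.2) = true := by
  decide +kernel

theorem dg_list_chk : (allBelow 256 fun a => !(evN a) || List.any diagWords fun p => wordEqN (dgWord a) p.2) = true := by
  decide +kernel

theorem quad_moves_chk : (allBelow 256 fun a => !(Nat.beq (sum8 fun i => cond (Nat.testBit a i) 1 0) 4) ||
    List.any flipQuads fun p => wordEqN (p.2 ++ dgWord a) (dWord 15 ++ p.2)) = true := by decide +kernel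

theorem moves_chk : (allBelow 256 fun x => !(inCls 1 x) ||
    List.any flipMoves fun w => Nat.beq (Nat.mod w.length 2) 0 && wordEqN (w ++ dgWord 3) (dgWord x ++ w)) = true := by
  decide +kernel

theorem moves_nrm_chk : (List.all flipMoves fun w => allBelow 7 fun i =>
    !(allBelow 256 fun b => !(evN b && wordEqN (w ++ dgWord (Nat.add 1 (Nat.pow 2 (Nat.add i 1)))) (dgWord b ++ w)))) = true := by
  decide +kernel

theorem even_span_chk : (allBelow 256 fun a => !(evN a) || Nat.beq a
    (List.rec (motive := fun _ => ℕ) 0 (fun i _ r => Nat.xor (cond (Nat.testBit a (Nat.add i 1))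
      (Nat.add 1 (Nat.pow 2 (Nat.add i 1))) 0) r) [0, 1, 2, 3, 4, 5, 6])) = true := by decide +kernel

theorem class_weight_chk : (allBelow 256 fun a => !(evN a) || Nat.beq a 0 || Nat.beq a 255 ||
    (!(inCls 0 a) && !(inCls 2 a) && !(inCls 3 a) && !(inCls 5 a) &&
      (Nat.beq (sum8 fun i => cond (Nat.testBit a i) 1 0) 4 || inCls 1 a || inCls 4 a) &&
      (!(inCls 6 a) || Nat.beq (sum8 fun i => cond (Nat.testBit a i) 1 0) 4) &&
      (!(inCls 4 a) || inCls 1 (Nat.xor a 255)))) = true := by decide +kernel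

attribute [local irreducible] dgWord

theorem evN_iff (a : Fin 256) : evN a = true ↔ Even (bits a) := by
  have h : (allBelow 256 fun a => Nat.beq (((List.range 8).filter fun i => Nat.testBit a i).length)
      (sum8 fun i => cond (Nat.testBit a i) 1 0)) = true := by decide +kernel
  rw [bits_eq, Nat.eq_of_beq_eq_true (allBelow_eq_true.1 h a a.2), Nat.even_iff, evN, Nat.beq_eq]
  rfl

/-- A diagonal sign change. -/
noncomputable def gv (a : Fin 256) : W1 :=
  ⟨⟨evalW (dgWord a), evalW_mem _⟩, mem_W1.2 (by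
    show (mat (evalW (dgWord a))).det = 1
    rw [det_evalW]
    exact (Nat.even_iff.2 (Nat.eq_of_beq_eq_true (allBelow_eq_true.1 dg_len_chk a a.2))).neg_one_pow)⟩

theorem gv_mx {a b : Fin 256} (ha : Even (bits a)) (hb : Even (bits b)) : gv (mx a b) = gv a * gv b := by
  have h := allBelow_eq_true.1 dg_mul_chk a a.2
  rw [(evN_iff a).2 ha, Bool.not_true, Bool.false_or] at h
  have h' := allBelow_eq_true.1 h b b.2
  rw [(evN_iff b).2 hb, Bool.not_true, Bool.false_or] at h'
  refine Subtype.ext (Subtype.ext ?_)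
  show evalW (dgWord ((mx a b : Fin 256) : ℕ)) = evalW (dgWord a) * evalW (dgWord b)
  rw [← evalW_cat, mx_val]
  exact wordEqN_eq h'

theorem gv_full : gv 255 = zW := Subtype.ext (Subtype.ext ((wordEqN_eq dg_full_chk).trans D_full))

theorem gv_one {a : Fin 256} (ha : Even (bits a)) (h : gv a = 1) : a = 0 := by
  have h' := allBelow_eq_true.1 dg_inj_chk a a.2
  rw [(evN_iff a).2 ha, Bool.not_true, Bool.false_or, Bool.or_eq_true, Nat.beq_eq, Bool.not_eq_true',
    Bool.eq_false_iff] at h'
  refine h'.elim (fun e => Fin.ext e) fun e => absurd ?_ e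
  have hok : okN (dgWord a) = true := allBelow_eq_true.1 dg_ok_chk a a.2
  simp only [wordEqN, Bool.and_eq_true, allBelow_eq_true]
  refine ⟨⟨hok, rfl⟩, fun i hi => ?_⟩
  rw [Nat.beq_eq]
  have e1 := congrArg (fun x : W1 => (((x : W) : Equiv.Perm (Fin 240)) (ev ⟨i, hi⟩) : ℕ)) h
  simp only [gv, Subgroup.coe_one, Equiv.Perm.one_apply] at e1
  rw [evalW_apply _ hok] at e1
  exact e1

theorem gv_list {a : Fin 256} (ha : Even (bits a)) : ∃ p ∈ diagWords, ((gv a : W) : Equiv.Perm (Fin 240)) = evalW p.2 := by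
  have h := allBelow_eq_true.1 dg_list_chk a a.2
  rw [(evN_iff a).2 ha, Bool.not_true, Bool.false_or, List.any_eq_true] at h
  obtain ⟨p, hp, e⟩ := h
  exact ⟨p, hp, wordEqN_eq e⟩

theorem exists_gv {p : ℕ × List ℕ} (hp : p ∈ diagWords) :
    ∃ a, Even (bits a) ∧ ((gv a : W) : Equiv.Perm (Fin 240)) = evalW p.2 := by
  have h := List.all_eq_true.1 diag_mem_chk p hp
  rw [Bool.and_eq_true, Bool.and_eq_true, Nat.blt_eq] at h
  exact ⟨⟨p.1, h.1.1⟩, (evN_iff ⟨p.1, h.1.1⟩).1 h.1.2, wordEqN_eq h.2⟩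

variable {G : Type u} [Group G]

/-- The diagonal system. -/
noncomputable def diagSys (S : Ctx G) : Sys S where
  P a := Even (bits a)
  ψ a := S.e (gv a)
  full_mem := even_full
  mx_mem _ _ := even_mx
  map_mx a b ha hb := by rw [gv_mx ha hb, map_mul]
  inj a b ha hb h := by
    have h1 : gv (mx a b) = 1 := by
      rw [gv_mx ha hb, S.inj h, ← gv_mx hb hb, mx_self]
      have e := gv_mx (a := 0) (b := 0) (by rw [bits_eq]; decide) (by rw [bits_eq]; decide)
      rw [mx_self] at e
      exact mul_left_cancel (e.symm.trans (mul_one _).symm)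
    rw [← mx_zero a, ← mx_self b, ← mx_assoc, gv_one (even_mx ha hb) h1, mx_comm, mx_zero]
  full := by rw [gv_full]; rfl

/-- A word of even length as an element. -/
noncomputable def wv (w : List ℕ) (h : Even w.length) : W1 :=
  ⟨⟨evalW w, evalW_mem w⟩, mem_W1.2 (by
    show (mat (evalW w)).det = 1
    rw [det_evalW]; exact h.neg_one_pow)⟩

theorem conj_gv {w : List ℕ} (h : Even w.length) {a b : Fin 256}
    (e : wordEqN (w ++ dgWord a) (dgWord b ++ w) = true) : wv w h * gv a * (wv w h)⁻¹ = gv b := by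
  refine Subtype.ext (Subtype.ext ?_)
  show evalW w * evalW (dgWord a) * (evalW w)⁻¹ = evalW (dgWord b)
  rw [mul_inv_eq_iff_eq_mul, ← evalW_cat, ← evalW_cat]
  exact wordEqN_eq e

theorem move_nrm (S : Ctx G) {w : List ℕ} (hw : w ∈ flipMoves) (h : Even w.length) :
    (diagSys S).Nrm (S.e (wv w h)) := by
  suffices key : ∀ a : Fin 256, Even (bits a) → ∃ b, Even (bits b) ∧ wv w h * gv a * (wv w h)⁻¹ = gv b by
    rintro _ ⟨a, ha, rfl⟩
    obtain ⟨b, hb, e⟩ := key a ha
    refine ⟨b, hb, ?_⟩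
    show S.e (gv b) = S.e (wv w h) * S.e (gv a) * (S.e (wv w h))⁻¹
    rw [← map_inv S.e, ← map_mul, ← map_mul, e]
  have hz : Even (bits 0) := by rw [bits_eq]; decide
  let Q : Fin 256 → Prop := fun a => Even (bits a) ∧ ∃ b, Even (bits b) ∧ wv w h * gv a * (wv w h)⁻¹ = gv b
  have hQ0 : Q 0 := ⟨hz, 0, hz, by
    have e := gv_mx hz hz
    rw [mx_self] at e
    rw [mul_left_cancel (e.symm.trans (mul_one _).symm), mul_one, mul_inv_cancel]⟩
  have hQm : ∀ a c, Q a → Q c → Q (mx a c) := by
    rintro a c ⟨ha, b, hb, e⟩ ⟨hc, d, hd, e'⟩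
    refine ⟨even_mx ha hc, mx b d, even_mx hb hd, ?_⟩
    rw [gv_mx ha hc, gv_mx hb hd, ← e, ← e']
    group
  have hgen : ∀ i : ℕ, i < 7 → ∀ x : Fin 256, (x : ℕ) = 1 + 2 ^ (i + 1) → Q x := by
    intro i hi x hx
    have hev : Even (bits x) := (evN_iff x).1 (by
      rw [hx]
      exact allBelow_eq_true.1 (show (allBelow 7 fun i => evN (1 + 2 ^ (i + 1))) = true by decide +kernel) i hi)
    have hm := allBelow_eq_true.1 (List.all_eq_true.1 moves_nrm_chk w hw) i hi
    rw [Bool.not_eq_true', Bool.eq_false_iff] at hm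
    by_contra hcon
    refine hm (allBelow_eq_true.2 fun b hb => ?_)
    rw [Bool.not_eq_true', Bool.eq_false_iff]
    intro hbb
    rw [Bool.and_eq_true] at hbb
    refine hcon ⟨hev, ⟨b, hb⟩, (evN_iff ⟨b, hb⟩).1 hbb.1, conj_gv h ?_⟩
    rw [hx]
    exact hbb.2
  intro a ha
  have hs := allBelow_eq_true.1 even_span_chk a a.2
  rw [(evN_iff a).2 ha, Bool.not_true, Bool.false_or, Nat.beq_eq] at hs
  have hterm : ∀ i, i < 7 → ∀ r : Fin 256, Q r → ∀ c : Bool, ∀ y : Fin 256,
      (y : ℕ) = (cond c (1 + 2 ^ (i + 1)) 0) ^^^ (r : ℕ) → Q y := by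
    intro i hi r hr c y hy
    cases c
    · rw [show y = r from Fin.ext (by rw [hy, cond_false, Nat.zero_xor])]; exact hr
    · have hp : 1 + 2 ^ (i + 1) < 256 := by
        have : 2 ^ (i + 1) ≤ 2 ^ 7 := Nat.pow_le_pow_right (by norm_num) (by omega)
        omega
      rw [show y = mx ⟨_, hp⟩ r from Fin.ext (by rw [hy]; rfl)]
      exact hQm _ _ (hgen i hi _ rfl) hr
  have hall : ∀ l : List ℕ, (∀ i ∈ l, i < 7) → ∃ r : Fin 256, Q r ∧ (r : ℕ) =
      List.rec (motive := fun _ => ℕ) 0 (fun i _ r => Nat.xor (cond (Nat.testBit a (Nat.add i 1))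
        (Nat.add 1 (Nat.pow 2 (Nat.add i 1))) 0) r) l := by
    intro l hl
    induction l with
    | nil => exact ⟨0, hQ0, rfl⟩
    | cons i l ih =>
      obtain ⟨r, hr, e⟩ := ih fun j hj => hl j (List.mem_cons_of_mem _ hj)
      have hi := hl i List.mem_cons_self
      have hlt : (cond (Nat.testBit a (i + 1)) (1 + 2 ^ (i + 1)) 0) ^^^ (r : ℕ) < 256 := by
        refine Nat.xor_lt_two_pow (n := 8) ?_ r.2
        have : 2 ^ (i + 1) ≤ 2 ^ 7 := Nat.pow_le_pow_right (by norm_num) (by omega)
        cases Nat.testBit a (i + 1) <;> simp <;> omega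
      exact ⟨⟨_, hlt⟩, hterm i hi r hr _ ⟨_, hlt⟩ rfl, congrArg (Nat.xor _) e⟩
  obtain ⟨r, hr, e⟩ := hall [0, 1, 2, 3, 4, 5, 6] (by decide)
  rw [show a = r from Fin.ext (hs.trans e.symm)]
  exact hr.2

/-- No normalising element moves the involution. -/
theorem diag_no_move [Finite G] (S : Ctx G) (hq : ¬ IsConj (S.e y15) S.z) {n : G} (hn : (diagSys S).Nrm n) :
    n * S.z * n⁻¹ = S.z := by
  by_contra hmove
  set B := diagSys S with hB
  have hP : ∀ {a}, a ∈ B.orb → Even (bits a) := fun h => (B.mem_orb.1 h).1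
  have hw : ∀ x : Fin 256, x ∈ B.orb → ∀ a, Even (bits a) → a ≠ 0 → a ≠ 255 → x = a →
      inCls 1 a = true ∨ inCls 4 a = true := by
    intro x hx a ha h0 h1 e
    subst e
    have h := allBelow_eq_true.1 class_weight_chk x x.2
    rw [(evN_iff x).2 ha] at h
    simp only [Bool.not_true, Bool.false_or, Bool.or_eq_true, Nat.beq_eq, Bool.and_eq_true] at h
    rcases h with (h | h) | h
    · exact absurd (Fin.ext h) h0
    · exact absurd (Fin.ext h) h1
    rcases h.1.1.2 with (h' | h') | h'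
    · exfalso
      have hq4 := allBelow_eq_true.1 quad_moves_chk x x.2
      rw [show Nat.beq (sum8 fun i => cond (Nat.testBit x i) 1 0) 4 = true by rw [Nat.beq_eq]; exact h', Bool.not_true,
        Bool.false_or, List.any_eq_true] at hq4
      obtain ⟨p, -, hp⟩ := hq4
      have e : evalW p.2 * ((gv x : W) : Equiv.Perm (Fin 240)) * (evalW p.2)⁻¹ = D 15 := by
        rw [mul_inv_eq_iff_eq_mul]
        show evalW p.2 * evalW (dgWord x) = evalW (dWord 15) * evalW p.2
        rw [← evalW_cat, ← evalW_cat]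
        exact wordEqN_eq hp
      obtain ⟨v, hv⟩ : ∃ v : W1, ((v : W) : Equiv.Perm (Fin 240)) * ((gv x : W) : Equiv.Perm (Fin 240)) *
          ((v : W) : Equiv.Perm (Fin 240))⁻¹ = D 15 := by
        rcases det_cases ⟨evalW p.2, evalW_mem _⟩ with hd | hd <;> rw [detW_apply] at hd
        · exact ⟨⟨⟨_, evalW_mem _⟩, mem_W1.2 hd⟩, e⟩
        · refine ⟨⟨⟨D 1 * evalW p.2, mul_mem (D_mem _) (evalW_mem _)⟩, mem_W1.2 ?_⟩, ?_⟩
          · show (mat (D 1 * evalW p.2)).det = 1
            rw [mat_mul (D_mem _), Matrix.det_mul, hd, det_D, show bits 1 = 1 from by rw [bits_eq]; decide]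
            norm_num
          · show D 1 * evalW p.2 * _ * (D 1 * evalW p.2)⁻¹ = _
            rw [show D 1 * evalW p.2 * ((gv x : W) : Equiv.Perm (Fin 240)) * (D 1 * evalW p.2)⁻¹ =
              D 1 * (evalW p.2 * ((gv x : W) : Equiv.Perm (Fin 240)) * (evalW p.2)⁻¹) * (D 1)⁻¹ by group, e, ← D_mx,
              mx_comm, D_mx, mul_inv_cancel_right]
      refine hq (IsConj.trans (IsConj.symm (isConj_iff.2 ⟨S.e v, ?_⟩)) (B.orb_conj hx).symm)
      show S.e v * S.e (gv x) * (S.e v)⁻¹ = S.e y15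
      rw [← map_inv S.e, ← map_mul, ← map_mul]
      exact congrArg S.e (Subtype.ext (Subtype.ext (hv.trans y15_val.symm)))
    · exact .inl h'
    · exact .inr h'
  have hcls : ∀ x ∈ B.orb, x = 255 ∨ anyCls x = true := fun x hx => by
    by_cases h1 : x = 255
    · exact .inl h1
    · right
      rw [anyCls_iff]
      rcases hw x hx x (hP hx) (fun e => B.zero_orb (e ▸ hx)) h1 rfl with e | e
      exacts [⟨1, by norm_num, e⟩, ⟨4, by norm_num, e⟩]
  have hdisj : (allBelow 256 fun x => allBelow 7 fun k => allBelow 7 fun j =>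
      Nat.beq k j || !(inCls k x && inCls j x)) = true := by decide +kernel
  have hhi : (allBelow 256 fun x => allBelow 7 fun k => !(inCls k x) || (!(Nat.beq x 0) && !(Nat.beq x 255))) = true := by
    decide +kernel
  have hk14 : ∀ k, k < 7 → ∀ x ∈ B.orb, inCls k x = true → k = 1 ∨ k = 4 := fun k hk x hx hkx => by
    have h2 := allBelow_eq_true.1 (allBelow_eq_true.1 hhi x x.2) k hk
    rw [hkx, Bool.not_true, Bool.false_or, Bool.and_eq_true, Bool.not_eq_true', Bool.not_eq_true', Bool.eq_false_iff,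
      Bool.eq_false_iff, ne_eq, ne_eq, Nat.beq_eq, Nat.beq_eq] at h2
    rcases hw x hx x (hP hx) (fun e => h2.1 (by rw [e]; rfl)) (fun e => h2.2 (by rw [e]; rfl)) rfl with e | e
    · left
      have h := allBelow_eq_true.1 (allBelow_eq_true.1 (allBelow_eq_true.1 hdisj x x.2) k hk) 1 (by norm_num)
      rw [hkx, e, Bool.and_true, Bool.not_true, Bool.or_false, Nat.beq_eq] at h
      exact h
    · right
      have h := allBelow_eq_true.1 (allBelow_eq_true.1 (allBelow_eq_true.1 hdisj x x.2) k hk) 4 (by norm_num)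
      rw [hkx, e, Bool.and_true, Bool.not_true, Bool.or_false, Nat.beq_eq] at h
      exact h
  have hev1 : ∀ k, k = 1 ∨ k = 4 → ∀ x : Fin 256, inCls k x = true → Even (bits x) := fun k hk x hx => by
    have h : (allBelow 256 fun x => (!(inCls 1 x) || evN x) && (!(inCls 4 x) || evN x)) = true := by decide +kernel
    have h' := allBelow_eq_true.1 h x x.2
    rw [Bool.and_eq_true] at h'
    rcases hk with rfl | rfl
    · exact (evN_iff x).1 (by simpa [hx] using h'.1)
    · exact (evN_iff x).1 (by simpa [hx] using h'.2)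
  have h3 : Even (bits (3 : Fin 256)) := by rw [bits_eq]; decide
  have hmv : ∀ x : Fin 256, inCls 1 x = true → ∃ m, B.Nrm m ∧ m * S.z * m⁻¹ = S.z ∧ B.act m 3 = x := by
    intro x hx
    have h := allBelow_eq_true.1 moves_chk x x.2
    rw [hx, Bool.not_true, Bool.false_or, List.any_eq_true] at h
    obtain ⟨w, hw', hp⟩ := h
    rw [Bool.and_eq_true, Nat.beq_eq] at hp
    have hev : Even w.length := Nat.even_iff.2 hp.1
    refine ⟨S.e (wv w hev), move_nrm S hw' hev, by rw [← S.z_comm, mul_inv_cancel_right],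
      Sys.act_eq (move_nrm S hw' hev) h3 (hev1 1 (.inl rfl) x hx) ?_⟩
    show S.e (wv w hev) * S.e (gv 3) * (S.e (wv w hev))⁻¹ = S.e (gv x)
    rw [← map_inv S.e, ← map_mul, ← map_mul]
    exact congrArg S.e (conj_gv hev hp.2)
  have hu1 : ∀ x y : Fin 256, inCls 1 x = true → inCls 1 y = true → x ∈ B.orb → y ∈ B.orb := by
    intro x y hx hy hxo
    obtain ⟨m, hm, -, ex⟩ := hmv x hx
    obtain ⟨m', hm', -, ey⟩ := hmv y hy
    rw [← ey, Sys.act_orb_iff hm' h3, ← Sys.act_orb_iff hm h3, ex]
    exact hxo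
  have hu4 : ∀ x y : Fin 256, inCls 4 x = true → inCls 4 y = true → x ∈ B.orb → y ∈ B.orb := by
    intro x y hx hy hxo
    have hc : ∀ x : Fin 256, inCls 4 x = true → inCls 1 (mx x 255) = true := fun x hx => by
      have h := allBelow_eq_true.1 class_weight_chk x x.2
      have h2 := allBelow_eq_true.1 (allBelow_eq_true.1 hhi x x.2) 4 (by norm_num)
      rw [hx] at h2
      simp only [Bool.not_true, Bool.false_or, Bool.and_eq_true, Bool.not_eq_true'] at h2
      rw [(evN_iff x).2 (hev1 4 (.inr rfl) x hx), hx, h2.1, h2.2] at h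
      simp only [Bool.not_true, Bool.false_or, Bool.and_eq_true] at h
      exact h.2
    obtain ⟨m, hm, hz, ex⟩ := hmv _ (hc x hx)
    obtain ⟨m', hm', hz', ey⟩ := hmv _ (hc y hy)
    have hfix : ∀ {m}, B.Nrm m → m * S.z * m⁻¹ = S.z → B.act m 255 = 255 := fun {m} hm hz =>
      Sys.act_eq hm B.full_mem B.full_mem (by rw [B.full, hz])
    have inv2 : ∀ a : Fin 256, mx (mx a 255) 255 = a := fun a => by rw [mx_assoc, mx_self, mx_zero]
    have hP3 : B.P (mx 3 255) := even_mx h3 even_full
    have e1 : B.act m (mx 3 255) = x := by rw [Sys.act_mx hm h3 B.full_mem, ex, hfix hm hz, inv2]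
    have e2 : B.act m' (mx 3 255) = y := by rw [Sys.act_mx hm' h3 B.full_mem, ey, hfix hm' hz', inv2]
    rw [← e2, Sys.act_orb_iff hm' hP3, ← Sys.act_orb_iff hm hP3, e1]
    exact hxo
  obtain ⟨sub, hsub, hO⟩ := B.orb_cases hn hmove hcls fun k hk x y hx hy hxo => by
    rcases hk14 k hk x hxo hx with rfl | rfl
    · exact hu1 x y hx hy hxo
    · exact hu4 x y hx hy hxo
  have key : ∀ k, k < 7 → sub.testBit k = true → k = 1 ∨ k = 4 := fun k hk hb =>
    hk14 k hk _ ((hO _).2 (inS_iff.2 (.inr ⟨k, hk, hb, repM_cls hk⟩))) (repM_cls hk)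
  rcases hsub with rfl | rfl | rfl
  · exact absurd (key 0 (by norm_num) (by decide)) (by omega)
  · exact absurd (key 5 (by norm_num) (by decide)) (by omega)
  · exact absurd (key 0 (by norm_num) (by decide)) (by omega)

end Cfsg.Agent.StdO8
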