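import Cfsg.Agent.StdO8.Bits
import Cfsg.Agent.OrthMult.EightTwo

/-!
The cover of the orthogonal group acts on the roots in three ways: on the two halves of its points
and on the triality bijections between them.
-/

set_option autoImplicit false
set_option maxRecDepth 100000
set_option maxHeartbeats 1000000
set_option linter.unusedSectionVars false
set_option linter.unusedVariables false

universe u

namespace Cfsg.Agent.StdO8

open Cfsg Cfsg.Agent.Compute Cfsg.Agent.StemCert Cfsg.Agent.StemCert.CyclicSheets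
open Cfsg.Agent.OrthMult

/-- The image under a generator on one of the three sets. -/
noncomputable def genN (k s x : ℕ) : ℕ :=
  getField 8 (([genA, genB, genC].getD k []).getD s 0) x

/-- The image under a triality bijection. -/
noncomputable def betaN (c a : ℕ) : ℕ := getField 8 (betaCodes.getD c 0) a

/-- The point of a root in the second half. -/
noncomputable def pbN (x : ℕ) : ℕ := Nat.add 240 (getField 8 pointB x)

theorem gen_ip_chk0 : (allBelow 7 fun s => allBelow 240 fun x => Nat.blt (genN 0 s x) 240 && allBelow 240 fun y =>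
    Nat.beq (ipN (genN 0 s x) (genN 0 s y)) (ipN x y)) = true := by decide +kernel

theorem gen_ip_chk1 : (allBelow 7 fun s => allBelow 240 fun x => Nat.blt (genN 1 s x) 240 && allBelow 240 fun y =>
    Nat.beq (ipN (genN 1 s x) (genN 1 s y)) (ipN x y)) = true := by decide +kernel

theorem gen_ip_chk2 : (allBelow 7 fun s => allBelow 240 fun x => Nat.blt (genN 2 s x) 240 && allBelow 240 fun y =>
    Nat.beq (ipN (genN 2 s x) (genN 2 s y)) (ipN x y)) = true := by decide +kernel

theorem beta_lt_chk : (allBelow 240 fun c => allBelow 240 fun a => Nat.blt (betaN c a) 240) = true := by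
  decide +kernel

theorem beta_inj_chk : (allBelow 240 fun c => allBelow 240 fun c' => Nat.beq c c' ||
    !(allBelow 240 fun a => Nat.beq (betaN c a) (betaN c' a))) = true := by decide +kernel

theorem gen_rel_chk : (allBelow 7 fun s => allBelow 240 fun c => allBelow 240 fun a =>
    Nat.beq (betaN (genN 2 s c) (genN 0 s a)) (genN 1 s (betaN c a))) = true := by decide +kernel

theorem lift_rel_chk : (allBelow 7 fun s => allBelow 240 fun x =>
    Nat.beq (cAct 9 2 (EightTwo.lifts.getD s 0) x) (genN 0 s x) &&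
    Nat.beq (cAct 9 2 (EightTwo.lifts.getD s 0) (pbN x)) (pbN (genN 1 s x)) && Nat.blt (pbN x) 480) = true := by
  decide +kernel

theorem pb_inj_chk : (allBelow 240 fun x => allBelow 240 fun y => Nat.beq x y || !(Nat.beq (pbN x) (pbN y))) = true := by
  decide +kernel

theorem flip_rel_chk : (allBelow 240 fun x =>
    Nat.beq (cAct 9 2 (EightTwo.flipCode 0) x) (negN x) &&
    Nat.beq (cAct 9 2 (EightTwo.flipCode 1) x) x &&
    Nat.beq (cAct 9 2 (EightTwo.flipCode 0) (pbN x)) (pbN x) &&
    Nat.beq (cAct 9 2 (EightTwo.flipCode 1) (pbN x)) (pbN (negN x))) = true := by decide +kernel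

theorem beta_neg_chk : (allBelow 240 fun c => allBelow 240 fun a =>
    Nat.beq (betaN (negN c) (negN a)) (betaN c a) &&
    Nat.beq (betaN (negN c) a) (negN (betaN c a))) = true := by decide +kernel

attribute [local irreducible] genN betaN pbN cAct cMul cId EightTwo.lifts EightTwo.liftInvs EightTwo.flipA
  EightTwo.flipB EightTwo.coverChain EightTwo.flipCode ipN coN

/-- The point of a root in the first half. -/
noncomputable def ptA (x : Fin 240) : Fin 480 := ⟨x, by omega⟩

/-- The point of a root in the second half. -/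
noncomputable def ptB (x : Fin 240) : Fin 480 :=
  ⟨pbN x, by
    have h := allBelow_eq_true.1 (allBelow_eq_true.1 lift_rel_chk 0 (by norm_num)) x x.2
    simp only [Bool.and_eq_true, Nat.blt_eq] at h
    exact h.2⟩

theorem ptA_injective : Function.Injective ptA := fun x y h => Fin.ext (show (ptA x : ℕ) = ptA y from congrArg Fin.val h)

theorem ptB_injective : Function.Injective ptB := fun x y h => by
  have hc := allBelow_eq_true.1 (allBelow_eq_true.1 pb_inj_chk x x.2) y y.2
  rw [show Nat.beq (pbN x) (pbN y) = true from by rw [Nat.beq_eq]; exact congrArg Fin.val h, Bool.not_true,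
    Bool.or_false] at hc
  exact Fin.ext (Nat.eq_of_beq_eq_true hc)

/-- The triality bijection of a root. -/
noncomputable def beta (c a : Fin 240) : Fin 240 :=
  ⟨betaN c a, by
    have h := allBelow_eq_true.1 (allBelow_eq_true.1 beta_lt_chk c c.2) a a.2
    simpa [Nat.blt_eq] using h⟩

theorem beta_injective {c c' : Fin 240} (h : ∀ a, beta c a = beta c' a) : c = c' := by
  have hc := allBelow_eq_true.1 (allBelow_eq_true.1 beta_inj_chk c c.2) c' c'.2
  rw [show (allBelow 240 fun a => Nat.beq (betaN c a) (betaN c' a)) = true from allBelow_eq_true.2 fun a ha => by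
    rw [Nat.beq_eq]; exact congrArg Fin.val (h ⟨a, ha⟩), Bool.not_true, Bool.or_false] at hc
  exact Fin.ext (Nat.eq_of_beq_eq_true hc)

theorem exists_genW (k : Fin 3) {s : ℕ} (hs : s < 7) : ∃ g ∈ W, ∀ x : Fin 240, (g x : ℕ) = genN k s x := by
  have h : (allBelow 240 fun x => Nat.blt (genN k s x) 240 && allBelow 240 fun y =>
      Nat.beq (ipN (genN k s x) (genN k s y)) (ipN x y)) = true := by
    fin_cases k
    exacts [allBelow_eq_true.1 gen_ip_chk0 s hs, allBelow_eq_true.1 gen_ip_chk1 s hs,
      allBelow_eq_true.1 gen_ip_chk2 s hs]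
  simp only [allBelow_eq_true, Bool.and_eq_true, Nat.blt_eq, Nat.beq_eq] at h
  let f : Fin 240 → Fin 240 := fun x => ⟨genN k s x, (h x x.2).1⟩
  have hip : ∀ x y, ip (f x) (f y) = ip x y := fun x y => by
    simp only [ip, f]; rw [(h x x.2).2 y y.2]
  have hinj : Function.Injective f := fun x y e => ip_eq_two (by rw [← hip, e, ip_self])
  exact ⟨Equiv.ofBijective f ((Fintype.bijective_iff_injective_and_card f).2 ⟨hinj, rfl⟩), hip, fun x => rfl⟩

/-- The three symmetries of an element of the cover. -/
structure Three (σ : Equiv.Perm (Fin 480)) (a b c : Equiv.Perm (Fin 240)) : Prop where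
  memA : a ∈ W
  memB : b ∈ W
  memC : c ∈ W
  actA : ∀ x, σ (ptA x) = ptA (a x)
  actB : ∀ x, σ (ptB x) = ptB (b x)
  actC : ∀ x v, beta (c x) (a v) = b (beta x v)

theorem Three.unique {σ : Equiv.Perm (Fin 480)} {a b c a' b' c' : Equiv.Perm (Fin 240)} (h : Three σ a b c)
    (h' : Three σ a' b' c') : a = a' ∧ b = b' ∧ c = c' := by
  have ha : a = a' := Equiv.ext fun x => ptA_injective (by rw [← h.actA, h'.actA])
  have hb : b = b' := Equiv.ext fun x => ptB_injective (by rw [← h.actB, h'.actB])
  refine ⟨ha, hb, Equiv.ext fun x => beta_injective fun v => ?_⟩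
  obtain ⟨u, rfl⟩ := a.surjective v
  rw [h.actC, ha, h'.actC, hb]

theorem Three.mul {σ τ : Equiv.Perm (Fin 480)} {a b c a' b' c' : Equiv.Perm (Fin 240)} (h : Three σ a b c)
    (h' : Three τ a' b' c') : Three (σ * τ) (a * a') (b * b') (c * c') where
  memA := mul_mem h.memA h'.memA
  memB := mul_mem h.memB h'.memB
  memC := mul_mem h.memC h'.memC
  actA x := by rw [Equiv.Perm.mul_apply, h'.actA, h.actA, Equiv.Perm.mul_apply]
  actB x := by rw [Equiv.Perm.mul_apply, h'.actB, h.actB, Equiv.Perm.mul_apply]
  actC x v := by rw [Equiv.Perm.mul_apply, Equiv.Perm.mul_apply, h.actC, h'.actC, Equiv.Perm.mul_apply]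

theorem Three.one : Three 1 1 1 1 :=
  ⟨one_mem W, one_mem W, one_mem W, fun _ => rfl, fun _ => rfl, fun _ _ => rfl⟩

theorem exists_three_gen {s : ℕ} (hs : s < 7) :
    ∃ a b c, Three (EightTwo.rep2s.den (EightTwo.lifts.getD s 0)) a b c := by
  obtain ⟨a, ha, ea⟩ := exists_genW 0 hs
  obtain ⟨b, hb, eb⟩ := exists_genW 1 hs
  obtain ⟨c, hc, ec⟩ := exists_genW 2 hs
  obtain ⟨-, hok, -, -⟩ := EightTwo.lift_spec hs
  refine ⟨a, b, c, ha, hb, hc, fun x => Fin.ext ?_, fun x => Fin.ext ?_, fun x v => Fin.ext ?_⟩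
  · have h := allBelow_eq_true.1 (allBelow_eq_true.1 lift_rel_chk s hs) x x.2
    simp only [Bool.and_eq_true, Nat.beq_eq] at h
    rw [EightTwo.act2s hok]
    show cAct 9 2 _ (x : ℕ) = (a x : ℕ)
    rw [h.1.1, ea]; rfl
  · have h := allBelow_eq_true.1 (allBelow_eq_true.1 lift_rel_chk s hs) x x.2
    simp only [Bool.and_eq_true, Nat.beq_eq] at h
    rw [EightTwo.act2s hok]
    show cAct 9 2 _ (pbN x) = pbN (b x : ℕ)
    rw [h.1.2, eb]; rfl
  · have h := Nat.eq_of_beq_eq_true (allBelow_eq_true.1 (allBelow_eq_true.1 (allBelow_eq_true.1 gen_rel_chk s hs) x x.2) v v.2)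
    show betaN (c x : ℕ) (a v : ℕ) = (b (beta x v) : ℕ)
    rw [eb, ec, ea]
    exact h

variable {F : Type u} [Field F]

theorem exists_three (y : EightTwo.cover F) : ∃ a b c, Three y.1.2 a b c := by
  have hy : y.1 ∈ Subgroup.closure ((fun s => (EightTwo.gen F s, EightTwo.rep2s.den (EightTwo.lifts.getD s 0))) ''
      {s | s < 7}) := y.2
  generalize y.1 = z at hy
  induction hy using Subgroup.closure_induction with
  | mem t ht =>
    obtain ⟨s, hs, rfl⟩ := ht
    exact exists_three_gen hs
  | one => exact ⟨1, 1, 1, Three.one⟩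
  | mul x w _ _ hx hw =>
    obtain ⟨a, b, c, h⟩ := hx
    obtain ⟨a', b', c', h'⟩ := hw
    exact ⟨_, _, _, h.mul h'⟩
  | inv x _ hx =>
    obtain ⟨a, b, c, h⟩ := hx
    refine ⟨a⁻¹, b⁻¹, c⁻¹, inv_mem h.memA, inv_mem h.memB, inv_mem h.memC, fun v => ?_, fun v => ?_, fun v w => ?_⟩
    · rw [Prod.snd_inv, Equiv.Perm.coe_inv, Equiv.symm_apply_eq, h.actA, app_inv]
    · rw [Prod.snd_inv, Equiv.Perm.coe_inv, Equiv.symm_apply_eq, h.actB, app_inv]
    · rw [Equiv.Perm.coe_inv b, ← Equiv.apply_eq_iff_eq b, Equiv.apply_symm_apply, ← h.actC, app_inv, app_inv]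

variable (F)

/-- The action on the first half. -/
noncomputable def homA : EightTwo.cover F →* W :=
  MonoidHom.mk' (fun y => ⟨(exists_three y).choose, (exists_three y).choose_spec.choose_spec.choose_spec.memA⟩)
    fun x y => Subtype.ext ((exists_three (x * y)).choose_spec.choose_spec.choose_spec.unique
      ((exists_three x).choose_spec.choose_spec.choose_spec.mul (exists_three y).choose_spec.choose_spec.choose_spec)).1

/-- The action on the second half. -/
noncomputable def homB : EightTwo.cover F →* W :=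
  MonoidHom.mk' (fun y => ⟨(exists_three y).choose_spec.choose, (exists_three y).choose_spec.choose_spec.choose_spec.memB⟩)
    fun x y => Subtype.ext ((exists_three (x * y)).choose_spec.choose_spec.choose_spec.unique
      ((exists_three x).choose_spec.choose_spec.choose_spec.mul (exists_three y).choose_spec.choose_spec.choose_spec)).2.1

/-- The action on the bijections. -/
noncomputable def homC : EightTwo.cover F →* W :=
  MonoidHom.mk' (fun y => ⟨(exists_three y).choose_spec.choose_spec.choose, (exists_three y).choose_spec.choose_spec.choose_spec.memC⟩)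
    fun x y => Subtype.ext ((exists_three (x * y)).choose_spec.choose_spec.choose_spec.unique
      ((exists_three x).choose_spec.choose_spec.choose_spec.mul (exists_three y).choose_spec.choose_spec.choose_spec)).2.2

variable {F}

theorem hom_eq {y : EightTwo.cover F} {a b c : Equiv.Perm (Fin 240)} (h : Three y.1.2 a b c) :
    (homA F y : Equiv.Perm (Fin 240)) = a ∧ (homB F y : Equiv.Perm (Fin 240)) = b ∧
      (homC F y : Equiv.Perm (Fin 240)) = c :=
  (exists_three y).choose_spec.choose_spec.choose_spec.unique h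

theorem hom_zc0 : (homA F (EightTwo.zc F 0) : Equiv.Perm (Fin 240)) = negW ∧
    (homB F (EightTwo.zc F 0) : Equiv.Perm (Fin 240)) = 1 ∧
    (homC F (EightTwo.zc F 0) : Equiv.Perm (Fin 240)) = negW := by
  obtain ⟨ho, -⟩ := EightTwo.cent_spec (r := 0) (by norm_num)
  refine hom_eq ⟨negW_mem, one_mem W, negW_mem, fun x => ?_, fun x => ?_, fun x v => ?_⟩
  · rw [EightTwo.zc_snd (by norm_num)]
    refine Fin.ext ?_
    rw [EightTwo.act2s ho]
    have h := allBelow_eq_true.1 flip_rel_chk x x.2
    simp only [Bool.and_eq_true, Nat.beq_eq] at h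
    exact h.1.1.1
  · rw [EightTwo.zc_snd (by norm_num)]
    refine Fin.ext ?_
    rw [EightTwo.act2s ho]
    have h := allBelow_eq_true.1 flip_rel_chk x x.2
    simp only [Bool.and_eq_true, Nat.beq_eq] at h
    exact h.1.2
  · have h := allBelow_eq_true.1 (allBelow_eq_true.1 beta_neg_chk x x.2) v v.2
    simp only [Bool.and_eq_true, Nat.beq_eq] at h
    exact Fin.ext h.1

theorem hom_zc1 : (homA F (EightTwo.zc F 1) : Equiv.Perm (Fin 240)) = 1 ∧
    (homB F (EightTwo.zc F 1) : Equiv.Perm (Fin 240)) = negW ∧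
    (homC F (EightTwo.zc F 1) : Equiv.Perm (Fin 240)) = negW := by
  obtain ⟨ho, -⟩ := EightTwo.cent_spec (r := 1) (by norm_num)
  refine hom_eq ⟨one_mem W, negW_mem, negW_mem, fun x => ?_, fun x => ?_, fun x v => ?_⟩
  · rw [EightTwo.zc_snd (by norm_num)]
    refine Fin.ext ?_
    rw [EightTwo.act2s ho]
    have h := allBelow_eq_true.1 flip_rel_chk x x.2
    simp only [Bool.and_eq_true, Nat.beq_eq] at h
    exact h.1.1.2
  · rw [EightTwo.zc_snd (by norm_num)]
    refine Fin.ext ?_
    rw [EightTwo.act2s ho]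
    have h := allBelow_eq_true.1 flip_rel_chk x x.2
    simp only [Bool.and_eq_true, Nat.beq_eq] at h
    exact h.2
  · have h := allBelow_eq_true.1 (allBelow_eq_true.1 beta_neg_chk x x.2) v v.2
    simp only [Bool.and_eq_true, Nat.beq_eq] at h
    exact Fin.ext h.2

end Cfsg.Agent.StdO8
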