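import Cfsg.Agent.StdO8.Basic

/-!
Some conjugate of the involution lies in the cover or induces an outer automorphism.
-/

set_option autoImplicit false
set_option maxRecDepth 100000
set_option maxHeartbeats 1000000
set_option linter.unusedSectionVars false

universe u

namespace Cfsg.Agent.StdO8

open Cfsg.Agent.Compute

/-- Iterates of a coded affine map. -/
noncomputable def affIter (a b c d : ℕ) (n i : ℕ) : ℕ :=
  Nat.rec (motive := fun _ => ℕ) i (fun _ r => affN a b c d r) n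

theorem aff_order : (allBelow 8 fun a => allBelow 8 fun b => allBelow 8 fun c => allBelow 8 fun d =>
    !(goodN a b c d) || !(allBelow 8 fun i => Nat.beq (affIter a b c d 8 i) i) ||
      (allBelow 8 fun i => Nat.beq (affIter a b c d 4 i) i)) = true := by decide +kernel

/-- The elements of two-power order have order at most eight. -/
theorem pow_eight {w : W} {n : ℕ} (hn : w ^ 2 ^ n = 1) : w ^ 8 = 1 := by
  have hp : IsPGroup 2 (Subgroup.zpowers w) := by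
    rintro ⟨g, k, rfl⟩
    exact ⟨n, Subtype.ext (by show (w ^ k) ^ 2 ^ n = 1; rw [← zpow_natCast, ← zpow_mul, mul_comm, zpow_mul,
      zpow_natCast, hn, one_zpow])⟩
  obtain ⟨h, hh⟩ := exists_conj_mono _ hp
  obtain ⟨g, hgdef⟩ : ∃ g : W, g = h * w * h⁻¹ := ⟨_, rfl⟩
  have hmono : IsMono (g : Equiv.Perm (Fin 240)) := by rw [hgdef]; exact hh w (Subgroup.mem_zpowers w)
  obtain ⟨t, ht⟩ := mono_affine g.2 hmono
  have hit : ∀ (m : ℕ) (i : Fin 8), ∃ j : Fin 8,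
      (j : ℕ) = affIter t.1.1 t.1.2.1 t.1.2.2.1 t.1.2.2.2 m i ∧
        ln (((g ^ m : W) : Equiv.Perm (Fin 240)) (ev i)) = ax j := fun m i => by
    induction m with
    | zero => exact ⟨i, rfl, by rw [pow_zero, Subgroup.coe_one, Equiv.Perm.one_apply]; exact ln_ev i⟩
    | succ m ih =>
      obtain ⟨j, hj, hl⟩ := ih
      refine ⟨aff t.1 j, ?_, ?_⟩
      · rw [affN_eq, hj]; rfl
      · rw [pow_succ', Subgroup.coe_mul, Equiv.Perm.mul_apply]
        exact (ln_map g.2 (hl.trans (ln_ev j).symm)).trans (ht j)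
  have horder : g ^ 2 ^ n = 1 := by rw [hgdef, conj_pow, hn, mul_one, mul_inv_cancel]
  have h8 : ∀ i : Fin 8, affIter t.1.1 t.1.2.1 t.1.2.2.1 t.1.2.2.2 8 i = i := by
    intro i
    obtain ⟨f, hfdef⟩ : ∃ f, f = affN (t.1.1 : ℕ) (t.1.2.1 : ℕ) (t.1.2.2.1 : ℕ) (t.1.2.2.2 : ℕ) := ⟨_, rfl⟩
    have hf : ∀ m x, affIter t.1.1 t.1.2.1 t.1.2.2.1 t.1.2.2.2 m x = f^[m] x := fun m x => by
      induction m with
      | zero => rfl
      | succ m ih => rw [Function.iterate_succ_apply', ← ih, hfdef]; rfl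
    have hper : Function.IsPeriodicPt f (2 ^ n) (i : ℕ) := by
      show f^[2 ^ n] (i : ℕ) = i
      obtain ⟨j, hj, hl⟩ := hit (2 ^ n) i
      rw [horder, Subgroup.coe_one, Equiv.Perm.one_apply, ln_ev] at hl
      rw [← hf, ← hj, ← ax_injective hl]
    have hlt : ∀ m, f^[m] (i : ℕ) < 8 := fun m => by
      obtain ⟨k, hk, -⟩ := hit m i
      rw [← hf, ← hk]; exact k.2
    have hcard := Finset.card_le_card_of_injOn (s := Finset.range (Function.minimalPeriod f (i : ℕ)))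
      (t := Finset.range 8) (fun m => f^[m] (i : ℕ)) (fun m _ => Finset.mem_range.2 (hlt m))
      (fun a ha b hb e => Function.iterate_injOn_Iio_minimalPeriod (Finset.mem_range.1 ha) (Finset.mem_range.1 hb) e)
    rw [Finset.card_range, Finset.card_range] at hcard
    obtain ⟨j, -, hj⟩ := (Nat.dvd_prime_pow Nat.prime_two).1 hper.minimalPeriod_dvd
    have h3 : j ≤ 3 := (Nat.pow_le_pow_iff_right (by norm_num : 1 < 2)).1 (by rw [← hj]; simpa using hcard)
    rw [hf]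
    exact Function.isPeriodicPt_iff_minimalPeriod_dvd.2 (by rw [hj]; exact pow_dvd_pow 2 h3)
  have h4 : ∀ i : Fin 8, ln (((g ^ 4 : W) : Equiv.Perm (Fin 240)) (ev i)) = ax i := fun i => by
    have h := allBelow_eq_true.1 (allBelow_eq_true.1 (allBelow_eq_true.1 (allBelow_eq_true.1 aff_order t.1.1 t.1.1.2)
      t.1.2.1 t.1.2.1.2) t.1.2.2.1 t.1.2.2.1.2) t.1.2.2.2 t.1.2.2.2.2
    rw [show goodN (t.1.1 : ℕ) (t.1.2.1 : ℕ) (t.1.2.2.1 : ℕ) (t.1.2.2.2 : ℕ) = true from t.2,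
      show (allBelow 8 fun i => Nat.beq (affIter t.1.1 t.1.2.1 t.1.2.2.1 t.1.2.2.2 8 i) i) = true from
        allBelow_eq_true.2 fun i hi => by rw [Nat.beq_eq]; exact h8 ⟨i, hi⟩,
      Bool.not_true, Bool.false_or, Bool.false_or] at h
    obtain ⟨j, hj, hl⟩ := hit 4 i
    rw [hl]
    exact congrArg ax (Fin.ext (hj.trans (Nat.eq_of_beq_eq_true (allBelow_eq_true.1 h i i.2))))
  obtain ⟨d, hd⟩ := eq_D_of_lines (g ^ 4).2 h4
  have h8g : g ^ 8 = 1 := Subtype.ext (by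
    rw [show g ^ 8 = g ^ 4 * g ^ 4 from by rw [← pow_add], Subgroup.coe_mul, hd, ← D_mx, mx_self, D_zero,
      Subgroup.coe_one])
  rw [hgdef, conj_pow, mul_inv_eq_one] at h8g
  exact mul_left_cancel (h8g.trans (mul_one h).symm)

namespace Ctx

variable {G : Type u} [Group G] (S : Ctx G)

/-- An involution commuting with the central one is inner with a non-trivial part outside, or lies in the cover,
or is outer. -/
theorem kind {u : G} (hu : u * S.z = S.z * u) (h2 : u * u = 1) (hne : u ≠ S.z) :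
    u ∈ S.e.range ∨ (∃ w, S.Acts u w ∧ w ∉ W1) ∨
      ∃ v : W1, ∃ c ∈ S.cent, u = S.e v * c ∧ v * v = zW ∧ c * c = S.z := by
  obtain ⟨w, hw⟩ := S.exists_acts hu
  by_cases hw1 : w ∈ W1
  · set c := (S.e ⟨w, hw1⟩)⁻¹ * u with hc
    have hcc : c ∈ S.cent := Acts.cent_of_one (v := ⟨w, hw1⟩) hw
    have hu' : u = S.e ⟨w, hw1⟩ * c := by rw [hc, mul_inv_cancel_left]
    have hsq : S.e (⟨w, hw1⟩ * ⟨w, hw1⟩) * (c * c) = 1 := by
      rw [map_mul]
      calc S.e ⟨w, hw1⟩ * S.e ⟨w, hw1⟩ * (c * c) = S.e ⟨w, hw1⟩ * (S.e ⟨w, hw1⟩ * c) * c := by group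
        _ = S.e ⟨w, hw1⟩ * (c * S.e ⟨w, hw1⟩) * c := by rw [S.mem_cent.1 hcc]
        _ = S.e ⟨w, hw1⟩ * c * (S.e ⟨w, hw1⟩ * c) := by group
        _ = 1 := by rw [← hu', h2]
    have hin : S.e (⟨w, hw1⟩ * ⟨w, hw1⟩) ∈ S.cent := by
      rw [eq_inv_of_mul_eq_one_left hsq]; exact inv_mem (mul_mem hcc hcc)
    rcases S.meet' hin with e | e <;> rw [e] at hsq
    · rw [map_one, one_mul] at hsq
      left
      rcases S.inv_cent hcc hsq with e' | e'
      · exact ⟨⟨w, hw1⟩, by rw [hu', e', mul_one]⟩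
      · exact ⟨⟨w, hw1⟩ * zW, by rw [hu', e', map_mul]; rfl⟩
    · exact .inr (.inr ⟨_, c, hcc, hu', e, (eq_inv_of_mul_eq_one_right hsq).trans
        (inv_eq_of_mul_eq_one_right S.z_sq)⟩)
  · exact .inr (.inl ⟨w, hw, hw1⟩)

variable [Finite G]

/-- Some conjugate in the centraliser lies in the cover or is outer. -/
theorem exists_good (hf : ∃ g, g * S.z * g⁻¹ ≠ S.z ∧ Commute S.z (g * S.z * g⁻¹)) :
    ∃ u, IsConj S.z u ∧ u ≠ S.z ∧ u * S.z = S.z * u ∧ (u ∈ S.e.range ∨ ∃ w, S.Acts u w ∧ w ∉ W1) := by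
  obtain ⟨g, hne, hcomm⟩ := hf
  have sqz : ∀ a : G, a * S.z * a⁻¹ * (a * S.z * a⁻¹) = 1 := fun a => by
    rw [show a * S.z * a⁻¹ * (a * S.z * a⁻¹) = a * (S.z * S.z) * a⁻¹ by group, S.z_sq, mul_one, mul_inv_cancel]
  rcases S.kind hcomm.symm.eq (sqz g) hne with h | h | ⟨v, c, hc, hu, hv, -⟩
  · exact ⟨_, isConj_iff.2 ⟨g, rfl⟩, hne, hcomm.symm.eq, .inl h⟩
  · exact ⟨_, isConj_iff.2 ⟨g, rfl⟩, hne, hcomm.symm.eq, .inr h⟩
  set T := S.moved g with hT
  have hz2 : S.z * S.z = 1 := S.z_sq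
  have hne' : S.z ≠ T.z := by rw [hT, moved_z]; exact hne.symm
  have hcT : S.z * T.z = T.z * S.z := by rw [hT, moved_z]; exact hcomm.eq
  have back : ∀ b : G, g⁻¹ * (g * b * g⁻¹) * g = b := fun b => by group
  rcases T.kind hcT hz2 hne' with h | h | ⟨v', c', hc', hz', -, hc2'⟩
  · obtain ⟨x, hx⟩ := h
    have hx' : g * S.e x * g⁻¹ = S.z := hx
    refine ⟨g⁻¹ * S.z * g, isConj_iff.2 ⟨g⁻¹, by rw [inv_inv]⟩, ?_, ?_, .inl ⟨x, by rw [← hx', back]⟩⟩
    · exact fun e => hne (by nth_rewrite 1 [← e]; group)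
    · rw [show g⁻¹ * S.z * g = S.e x by rw [← hx', back]]; exact (S.z_comm x).symm
  · obtain ⟨w, hw, hw1⟩ := h
    have hA : S.Acts (g⁻¹ * S.z * g) w := fun x => by
      have e : S.z * (g * S.e x * g⁻¹) * S.z⁻¹ = g * S.e (cW w x) * g⁻¹ := hw x
      calc g⁻¹ * S.z * g * S.e x * (g⁻¹ * S.z * g)⁻¹ = g⁻¹ * (S.z * (g * S.e x * g⁻¹) * S.z⁻¹) * g := by group
        _ = _ := by rw [e, back]
    refine ⟨g⁻¹ * S.z * g, isConj_iff.2 ⟨g⁻¹, by rw [inv_inv]⟩, ?_, hA.comm, .inr ⟨w, hA, hw1⟩⟩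
    exact fun e => hne (by nth_rewrite 1 [← e]; group)
  exfalso
  -- both inner with a part outside: a generator of the other cyclic Sylow subgroup gives a root of minus one
  have hzT : S.z * T.h * S.z⁻¹ * T.h⁻¹ ∈ T.O := by
    have e : S.z * T.h * S.z⁻¹ * T.h⁻¹ = T.e v' * (c' * T.h * c'⁻¹) * (T.e v')⁻¹ * T.h⁻¹ := by rw [hz']; group
    have hcomm' : c' * T.h * c'⁻¹ ∈ T.cent := mul_mem (mul_mem hc' T.h_mem) (inv_mem hc')
    rw [e, ← T.mem_cent.1 hcomm', mul_inv_cancel_right]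
    exact T.comm_mem_O hc' T.h_mem
  let X : Type u := {x : G // x * T.h⁻¹ ∈ T.O}
  have hXcent : ∀ x : X, x.1 ∈ T.cent := fun x => by
    rw [show x.1 = x.1 * T.h⁻¹ * T.h by group]; exact mul_mem (T.O_le x.2) T.h_mem
  have hzO : ∀ o ∈ T.O, S.z * o * S.z⁻¹ ∈ T.O := fun o ho => by
    rw [hz', show T.e v' * c' * o * (T.e v' * c')⁻¹ = T.e v' * (c' * o * c'⁻¹) * (T.e v')⁻¹ by group,
      ← T.mem_cent.1 (T.O_le (T.O_normal' hc' ho)), mul_inv_cancel_right]
    exact T.O_normal' hc' ho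
  let f : X → X := fun x => ⟨S.z * x.1 * S.z⁻¹, by
    rw [show S.z * x.1 * S.z⁻¹ * T.h⁻¹ = (S.z * (x.1 * T.h⁻¹) * S.z⁻¹) * (S.z * T.h * S.z⁻¹ * T.h⁻¹) by group]
    exact mul_mem (hzO _ x.2) hzT⟩
  have hfix : ∃ x : X, f x = x := by
    classical
    haveI : Fintype X := Fintype.ofFinite X
    by_contra hcon
    push Not at hcon
    have hinv : Function.Involutive f := fun x => Subtype.ext (by
      show S.z * (S.z * x.1 * S.z⁻¹) * S.z⁻¹ = x.1
      rw [show S.z * (S.z * x.1 * S.z⁻¹) * S.z⁻¹ = (S.z * S.z) * x.1 * (S.z * S.z)⁻¹ by group, hz2, inv_one,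
        mul_one, one_mul])
    have hcard : Nat.card X = Nat.card T.O := Nat.card_congr
      { toFun := fun x => ⟨x.1 * T.h⁻¹, x.2⟩
        invFun := fun o => ⟨o.1 * T.h, by rw [mul_inv_cancel_right]; exact o.2⟩
        left_inv := fun x => Subtype.ext (by simp)
        right_inv := fun o => Subtype.ext (by simp) }
    have hodd : Odd (Fintype.card X) := by rw [← Nat.card_eq_fintype_card, hcard]; exact T.O_odd
    obtain ⟨x, hx⟩ := Equiv.Perm.exists_fixed_point_of_prime (p := 2) (n := 1) (σ := hinv.toPerm f)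
      hodd.not_two_dvd_nat (by rw [pow_one]; exact Equiv.ext fun x => by rw [sq, Equiv.Perm.mul_apply]; exact hinv x)
    exact hcon x hx
  obtain ⟨x, hx⟩ := hfix
  have hxz : Commute S.z x.1 := mul_inv_eq_iff_eq_mul.1 (congrArg Subtype.val hx)
  obtain ⟨m, hm⟩ := T.O_odd
  obtain ⟨k, hkdef⟩ : ∃ k : G, k = x.1 ^ (2 * m + 1) := ⟨_, rfl⟩
  have hxp : ∀ n : ℕ, x.1 ^ n * (T.h ^ n)⁻¹ ∈ T.O := fun n => by
    induction n with
    | zero => simp
    | succ n ih =>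
      rw [show x.1 ^ (n + 1) * (T.h ^ (n + 1))⁻¹ =
        x.1 ^ n * (T.h ^ n)⁻¹ * (T.h ^ n * (x.1 * T.h⁻¹) * (T.h ^ n)⁻¹) by rw [pow_succ, pow_succ]; group]
      exact mul_mem ih (T.O_normal' (pow_mem T.h_mem _) x.2)
  have hOpow : ∀ o ∈ T.O, o ^ (2 * m + 1) = 1 := fun o ho => by
    have := orderOf_dvd_iff_pow_eq_one.1 (Subgroup.orderOf_dvd_natCard T.O ho)
    rwa [hm] at this
  have hk1 : k ^ 2 ^ T.r = 1 := by
    rw [hkdef, ← pow_mul, mul_comm, pow_mul]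
    refine hOpow _ ?_
    have h' := hxp (2 ^ T.r)
    rwa [T.h_pow, inv_one, mul_one] at h'
  have hk2 : k ^ 2 ^ (T.r - 1) = T.z := by
    rw [hkdef, ← pow_mul, mul_comm, pow_mul]
    have h' := hxp (2 ^ (T.r - 1))
    rw [T.h_half] at h'
    have hcm : Commute (x.1 ^ 2 ^ (T.r - 1) * (T.e zW)⁻¹) (T.e zW) := T.z_cent (T.O_le h')
    have e := hcm.mul_pow (2 * m + 1)
    rw [inv_mul_cancel_right, hOpow _ h', one_mul] at e
    rw [e, pow_succ, pow_mul, sq]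
    show (T.z * T.z) ^ m * T.z = T.z
    rw [T.z_sq, one_pow, one_mul]
  have hr2 : 2 ≤ T.r := by
    by_contra hcon
    have hr1 : T.r = 1 := by have := T.rpos; omega
    have h' := T.pow_mem_O hc'
    rw [hr1, pow_one, sq, hc2'] at h'
    exact T.z_notin h'
  have hkz : k * S.z = S.z * k := by rw [hkdef]; exact (hxz.pow_right _).symm.eq
  obtain ⟨w, hw⟩ := S.exists_acts hkz
  have hA := (hw.pow (2 ^ (T.r - 1)))
  rw [hk2] at hA
  have hA' : S.Acts T.z (v : W) := by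
    have e := (acts_e v).mul (acts_cent hc)
    rw [mul_one, ← hu] at e
    rw [hT, moved_z]
    exact e
  have hneg : ∀ a : W, (a : Equiv.Perm (Fin 240)) = (v : W) ∨ (a : Equiv.Perm (Fin 240)) = negW * (v : W) →
      ((a * a : W) : Equiv.Perm (Fin 240)) = negW := by
    intro a ha
    have hvv : ((v : W) : Equiv.Perm (Fin 240)) * ((v : W) : Equiv.Perm (Fin 240)) = negW :=
      congrArg (fun x : W1 => ((x : W) : Equiv.Perm (Fin 240))) hv
    rw [Subgroup.coe_mul]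
    rcases ha with e | e <;> rw [e]
    · exact hvv
    · have hc : negW * ((v : W) : Equiv.Perm (Fin 240)) = ((v : W) : Equiv.Perm (Fin 240)) * negW :=
        Equiv.ext fun y => by simp [negP_map (v : W).2]
      rw [hc, mul_assoc, ← mul_assoc negW, hc, mul_assoc _ negW negW, negW_sq, mul_one, hvv]
  have hwpow := hneg _ (hA.unique hA')
  rw [← pow_add, ← two_mul, ← pow_succ', Nat.sub_add_cancel T.rpos] at hwpow
  have hw8 : w ^ 8 = 1 := pow_eight (n := T.r + 1) (Subtype.ext (by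
    rw [pow_succ, pow_mul, sq, Subgroup.coe_mul, hwpow, negW_sq]; rfl))
  rcases (show T.r = 2 ∨ 3 ≤ T.r by omega) with hr | hr
  · rw [hr] at hwpow hk1
    have hw1 : w ∈ W1 := mem_W1_of_pow_eq_neg 4 hwpow
    set c1 := (S.e ⟨w, hw1⟩)⁻¹ * k with hc1
    have hcc : c1 ∈ S.cent := Acts.cent_of_one (v := ⟨w, hw1⟩) hw
    have hk4 : S.e (⟨w, hw1⟩ ^ 4) * c1 ^ 4 = 1 := by
      rw [map_pow, ← (show Commute (S.e ⟨w, hw1⟩) c1 from (S.mem_cent.1 hcc _).symm).mul_pow, hc1, mul_inv_cancel_left]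
      exact hk1
    have hz4 : (⟨w, hw1⟩ : W1) ^ 4 = zW := Subtype.ext (Subtype.ext hwpow)
    rw [hz4] at hk4
    have hO := S.pow_mem_O hcc
    rw [show S.r = T.r from rfl, hr, show (2 ^ 2 : ℕ) = 4 from rfl, eq_inv_of_mul_eq_one_right hk4,
      inv_mem_iff] at hO
    exact S.z_notin hO
  · obtain ⟨j, hj⟩ := pow_dvd_pow 2 hr
    rw [hj, pow_mul, show (2 : ℕ) ^ 3 = 8 from rfl, hw8, one_pow, Subgroup.coe_one] at hwpow
    exact negW_ne_one hwpow.symm

end Ctx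

end Cfsg.Agent.StdO8
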