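import Cfsg.Agent.StdO8.Chart

/-!
The matrices of the symmetries of the root system, their traces and determinants, and the joint
eigenspaces of commuting involutive matrices.
-/

set_option autoImplicit false
set_option maxHeartbeats 1000000
set_option linter.unusedSectionVars false

namespace Cfsg.Agent.StdO8

open Matrix

/-- The matrix of a symmetry in the frame. -/
noncomputable def mat (g : Equiv.Perm (Fin 240)) : Matrix (Fin 8) (Fin 8) ℚ :=
  Matrix.of fun i j => (co (g (ev j)) i : ℚ) / 2

/-- The vector of a root. -/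
noncomputable def vec (x : Fin 240) : Fin 8 → ℚ := fun i => (co x i : ℚ)

theorem mat_mulVec {g : Equiv.Perm (Fin 240)} (hg : g ∈ W) (x : Fin 240) : mat g *ᵥ vec x = vec (g x) := by
  funext i
  have h : ((2 * co (g x) i : ℤ) : ℚ) = ((∑ j, co x j * co (g (ev j)) i : ℤ) : ℚ) := congrArg _ (co_map hg x i)
  push_cast at h
  simp only [mulVec, dotProduct, mat, vec, Matrix.of_apply]
  rw [show (co (g x) i : ℚ) = (∑ j, (co x j : ℚ) * (co (g (ev j)) i : ℚ)) / 2 from by rw [← h]; ring,
    Finset.sum_div]
  exact Finset.sum_congr rfl fun j _ => by ring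

theorem mat_one : mat 1 = 1 := by
  ext i j
  simp only [mat, Matrix.of_apply, Equiv.Perm.one_apply, co_ev, Matrix.one_apply]
  by_cases h : j = i
  · subst h; simp
  · rw [if_neg h, if_neg (Ne.symm h)]; simp

theorem mat_mul {g f : Equiv.Perm (Fin 240)} (hg : g ∈ W) : mat (g * f) = mat g * mat f := by
  ext i j
  have h := congrFun (mat_mulVec hg (f (ev j))) i
  simp only [mulVec, dotProduct, vec] at h
  simp only [Matrix.mul_apply, mat, Matrix.of_apply, Equiv.Perm.mul_apply]
  rw [← h, Finset.sum_div]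
  exact Finset.sum_congr rfl fun k _ => by simp only [mat, Matrix.of_apply]; ring

/-- The matrices as a representation. -/
noncomputable def rho : W →* Matrix (Fin 8) (Fin 8) ℚ where
  toFun g := mat g
  map_one' := mat_one
  map_mul' g _ := mat_mul g.2

theorem rho_injective : Function.Injective rho := fun g f h => Subtype.ext (W_ext g.2 f.2 fun j =>
  co_injective (funext fun i => by
    have h1 := congrFun (congrFun h i) j
    simp only [rho, MonoidHom.coe_mk, OneHom.coe_mk, mat, Matrix.of_apply] at h1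
    have : ((co ((g : Equiv.Perm (Fin 240)) (ev j)) i : ℤ) : ℚ) = ((co ((f : Equiv.Perm (Fin 240)) (ev j)) i : ℤ) : ℚ) := by
      linarith
    exact_mod_cast this))

theorem mat_refl (a : Fin 120) :
    mat (refl a) = 1 - (1 / 2 : ℚ) • vecMulVec (vec (rt a)) (vec (rt a)) := by
  ext i j
  simp only [mat, Matrix.of_apply, refl_apply, co_reflP, co_ev, Matrix.sub_apply, Matrix.smul_apply,
    vecMulVec_apply, vec, Matrix.one_apply, smul_eq_mul, ip_comm (ev j), ip_ev]
  by_cases h : j = i
  · subst h; simp only [if_pos rfl]; push_cast; ring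
  · rw [if_neg h, if_neg (Ne.symm h)]; push_cast; ring

theorem mat_negW : mat negW = -1 := by
  ext i j
  simp only [mat, Matrix.of_apply, negW_apply, co_negP, co_ev, Matrix.neg_apply, Matrix.one_apply]
  by_cases h : j = i
  · subst h; simp
  · rw [if_neg h, if_neg (Ne.symm h)]; simp

theorem vec_dot (x y : Fin 240) : vec x ⬝ᵥ vec y = 2 * (ip x y : ℚ) := by
  simp only [dotProduct, vec]
  exact_mod_cast (ip_sum x y).symm

theorem vecMulVec_mul (x y : Fin 240) :
    vecMulVec (vec x) (vec x) * vecMulVec (vec y) (vec y) =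
      (2 * (ip x y : ℚ)) • vecMulVec (vec x) (vec y) := by
  ext i j
  simp only [Matrix.mul_apply, vecMulVec_apply, Matrix.smul_apply, smul_eq_mul, ← vec_dot, dotProduct,
    Finset.sum_mul]
  exact Finset.sum_congr rfl fun k _ => by ring

theorem trace_vecMulVec_self (x : Fin 240) : Matrix.trace (vecMulVec (vec x) (vec x)) = 4 := by
  have h := vec_dot x x
  rw [ip_self] at h
  simp only [dotProduct] at h
  simp only [Matrix.trace, Matrix.diag, vecMulVec_apply]
  rw [h]; norm_num

/-- The product of reflections in pairwise orthogonal lines. -/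
noncomputable def rprod (l : List (Fin 240)) : Equiv.Perm (Fin 240) := (l.map fun x => refl (ln x)).prod

theorem rprod_mem (l : List (Fin 240)) : rprod l ∈ W :=
  list_prod_mem fun g hg => by
    obtain ⟨a, -, rfl⟩ := List.mem_map.1 hg
    exact refl_mem _

theorem rprod_cons (x : Fin 240) (l : List (Fin 240)) : rprod (x :: l) = refl (ln x) * rprod l := by
  simp [rprod]

/-- The sum of the projections of a list of roots. -/
noncomputable def psum : List (Fin 240) → Matrix (Fin 8) (Fin 8) ℚ
  | [] => 0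
  | x :: l => (1 / 2 : ℚ) • vecMulVec (vec x) (vec x) + psum l

theorem vecMulVec_ln (x : Fin 240) :
    vecMulVec (vec (rt (ln x))) (vec (rt (ln x))) = vecMulVec (vec x) (vec x) := by
  rcases ln_eq (ln_rt (ln x)) with h | h <;> rw [h]
  ext i j
  simp [vecMulVec_apply, vec, co_negP]

theorem mul_psum (x : Fin 240) : ∀ l : List (Fin 240), (∀ y ∈ l, ip x y = 0) →
    vecMulVec (vec x) (vec x) * psum l = 0
  | [], _ => by simp [psum]
  | y :: l, h => by
    rw [psum, mul_add, mul_smul_comm, vecMulVec_mul, h y (by simp),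
      mul_psum x l fun z hz => h z (by simp [hz])]
    simp

theorem mat_rprod : ∀ l : List (Fin 240), l.Pairwise (fun x y => ip x y = 0) → mat (rprod l) = 1 - psum l
  | [], _ => by simp [rprod, psum, mat_one]
  | x :: l, h => by
    obtain ⟨h1, h2⟩ := List.pairwise_cons.1 h
    rw [rprod_cons, mat_mul (refl_mem _), mat_rprod l h2, mat_refl, vecMulVec_ln, psum, sub_mul, one_mul,
      smul_mul_assoc, mul_sub, mul_one, mul_psum x l h1, sub_zero]
    abel

theorem trace_psum : ∀ l : List (Fin 240), Matrix.trace (psum l) = 2 * (l.length : ℚ)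
  | [] => by simp [psum]
  | x :: l => by
    rw [psum, Matrix.trace_add, Matrix.trace_smul, trace_vecMulVec_self, trace_psum l, List.length_cons]
    push_cast
    simp only [smul_eq_mul]
    ring

theorem trace_rprod {l : List (Fin 240)} (h : l.Pairwise fun x y => ip x y = 0) :
    Matrix.trace (mat (rprod l)) = 8 - 2 * (l.length : ℚ) := by
  rw [mat_rprod l h, Matrix.trace_sub, trace_psum, Matrix.trace_one]
  simp

theorem trace_conj {g w : Equiv.Perm (Fin 240)} (hg : g ∈ W) (hw : w ∈ W) :
    Matrix.trace (mat (g * w * g⁻¹)) = Matrix.trace (mat w) := by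
  rw [mat_mul (mul_mem hg hw), mat_mul hg, Matrix.trace_mul_cycle, ← mat_mul (inv_mem hg), inv_mul_cancel,
    mat_one, one_mul]

/-- The determinant. -/
noncomputable def detW : W →* ℚ := Matrix.detMonoidHom.comp rho

theorem detW_apply (g : W) : detW g = (mat g).det := by
  simp only [detW, rho, MonoidHom.comp_apply, Matrix.coe_detMonoidHom, MonoidHom.coe_mk, OneHom.coe_mk]

theorem det_refl0 : (mat (refl (ax 0))).det = -1 := by
  have h : mat (refl (ax 0)) = Matrix.diagonal fun i => if i = 0 then -1 else 1 := by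
    ext i j
    rw [mat_refl, Matrix.sub_apply, Matrix.smul_apply, vecMulVec_apply, Matrix.diagonal_apply, Matrix.one_apply,
      rt_ax]
    simp only [vec, co_ev, smul_eq_mul]
    by_cases h : i = j
    · subst h
      by_cases h0 : i = 0
      · subst h0; simp; norm_num
      · rw [if_neg (Ne.symm h0)]; simp [h0]
    · simp only [if_neg h]
      by_cases h0 : i = 0
      · subst h0; rw [if_neg h]; simp
      · rw [if_neg (Ne.symm h0)]; simp
  rw [h, Matrix.det_diagonal]
  simp

theorem det_refl (a : Fin 120) : (mat (refl a)).det = -1 := by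
  obtain ⟨p, -, -, h, -⟩ := exists_step 0 a (fun j hj => absurd hj (by simp)) (by simp)
  have hc := refl_conj (evalW_mem p.2) a
  rw [h, tgt_eq.1] at hc
  rw [← det_refl0, ← hc, mat_mul (mul_mem (evalW_mem _) (refl_mem a)), mat_mul (evalW_mem _), Matrix.det_mul,
    Matrix.det_mul, mul_comm (mat (evalW p.2)).det, mul_assoc, ← Matrix.det_mul, ← mat_mul (evalW_mem _),
    mul_inv_cancel, mat_one, Matrix.det_one, mul_one]

theorem det_rprod : ∀ l : List (Fin 240), (mat (rprod l)).det = (-1) ^ l.length
  | [] => by simp [rprod, mat_one]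
  | x :: l => by
    rw [rprod_cons, mat_mul (refl_mem _), Matrix.det_mul, det_refl, det_rprod l, List.length_cons, pow_succ]
    ring

/-- The rank of an idempotent. -/
noncomputable def rk (P : Matrix (Fin 8) (Fin 8) ℚ) : ℕ := Module.finrank ℚ (LinearMap.range (Matrix.toLin' P))

theorem trace_idem {P : Matrix (Fin 8) (Fin 8) ℚ} (h : P * P = P) : Matrix.trace P = rk P := by
  have hp : LinearMap.IsProj (LinearMap.range (Matrix.toLin' P)) (Matrix.toLin' P) :=
    ⟨fun x => LinearMap.mem_range_self _ x, fun x hx => by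
      obtain ⟨y, rfl⟩ := hx
      rw [← LinearMap.comp_apply, ← Matrix.toLin'_mul, h]⟩
  rw [← Matrix.trace_toLin'_eq, hp.trace, rk]

theorem rk_pos {P : Matrix (Fin 8) (Fin 8) ℚ} (h0 : P ≠ 0) : 0 < rk P := by
  rw [rk, Module.finrank_pos_iff_exists_ne_zero]
  by_contra hcon
  push Not at hcon
  refine h0 ?_
  have : Matrix.toLin' P = 0 := LinearMap.ext fun x =>
    congrArg Subtype.val (hcon ⟨_, LinearMap.mem_range_self _ x⟩)
  exact Matrix.toLin'.map_eq_zero_iff.1 this

/-- A matrix commuting with a projection of rank one acts on it as a scalar. -/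
theorem scalar_of_rank_one {P N : Matrix (Fin 8) (Fin 8) ℚ} (h : rk P = 1) (hc : N * P = P * N) :
    ∃ c : ℚ, N * P = c • P := by
  obtain ⟨⟨v, hv⟩, hv0, hspan⟩ := finrank_eq_one_iff'.1 (h : Module.finrank ℚ _ = 1)
  obtain ⟨y, hy⟩ := hv
  have hN : Matrix.toLin' N v ∈ LinearMap.range (Matrix.toLin' P) := by
    rw [← hy, ← LinearMap.comp_apply, ← Matrix.toLin'_mul, hc, Matrix.toLin'_mul, LinearMap.comp_apply]
    exact LinearMap.mem_range_self _ _
  obtain ⟨c, hc'⟩ := hspan ⟨_, hN⟩
  refine ⟨c, Matrix.toLin'.injective (LinearMap.ext fun u => ?_)⟩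
  obtain ⟨d, hd⟩ := hspan ⟨_, LinearMap.mem_range_self (Matrix.toLin' P) u⟩
  have e1 : c • v = Matrix.toLin' N v := congrArg Subtype.val hc'
  have e2 : d • v = Matrix.toLin' P u := congrArg Subtype.val hd
  rw [Matrix.toLin'_mul, LinearMap.comp_apply, map_smul, LinearMap.smul_apply, ← e2, map_smul, ← e1, smul_comm]

/-- The joint eigenspaces of commuting involutive matrices. -/
structure Split {E : Type*} (χ : E → Matrix (Fin 8) (Fin 8) ℚ) where
  /-- the eigenspaces -/
  ι : Type
  [fin : Fintype ι]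
  /-- the projections -/
  P : ι → Matrix (Fin 8) (Fin 8) ℚ
  idem : ∀ i, P i * P i = P i
  orth : ∀ i j, i ≠ j → P i * P j = 0
  ne : ∀ i, P i ≠ 0
  sum : ∑ i, P i = 1
  comm : ∀ N, (∀ e, N * χ e = χ e * N) → ∀ i, N * P i = P i * N
  val : ∀ e i, χ e * P i = P i ∨ χ e * P i = -P i

attribute [instance] Split.fin

theorem exists_split {E : Type*} [Fintype E] (χ : E → Matrix (Fin 8) (Fin 8) ℚ)
    (hsq : ∀ e, χ e * χ e = 1) (hcomm : ∀ e f, χ e * χ f = χ f * χ e) : Nonempty (Split χ) := by
  classical
  suffices ∀ l : List E, ∃ (ι : Type) (_ : Fintype ι) (P : ι → Matrix (Fin 8) (Fin 8) ℚ),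
      (∀ i, P i * P i = P i) ∧ (∀ i j, i ≠ j → P i * P j = 0) ∧ (∀ i, P i ≠ 0) ∧ ∑ i, P i = 1 ∧
      (∀ N, (∀ e, N * χ e = χ e * N) → ∀ i, N * P i = P i * N) ∧
      ∀ e ∈ l, ∀ i, χ e * P i = P i ∨ χ e * P i = -P i by
    obtain ⟨ι, _, P, h1, h2, h3, h4, h5, h6⟩ := this Finset.univ.toList
    exact ⟨⟨ι, P, h1, h2, h3, h4, h5, fun e i => h6 e (by simp) i⟩⟩
  intro l
  induction l with
  | nil =>
    refine ⟨Unit, inferInstance, fun _ => 1, fun _ => one_mul _, fun i j h => absurd (Subsingleton.elim i j) h,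
      fun _ => one_ne_zero, by simp, fun N _ _ => by simp, by simp⟩
  | cons a l ih =>
    obtain ⟨ι, _, P, h1, h2, h3, h4, h5, h6⟩ := ih
    set s : Bool → ℚ := fun b => cond b (-1) 1
    let Q : ι × Bool → Matrix (Fin 8) (Fin 8) ℚ := fun x => (1 / 2 : ℚ) • (P x.1 + s x.2 • (χ a * P x.1))
    have hca : ∀ i, χ a * P i = P i * χ a := fun i => h5 _ (fun e => hcomm a e) i
    have hmul : ∀ i j, P i * (χ a * P j) = χ a * (P i * P j) := fun i j => by
      rw [← mul_assoc, ← hca, mul_assoc]
    have hQQ : ∀ x y, Q x * Q y = (1 / 4 : ℚ) •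
        ((1 + s x.2 * s y.2) • (P x.1 * P y.1) + (s x.2 + s y.2) • (χ a * (P x.1 * P y.1))) := by
      intro x y
      have e1 : χ a * P x.1 * P y.1 = χ a * (P x.1 * P y.1) := mul_assoc _ _ _
      have e2 : χ a * P x.1 * (χ a * P y.1) = P x.1 * P y.1 := by
        rw [mul_assoc, hmul, ← mul_assoc, hsq, one_mul]
      simp only [Q, smul_mul_assoc, mul_smul_comm, add_mul, mul_add, smul_add, smul_smul, e1, e2, hmul]
      module
    let κ := {x : ι × Bool // Q x ≠ 0}
    have hidem : ∀ x, Q x * Q x = Q x := fun x => by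
      rw [hQQ, h1]
      simp only [Q]
      cases x.2 <;> simp only [s, cond_true, cond_false] <;> module
    have horth : ∀ x y, x ≠ y → Q x * Q y = 0 := fun x y hxy => by
      rw [hQQ]
      by_cases e : x.1 = y.1
      · have : s x.2 * s y.2 = -1 ∧ s x.2 + s y.2 = 0 := by
          rcases hx : x.2 <;> rcases hy : y.2
          · exact absurd (Prod.ext e (hx.trans hy.symm)) hxy
          · simp [s]
          · simp [s]
          · exact absurd (Prod.ext e (hx.trans hy.symm)) hxy
        rw [this.1, this.2]; simp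
      · rw [h2 _ _ e]; simp
    have hsum : ∑ x : κ, Q x.1 = 1 := by
      rw [← h4, ← Finset.sum_subtype (Finset.univ.filter fun x => Q x ≠ 0) (by simp) Q, Finset.sum_filter_ne_zero,
        Fintype.sum_prod_type]
      refine Finset.sum_congr rfl fun i _ => ?_
      simp only [Fintype.sum_bool, Q, s, cond_true, cond_false]
      module
    refine ⟨κ, inferInstance, fun x => Q x.1, fun x => hidem _, fun x y h => horth _ _ fun e => h (Subtype.ext e),
      fun x => x.2, hsum, fun N hN x => ?_, fun e he x => ?_⟩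
    · simp only [Q, mul_smul_comm, smul_mul_assoc, mul_add, add_mul]
      rw [h5 N hN, ← mul_assoc, hN a, mul_assoc, h5 N hN, mul_assoc]
    · rcases List.mem_cons.1 he with rfl | he
      · have : χ e * Q x.1 = s x.1.2 • Q x.1 := by
          simp only [Q, mul_smul_comm, mul_add, ← mul_assoc, hsq, one_mul]
          cases x.1.2 <;> simp only [s, cond_true, cond_false] <;> module
        rw [this]
        cases x.1.2 <;> simp [s]
      · rcases h6 e he x.1.1 with h | h
        · left
          simp only [Q, mul_smul_comm, mul_add, ← mul_assoc, hcomm e a]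
          rw [mul_assoc, h]
        · right
          simp only [Q, mul_smul_comm, mul_add, ← mul_assoc, hcomm e a]
          rw [mul_assoc, h]
          simp only [mul_neg, smul_add, smul_neg, neg_add]

namespace Split

variable {E : Type*} {χ : E → Matrix (Fin 8) (Fin 8) ℚ} (S : Split χ)

/-- The sign on an eigenspace. -/
noncomputable def sgn (e : E) (i : S.ι) : Bool := @decide (χ e * S.P i = -S.P i) (Classical.dec _)

theorem act (e : E) (i : S.ι) : χ e * S.P i = (cond (S.sgn e i) (-1 : ℚ) 1) • S.P i := by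
  by_cases h : χ e * S.P i = -S.P i
  · rw [show S.sgn e i = true by simp [sgn, h]]; simp [h]
  · rw [show S.sgn e i = false by simp [sgn, h]]
    rcases S.val e i with h' | h'
    · simp [h']
    · exact absurd h' h

theorem eq_sum (e : E) : χ e = ∑ i, (cond (S.sgn e i) (-1 : ℚ) 1) • S.P i := by
  conv_lhs => rw [← mul_one (χ e), ← S.sum, Finset.mul_sum]
  exact Finset.sum_congr rfl fun i _ => S.act e i

theorem sgn_injective (hinj : Function.Injective χ) : Function.Injective S.sgn := fun e f h =>
  hinj (by rw [S.eq_sum, S.eq_sum, h])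

theorem trace_eq (e : E) : Matrix.trace (χ e) = ∑ i, (cond (S.sgn e i) (-1 : ℚ) 1) * (rk (S.P i) : ℚ) := by
  rw [S.eq_sum, Matrix.trace_sum]
  exact Finset.sum_congr rfl fun i _ => by rw [Matrix.trace_smul, trace_idem (S.idem i), smul_eq_mul]

theorem rk_sum : ∑ i, rk (S.P i) = 8 := by
  have h := congrArg Matrix.trace S.sum
  rw [Matrix.trace_sum, Finset.sum_congr rfl fun i _ => trace_idem (S.idem i), Matrix.trace_one] at h
  have h' : ((∑ i, rk (S.P i) : ℕ) : ℚ) = ((8 : ℕ) : ℚ) := by push_cast; simpa using h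
  exact_mod_cast h'

theorem card_le : Fintype.card S.ι ≤ 8 := by
  rw [← S.rk_sum, ← Finset.card_univ, Finset.card_eq_sum_ones]
  exact Finset.sum_le_sum fun i _ => rk_pos (S.ne i)

theorem card_E_le (hinj : Function.Injective χ) : Nat.card E ≤ 2 ^ Fintype.card S.ι := by
  refine (Nat.card_le_card_of_injective _ (S.sgn_injective hinj)).trans_eq ?_
  rw [Nat.card_fun, Nat.card_eq_fintype_card, Nat.card_eq_fintype_card, Fintype.card_bool]

theorem rk_one (h : Fintype.card S.ι = 8) (i : S.ι) : rk (S.P i) = 1 := by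
  by_contra hne
  have hlt : ∑ _j : S.ι, 1 < ∑ j, rk (S.P j) :=
    Finset.sum_lt_sum (fun j _ => rk_pos (S.ne j)) ⟨i, Finset.mem_univ _, by have := rk_pos (S.ne i); omega⟩
  rw [S.rk_sum, ← Finset.card_eq_sum_ones, Finset.card_univ, h] at hlt
  omega

end Split

end Cfsg.Agent.StdO8
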