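import Cfsg.Agent.StdO8.Data

/-!
The root system of type E8 on 240 labels: coordinates in a frame, inner products, the group of its
symmetries and the reflections.
-/

set_option autoImplicit false
set_option maxRecDepth 100000
set_option maxHeartbeats 1000000
set_option linter.unusedSectionVars false

namespace Cfsg.Agent.StdO8

open Cfsg.Agent.Compute

/-- The coded inner product. -/
noncomputable def ipN (x y : ℕ) : ℕ := getField 3 (getField 720 ipCode x) y

/-- A coded coordinate. -/
noncomputable def coN (x i : ℕ) : ℕ := getField 3 (getField 24 coCode x) i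

/-- A sum over the eight axes. -/
noncomputable def sum8 (f : ℕ → ℕ) : ℕ :=
  Nat.add (Nat.add (Nat.add (f 0) (f 1)) (Nat.add (f 2) (f 3)))
    (Nat.add (Nat.add (f 4) (f 5)) (Nat.add (f 6) (f 7)))

/-- The negative of a label. -/
noncomputable def negN (x : ℕ) : ℕ := cond (Nat.beq (Nat.mod x 2) 0) (Nat.add x 1) (Nat.sub x 1)

/-- The image of a label under a reflection. -/
noncomputable def reflN (a x : ℕ) : ℕ := getField 8 (reflCodes.getD a 0) x

theorem ip_sum_chk : (allBelow 240 fun x => allBelow 240 fun y =>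
    Nat.beq (Nat.add (Nat.mul 2 (ipN x y)) (Nat.mul 2 (Nat.add (sum8 (coN x)) (sum8 (coN y)))))
      (Nat.add (sum8 fun i => Nat.mul (coN x i) (coN y i)) 36)) = true := by decide +kernel

theorem ip_self_chk : (allBelow 240 fun x => allBelow 240 fun y =>
    Nat.beq x y || !(Nat.beq (ipN x y) 4)) = true := by decide +kernel

theorem ip_diag_chk : (allBelow 240 fun x => Nat.beq (ipN x x) 4) = true := by decide +kernel

theorem frame_chk : (allBelow 240 fun x => allBelow 8 fun i =>
    Nat.beq (ipN x (Nat.mul 2 i)) (coN x i)) = true := by decide +kernel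

theorem neg_chk : (allBelow 240 fun x => Nat.blt (negN x) 240 && Nat.beq (Nat.div (negN x) 2) (Nat.div x 2) &&
    allBelow 8 fun i => Nat.beq (Nat.add (coN (negN x) i) (coN x i)) 4) = true := by decide +kernel

theorem refl_chk : (allBelow 120 fun a => allBelow 240 fun x => Nat.blt (reflN a x) 240 &&
    allBelow 8 fun i => Nat.beq
      (Nat.add (Nat.add (coN (reflN a x) i) (Nat.mul (ipN x (Nat.mul 2 a)) (coN (Nat.mul 2 a) i))) 4)
      (Nat.add (coN x i) (Nat.mul 2 (Nat.add (ipN x (Nat.mul 2 a)) (coN (Nat.mul 2 a) i))))) = true := by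
  decide +kernel

attribute [local irreducible] coN ipN reflN

/-- The inner product of two roots. -/
noncomputable def ip (x y : Fin 240) : ℤ := (ipN x y : ℤ) - 2

/-- The coordinates of a root in the frame. -/
noncomputable def co (x : Fin 240) (i : Fin 8) : ℤ := (coN x i : ℤ) - 2

/-- The roots of the frame. -/
def ev (i : Fin 8) : Fin 240 := ⟨2 * (i : ℕ), by omega⟩

/-- The first root of a line. -/
def rt (a : Fin 120) : Fin 240 := ⟨2 * (a : ℕ), by omega⟩

/-- The line of a root. -/
def ln (x : Fin 240) : Fin 120 := ⟨(x : ℕ) / 2, by omega⟩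

theorem ip_sum (x y : Fin 240) : 2 * ip x y = ∑ i, co x i * co y i := by
  have h : _ = _ := Nat.eq_of_beq_eq_true (allBelow_eq_true.1 (allBelow_eq_true.1 ip_sum_chk x x.2) y y.2)
  simp only [sum8, Nat.add_eq, Nat.mul_eq] at h
  simp only [Fin.sum_univ_eight, ip, co]
  zify at h
  norm_num
  ring_nf
  ring_nf at h
  linarith

theorem ip_eq_two {x y : Fin 240} (h : ip x y = 2) : x = y := by
  have hc := allBelow_eq_true.1 (allBelow_eq_true.1 ip_self_chk x x.2) y y.2
  rw [Bool.or_eq_true] at hc
  rcases hc with hc | hc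
  · exact Fin.ext (Nat.eq_of_beq_eq_true hc)
  · exfalso
    rw [ip] at h
    have h4 : ipN x y = 4 := by omega
    rw [h4] at hc
    simp at hc

theorem ip_self (x : Fin 240) : ip x x = 2 := by
  rw [ip, Nat.eq_of_beq_eq_true (allBelow_eq_true.1 ip_diag_chk x x.2)]; norm_num

theorem ip_comm (x y : Fin 240) : ip x y = ip y x := by
  have h1 := ip_sum x y
  have h2 := ip_sum y x
  rw [Finset.sum_congr rfl fun i _ => mul_comm (co y i) (co x i)] at h2
  omega

theorem ip_ev (x : Fin 240) (i : Fin 8) : ip x (ev i) = co x i := by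
  have h := Nat.eq_of_beq_eq_true (allBelow_eq_true.1 (allBelow_eq_true.1 frame_chk x x.2) i i.2)
  rw [Nat.mul_eq] at h
  rw [ip, co, show ((ev i : Fin 240) : ℕ) = 2 * (i : ℕ) from rfl, h]

theorem ev_injective : Function.Injective ev := fun i j h => by
  have := congrArg Fin.val h
  simp only [ev] at this
  exact Fin.ext (by omega)

theorem co_ev (i j : Fin 8) : co (ev i) j = if i = j then 2 else 0 := by
  rw [← ip_ev]
  revert i j
  have h : (allBelow 8 fun i => allBelow 8 fun j =>
      Nat.beq (ipN (Nat.mul 2 i) (Nat.mul 2 j)) (cond (Nat.beq i j) 4 2)) = true := by decide +kernel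
  intro i j
  have h' := Nat.eq_of_beq_eq_true (allBelow_eq_true.1 (allBelow_eq_true.1 h i i.2) j j.2)
  simp only [Nat.mul_eq] at h'
  rw [ip, show ((ev i : Fin 240) : ℕ) = 2 * (i : ℕ) from rfl, show ((ev j : Fin 240) : ℕ) = 2 * (j : ℕ) from rfl, h']
  by_cases e : i = j
  · subst e; simp
  · rw [if_neg e, show Nat.beq i j = false from Bool.eq_false_iff.2 fun hb => e (Fin.ext (Nat.eq_of_beq_eq_true hb))]; rfl

theorem co_injective : Function.Injective co := fun x y h => by
  refine ip_eq_two ?_
  have h1 := ip_sum x y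
  rw [h, ← ip_sum, ip_self] at h1
  omega

/-- The negative of a root. -/
noncomputable def negP (x : Fin 240) : Fin 240 :=
  ⟨negN x, by
    have := allBelow_eq_true.1 neg_chk x x.2
    simp only [Bool.and_eq_true, Nat.blt_eq] at this
    exact this.1.1⟩

theorem co_negP (x : Fin 240) (i : Fin 8) : co (negP x) i = -co x i := by
  have h := allBelow_eq_true.1 neg_chk x x.2
  simp only [Bool.and_eq_true, allBelow_eq_true] at h
  have := Nat.eq_of_beq_eq_true (h.2 i i.2)
  rw [Nat.add_eq] at this
  rw [co, co, show ((negP x : Fin 240) : ℕ) = negN x from rfl]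
  omega

theorem ln_negP (x : Fin 240) : ln (negP x) = ln x := by
  have h := allBelow_eq_true.1 neg_chk x x.2
  simp only [Bool.and_eq_true] at h
  exact Fin.ext (Nat.eq_of_beq_eq_true h.1.2)

theorem negP_negP (x : Fin 240) : negP (negP x) = x :=
  co_injective (funext fun i => by rw [co_negP, co_negP, neg_neg])

theorem negP_ne (x : Fin 240) : negP x ≠ x := fun h => by
  have h1 := ip_sum (negP x) x
  simp only [co_negP, neg_mul, Finset.sum_neg_distrib] at h1
  rw [← ip_sum, h, ip_self] at h1
  omega

theorem ip_negP_left (x y : Fin 240) : ip (negP x) y = -ip x y := by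
  have h1 := ip_sum (negP x) y
  simp only [co_negP, neg_mul, Finset.sum_neg_distrib] at h1
  rw [← ip_sum] at h1
  omega

theorem ip_negP_right (x y : Fin 240) : ip x (negP y) = -ip x y := by
  rw [ip_comm, ip_negP_left, ip_comm]

theorem ln_eq {x y : Fin 240} (h : ln x = ln y) : x = y ∨ x = negP y := by
  have h1 : (x : ℕ) / 2 = (y : ℕ) / 2 := congrArg Fin.val h
  have h2 : (allBelow 240 fun v => Nat.beq (negN v) (cond (Nat.beq (Nat.mod v 2) 0) (Nat.add v 1) (Nat.sub v 1))) = true := by
    decide +kernel
  have hv := Nat.eq_of_beq_eq_true (allBelow_eq_true.1 h2 y y.2)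
  simp only [Nat.mod, Nat.add_eq, Nat.sub_eq] at hv
  rcases eq_or_ne (x : ℕ) (y : ℕ) with e | e
  · exact .inl (Fin.ext e)
  · right
    apply Fin.ext
    show (x : ℕ) = negN y
    unfold negN
    rcases Nat.mod_two_eq_zero_or_one (y : ℕ) with hy | hy
    · rw [show Nat.mod (y : ℕ) 2 = 0 from hy]; simp only [Nat.beq_refl, cond_true, Nat.add_eq]; omega
    · rw [show Nat.mod (y : ℕ) 2 = 1 from hy]; simp only [Nat.sub_eq]
      show (x : ℕ) = (y : ℕ) - 1
      omega

theorem ln_rt (a : Fin 120) : ln (rt a) = a := Fin.ext (by simp [ln, rt])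

theorem app_inv {α : Type*} (g : Equiv.Perm α) (x : α) : g (g⁻¹ x) = x := g.apply_symm_apply x

/-- The symmetries of the root system. -/
def W : Subgroup (Equiv.Perm (Fin 240)) where
  carrier := {g | ∀ x y, ip (g x) (g y) = ip x y}
  one_mem' := fun _ _ => rfl
  mul_mem' := fun {f g} hf hg x y => (hf (g x) (g y)).trans (hg x y)
  inv_mem' := fun {g} hg x y => by
    have := (hg (g⁻¹ x) (g⁻¹ y)).symm
    simp only [app_inv] at this
    exact this

theorem mem_W {g : Equiv.Perm (Fin 240)} : g ∈ W ↔ ∀ x y, ip (g x) (g y) = ip x y := Iff.rfl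

theorem ip_map_inv {g : Equiv.Perm (Fin 240)} (hg : g ∈ W) (x y : Fin 240) : ip (g x) y = ip x (g⁻¹ y) := by
  rw [← hg x (g⁻¹ y), app_inv]

/-- Symmetries are linear in the coordinates. -/
theorem co_map {g : Equiv.Perm (Fin 240)} (hg : g ∈ W) (x : Fin 240) (i : Fin 8) :
    2 * co (g x) i = ∑ j, co x j * co (g (ev j)) i := by
  rw [← ip_ev (g x) i, ip_map_inv hg, ip_sum]
  refine Finset.sum_congr rfl fun j _ => ?_
  rw [← ip_ev (g⁻¹ (ev i)) j, ← hg, app_inv, ip_comm, ip_ev]

theorem W_ext {g f : Equiv.Perm (Fin 240)} (hg : g ∈ W) (hf : f ∈ W) (h : ∀ j, g (ev j) = f (ev j)) : g = f :=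
  Equiv.ext fun x => co_injective (funext fun i => by
    have h1 := co_map hg x i
    simp only [h] at h1
    rw [← co_map hf] at h1
    omega)

theorem negP_map {g : Equiv.Perm (Fin 240)} (hg : g ∈ W) (x : Fin 240) : g (negP x) = negP (g x) :=
  co_injective (funext fun i => by
    have h1 := co_map hg (negP x) i
    simp only [co_negP, neg_mul, Finset.sum_neg_distrib] at h1
    rw [← co_map hg] at h1
    rw [co_negP]; omega)

theorem ln_map {g : Equiv.Perm (Fin 240)} (hg : g ∈ W) {x y : Fin 240} (h : ln x = ln y) : ln (g x) = ln (g y) := by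
  rcases ln_eq h with rfl | rfl
  · rfl
  · rw [negP_map hg, ln_negP]

/-- The central symmetry. -/
noncomputable def negW : Equiv.Perm (Fin 240) := Function.Involutive.toPerm negP negP_negP

@[simp] theorem negW_apply (x : Fin 240) : negW x = negP x := rfl

theorem negW_mem : negW ∈ W := fun x y => by rw [negW_apply, negW_apply, ip_negP_left, ip_negP_right, neg_neg]

theorem negW_comm {g : Equiv.Perm (Fin 240)} (hg : g ∈ W) : g * negW = negW * g :=
  Equiv.ext fun x => by simp [negP_map hg]

theorem negW_sq : negW * negW = 1 := Equiv.ext fun x => by simp [negP_negP]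

theorem negW_ne_one : negW ≠ 1 := fun h => negP_ne 0 (Equiv.congr_fun h 0)

/-- The image of a root under the reflection of a line. -/
noncomputable def reflP (a : Fin 120) (x : Fin 240) : Fin 240 :=
  ⟨reflN a x, by
    have := allBelow_eq_true.1 (allBelow_eq_true.1 refl_chk a a.2) x x.2
    simp only [Bool.and_eq_true, Nat.blt_eq] at this
    exact this.1⟩

theorem co_reflP (a : Fin 120) (x : Fin 240) (i : Fin 8) :
    co (reflP a x) i = co x i - ip x (rt a) * co (rt a) i := by
  have h := allBelow_eq_true.1 (allBelow_eq_true.1 refl_chk a a.2) x x.2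
  simp only [Bool.and_eq_true, allBelow_eq_true] at h
  have := Nat.eq_of_beq_eq_true (h.2 i i.2)
  simp only [Nat.add_eq, Nat.mul_eq] at this
  simp only [co, ip, show ((reflP a x : Fin 240) : ℕ) = reflN a x from rfl,
    show ((rt a : Fin 240) : ℕ) = 2 * (a : ℕ) from rfl]
  zify at this
  linear_combination this

theorem ip_reflP_left (a : Fin 120) (x y : Fin 240) :
    ip (reflP a x) y = ip x y - ip x (rt a) * ip (rt a) y := by
  have h1 := ip_sum (reflP a x) y
  simp only [co_reflP, sub_mul, Finset.sum_sub_distrib, mul_assoc, ← Finset.mul_sum] at h1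
  rw [← ip_sum, ← ip_sum] at h1
  linarith

theorem reflP_reflP (a : Fin 120) (x : Fin 240) : reflP a (reflP a x) = x :=
  co_injective (funext fun i => by rw [co_reflP, co_reflP, ip_reflP_left, ip_self]; ring)

/-- The reflection of a line. -/
noncomputable def refl (a : Fin 120) : Equiv.Perm (Fin 240) :=
  Function.Involutive.toPerm (reflP a) (reflP_reflP a)

@[simp] theorem refl_apply (a : Fin 120) (x : Fin 240) : refl a x = reflP a x := rfl

theorem refl_mem (a : Fin 120) : refl a ∈ W := fun x y => by
  rw [refl_apply, refl_apply, ip_reflP_left, ip_comm x (reflP a y), ip_reflP_left, ip_comm (rt a) (reflP a y),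
    ip_reflP_left, ip_self, ip_comm y x, ip_comm y (rt a), ip_comm x (rt a)]
  ring

theorem refl_sq (a : Fin 120) : refl a * refl a = 1 := Equiv.ext fun x => by simp [reflP_reflP]

theorem refl_inv (a : Fin 120) : (refl a)⁻¹ = refl a := inv_eq_of_mul_eq_one_right (refl_sq a)

theorem refl_self (a : Fin 120) : refl a (rt a) = negP (rt a) :=
  co_injective (funext fun i => by rw [refl_apply, co_reflP, co_negP, ip_self]; ring)

theorem refl_fix {a : Fin 120} {x : Fin 240} (h : ip x (rt a) = 0) : refl a x = x :=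
  co_injective (funext fun i => by rw [refl_apply, co_reflP, h]; ring)

theorem ip_rt_ln (x y : Fin 240) : ip x (rt (ln y)) = ip x y ∨ ip x (rt (ln y)) = -ip x y := by
  rcases ln_eq (ln_rt (ln y)) with h | h
  · exact .inl (by rw [h])
  · exact .inr (by rw [h, ip_negP_right])

theorem refl_spec (y x : Fin 240) (i : Fin 8) :
    co (refl (ln y) x) i = co x i - ip x y * co y i := by
  rw [refl_apply, co_reflP]
  rcases ln_eq (ln_rt (ln y)) with h | h
  · rw [h]
  · rw [h, ip_negP_right, co_negP]; ring

/-- A conjugate of a reflection is the reflection of the image. -/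
theorem refl_conj {g : Equiv.Perm (Fin 240)} (hg : g ∈ W) (a : Fin 120) :
    g * refl a * g⁻¹ = refl (ln (g (rt a))) := by
  refine Equiv.ext fun x => ?_
  obtain ⟨u, rfl⟩ := g.surjective x
  rw [Equiv.Perm.mul_apply, Equiv.Perm.mul_apply, Equiv.Perm.coe_inv, Equiv.symm_apply_apply]
  refine co_injective (funext fun i => ?_)
  rw [refl_spec, hg]
  have h1 := co_map hg (refl a u) i
  simp only [refl_apply, co_reflP, sub_mul, Finset.sum_sub_distrib, mul_assoc, ← Finset.mul_sum] at h1
  rw [← co_map hg u, ← co_map hg (rt a)] at h1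
  rw [refl_apply]
  linarith

end Cfsg.Agent.StdO8
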