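import Cfsg.Agent.StdO8.Linear

/-!
The stabiliser of the frame, the order of the symmetry group, and the diagonalisation of
involutions.
-/

set_option autoImplicit false
set_option maxRecDepth 100000
set_option maxHeartbeats 1000000
set_option linter.unusedSectionVars false
set_option linter.unusedVariables false

namespace Cfsg.Agent.StdO8

open Cfsg.Agent.Compute

/-- Four axes forming a basis, up to the last. -/
abbrev Tup : Type := Fin 8 × Fin 8 × Fin 8 × Fin 8

/-- The affine map given by the images of a basis. -/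
noncomputable def aff (t : Tup) : Fin 8 → Fin 8 :=
  ![t.1, t.2.1, t.2.2.1, comp3 t.1 t.2.1 t.2.2.1, t.2.2.2, comp3 t.1 t.2.1 t.2.2.2,
    comp3 t.1 t.2.2.1 t.2.2.2, comp3 t.2.1 t.2.2.1 t.2.2.2]

/-- The images form a basis. -/
noncomputable def goodN (a b c d : ℕ) : Bool :=
  !(Nat.beq a b) && !(Nat.beq a c) && !(Nat.beq b c) && !(Nat.beq d a) && !(Nat.beq d b) &&
    !(Nat.beq d c) && !(Nat.beq d (xor3 a b c))

/-- The images form a basis. -/
def Good (t : Tup) : Prop := goodN t.1 t.2.1 t.2.2.1 t.2.2.2 = true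

/-- The images form a basis: the bases. -/
abbrev GTup : Type := {t : Tup // Good t}

theorem good_iff {a b c d : Fin 8} :
    Good (a, b, c, d) ↔ a ≠ b ∧ a ≠ c ∧ b ≠ c ∧ d ≠ a ∧ d ≠ b ∧ d ≠ c ∧ d ≠ comp3 a b c := by
  have key : ∀ x y : Fin 8, (!(Nat.beq (x : ℕ) (y : ℕ))) = true ↔ x ≠ y := fun x y => by
    rw [Bool.not_eq_true', Bool.eq_false_iff, ne_eq, Nat.beq_eq, Fin.val_inj]
  simp only [Good, goodN, Bool.and_eq_true, key, and_assoc]
  rw [show xor3 (a : ℕ) (b : ℕ) (c : ℕ) = ((comp3 a b c : Fin 8) : ℕ) from rfl, key]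

theorem card_GTup : Nat.card GTup = 1344 := by
  have h : (Finset.univ.filter fun t : Tup => goodN t.1 t.2.1 t.2.2.1 t.2.2.2 = true).card = 1344 := by
    decide +kernel
  rw [← h, Nat.card_congr (Equiv.subtypeEquivRight fun t : Tup =>
    (show Good t ↔ t ∈ Finset.univ.filter fun t : Tup => goodN t.1 t.2.1 t.2.2.1 t.2.2.2 = true by
      rw [Finset.mem_filter]; exact ⟨fun e => ⟨Finset.mem_univ _, e⟩, fun e => e.2⟩)),
    Nat.card_eq_fintype_card, Fintype.card_coe]

theorem ln_ev_injective {g : Equiv.Perm (Fin 240)} (hg : g ∈ W) {i j : Fin 8}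
    (h : ln (g (ev i)) = ln (g (ev j))) : i = j := by
  have h' := ln_map (inv_mem hg) h
  simp only [Equiv.Perm.coe_inv, Equiv.symm_apply_apply, ln_ev] at h'
  exact ax_injective h'

theorem comp3_ne {a b c : Fin 8} (h1 : a ≠ b) (h2 : a ≠ c) (h3 : b ≠ c) :
    a ≠ comp3 a b c ∧ b ≠ comp3 a b c ∧ c ≠ comp3 a b c := by
  have h : (allBelow 8 fun a => allBelow 8 fun b => allBelow 8 fun c =>
      Nat.beq a b || Nat.beq a c || Nat.beq b c ||
        (!(Nat.beq a (xor3 a b c)) && !(Nat.beq b (xor3 a b c)) && !(Nat.beq c (xor3 a b c)))) = true := by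
    decide +kernel
  have h' := allBelow_eq_true.1 (allBelow_eq_true.1 (allBelow_eq_true.1 h a a.2) b b.2) c c.2
  simp only [Bool.or_eq_true, Bool.and_eq_true, Bool.not_eq_true', Nat.beq_eq, Fin.val_inj, h1, h2, h3,
    false_or, Bool.eq_false_iff, ne_eq] at h'
  exact ⟨fun e => h'.1.1 (congrArg Fin.val e), fun e => h'.1.2 (congrArg Fin.val e), fun e => h'.2 (congrArg Fin.val e)⟩

/-- The images of three axes determine the image of the fourth of their quad. -/
theorem comp_step {g : Equiv.Perm (Fin 240)} (hg : g ∈ W) {a b c a' b' c' : Fin 8} (h1 : a ≠ b) (h2 : a ≠ c)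
    (h3 : b ≠ c) (ha : ln (g (ev a)) = ax a') (hb : ln (g (ev b)) = ax b') (hc : ln (g (ev c)) = ax c') :
    ln (g (ev (comp3 a b c))) = ax (comp3 a' b' c') := by
  obtain ⟨hq, -⟩ := quad_spec h1 h2 h3
  have n1 : a' ≠ b' := fun e => h1 (ln_ev_injective hg (by rw [ha, hb, e]))
  have n2 : a' ≠ c' := fun e => h2 (ln_ev_injective hg (by rw [ha, hc, e]))
  have n3 : b' ≠ c' := fun e => h3 (ln_ev_injective hg (by rw [hb, hc, e]))
  obtain ⟨-, huniq⟩ := quad_spec n1 n2 n3
  obtain ⟨m1, m2, m3⟩ := comp3_ne h1 h2 h3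
  have conv : ∀ {x x' : Fin 8}, ln (g (ev x)) = ax x' → ∀ r, ip r (g (ev x)) = 0 ↔ ip r (ev x') = 0 := by
    intro x x' hx r
    rcases ln_eq (hx.trans (ln_ev x').symm) with e | e <;> simp [e, ip_negP_right]
  refine huniq _ ((conv ha _).1 ?_) ((conv hb _).1 ?_) ((conv hc _).1 ?_) ?_
  · rw [mem_W.1 hg]; exact ip_ev_ev m1.symm
  · rw [mem_W.1 hg]; exact ip_ev_ev m2.symm
  · rw [mem_W.1 hg]; exact ip_ev_ev m3.symm
  · obtain ⟨r, q1, q2, q3, q4⟩ := hq.map hg
    exact ⟨r, fun e => q1 ((conv ha r).2 e), fun e => q2 ((conv hb r).2 e), fun e => q3 ((conv hc r).2 e), q4⟩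

theorem comp3_base : comp3 0 1 2 = (3 : Fin 8) ∧ comp3 0 1 4 = (5 : Fin 8) ∧ comp3 0 2 4 = (6 : Fin 8) ∧
    comp3 1 2 4 = (7 : Fin 8) :=
  ⟨Fin.ext (by decide +kernel), Fin.ext (by decide +kernel), Fin.ext (by decide +kernel),
    Fin.ext (by decide +kernel)⟩

theorem aff_spec {g : Equiv.Perm (Fin 240)} (hg : g ∈ W) {t : Tup} (h0 : ln (g (ev 0)) = ax t.1)
    (h1 : ln (g (ev 1)) = ax t.2.1) (h2 : ln (g (ev 2)) = ax t.2.2.1) (h4 : ln (g (ev 4)) = ax t.2.2.2) :
    ∀ i, ln (g (ev i)) = ax (aff t i) := by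
  obtain ⟨c3, c5, c6, c7⟩ := comp3_base
  have e3 := comp_step hg (by decide) (by decide) (by decide) h0 h1 h2
  have e5 := comp_step hg (by decide) (by decide) (by decide) h0 h1 h4
  have e6 := comp_step hg (by decide) (by decide) (by decide) h0 h2 h4
  have e7 := comp_step hg (by decide) (by decide) (by decide) h1 h2 h4
  rw [c3] at e3; rw [c5] at e5; rw [c6] at e6; rw [c7] at e7
  intro i
  fin_cases i <;> assumption

/-- A symmetry preserving the frame. -/
def IsMono (g : Equiv.Perm (Fin 240)) : Prop := ∀ i, ∃ j, ln (g (ev i)) = ax j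

/-- The stabiliser of the frame. -/
def Mono : Subgroup W where
  carrier := {g | IsMono g}
  one_mem' := fun i => ⟨i, ln_ev i⟩
  mul_mem' := fun {f g} hf hg i => by
    obtain ⟨j, hj⟩ := hg i
    obtain ⟨k, hk⟩ := hf j
    exact ⟨k, (ln_map f.2 (hj.trans (ln_ev j).symm)).trans hk⟩
  inv_mem' := fun {g} hg i => by
    choose j hj using hg
    have hinj : Function.Injective j := fun a b h => ln_ev_injective g.2 (by rw [hj, hj, h])
    obtain ⟨k, rfl⟩ := Finite.injective_iff_surjective.1 hinj i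
    refine ⟨k, ?_⟩
    have := ln_map (inv_mem g.2) ((ln_ev (j k)).trans (hj k).symm)
    rw [Equiv.Perm.coe_inv, Equiv.symm_apply_apply, ln_ev] at this
    exact this

theorem mono_affine {g : Equiv.Perm (Fin 240)} (hg : g ∈ W) (hm : IsMono g) :
    ∃ t : GTup, ∀ i, ln (g (ev i)) = ax (aff t.1 i) := by
  choose j hj using hm
  have hinj : Function.Injective j := fun a b h => ln_ev_injective hg (by rw [hj, hj, h])
  have h := aff_spec hg (t := (j 0, j 1, j 2, j 4)) (hj 0) (hj 1) (hj 2) (hj 4)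
  refine ⟨⟨_, good_iff.2 ⟨hinj.ne (by decide), hinj.ne (by decide), hinj.ne (by decide), hinj.ne (by decide),
    hinj.ne (by decide), hinj.ne (by decide), fun e => ?_⟩⟩, h⟩
  have h3 := h 3
  rw [hj 3] at h3
  exact absurd (hinj (e.trans (ax_injective h3).symm)) (by decide)

theorem exists_mono (t : GTup) : ∃ g ∈ W, ∀ i, ln (g (ev i)) = ax (aff t.1 i) := by
  obtain ⟨⟨a, b, c, d⟩, ht⟩ := t
  obtain ⟨h1, h2, h3, h4, h5, h6, h7⟩ := good_iff.1 ht
  let r : Fin 4 → Fin 240 := ![ev a, ev b, ev c, ev d]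
  obtain ⟨p₀, -, p₁, -, p₂, -, p₃, -, h⟩ := move_four r
    (fun i j hij => by
      fin_cases i <;> fin_cases j <;> first | exact absurd rfl hij | skip
      all_goals simp only [r]
      all_goals first
        | exact ip_ev_ev h1 | exact ip_ev_ev h1.symm | exact ip_ev_ev h2 | exact ip_ev_ev h2.symm
        | exact ip_ev_ev h3 | exact ip_ev_ev h3.symm | exact ip_ev_ev h4 | exact ip_ev_ev h4.symm
        | exact ip_ev_ev h5 | exact ip_ev_ev h5.symm | exact ip_ev_ev h6 | exact ip_ev_ev h6.symm)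
    (fun hq => h7 (ax_injective ((ln_ev d).symm.trans ((quad_spec h1 h2 h3).2 (ev d) (ip_ev_ev h4) (ip_ev_ev h5)
      (ip_ev_ev h6) (by simpa [r] using hq)))))
  set w := evalW p₃.2 * evalW p₂.2 * evalW p₁.2 * evalW p₀.2
  have hw : w ∈ W := mul_mem (mul_mem (mul_mem (evalW_mem _) (evalW_mem _)) (evalW_mem _)) (evalW_mem _)
  have key : ∀ (k : Fin 4) (x : Fin 8), r k = ev x → ln (w⁻¹ (ev (bas k))) = ax x := by
    intro k x hx
    have h' := ln_map (inv_mem hw) ((h k).trans (ln_rt (tgt k)).symm)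
    rw [Equiv.Perm.coe_inv, Equiv.symm_apply_apply, rt_tgt, hx, ln_ev] at h'
    exact h'.symm
  exact ⟨w⁻¹, inv_mem hw, aff_spec (inv_mem hw) (t := (a, b, c, d)) (key 0 a rfl) (key 1 b rfl) (key 2 c rfl)
    (key 3 d rfl)⟩

theorem D_injective : Function.Injective D := fun d d' h => Fin.ext (Nat.eq_of_testBit_eq fun j => by
  rcases Nat.lt_or_ge j 8 with hj | hj
  · have h' := Equiv.congr_fun h (ev ⟨j, hj⟩)
    rw [D_ev, D_ev] at h'
    cases h1 : (d : ℕ).testBit j <;> cases h2 : (d' : ℕ).testBit j <;> simp [h1, h2] at h' ⊢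
    · exact negP_ne _ h'.symm
    · exact negP_ne _ h'
  · have hp : 2 ^ 8 ≤ 2 ^ j := Nat.pow_le_pow_right (by norm_num) hj
    rw [Nat.testBit_lt_two_pow (lt_of_lt_of_le d.2 hp), Nat.testBit_lt_two_pow (lt_of_lt_of_le d'.2 hp)])

theorem ln_D (d : Fin 256) (i : Fin 8) : ln (D d (ev i)) = ax i := by
  rw [D_ev]
  split_ifs
  · rw [ln_negP, ln_ev]
  · exact ln_ev i

theorem aff_injective {t t' : GTup} (h : ∀ i, aff t.1 i = aff t'.1 i) : t = t' :=
  Subtype.ext (Prod.ext (h 0) (Prod.ext (h 1) (Prod.ext (h 2) (h 4))))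

theorem card_Mono : Nat.card Mono = 344064 := by
  choose g hg hgi using exists_mono
  let f : GTup × Fin 256 → Mono := fun x => ⟨⟨g x.1 * D x.2, mul_mem (hg x.1) (D_mem _)⟩, fun i =>
    ⟨aff x.1.1 i, (ln_map (hg x.1) ((ln_D _ i).trans (ln_ev i).symm)).trans (hgi x.1 i)⟩⟩
  have hf : Function.Bijective f := by
    refine ⟨fun x y h => ?_, fun m => ?_⟩
    · have h' : g x.1 * D x.2 = g y.1 * D y.2 := congrArg (fun m : Mono => (m.1 : Equiv.Perm (Fin 240))) h
      have e : x.1 = y.1 := aff_injective fun i => ax_injective (by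
        rw [← hgi, ← hgi, ← ln_map (hg _) ((ln_D x.2 i).trans (ln_ev i).symm),
          ← ln_map (hg _) ((ln_D y.2 i).trans (ln_ev i).symm), ← Equiv.Perm.mul_apply, h', Equiv.Perm.mul_apply])
      rw [e] at h'
      exact Prod.ext e (D_injective (mul_left_cancel h'))
    · obtain ⟨t, ht⟩ := mono_affine m.1.2 m.2
      obtain ⟨d, hd⟩ := eq_D_of_fix (g := (g t)⁻¹ * m.1) (mul_mem (inv_mem (hg t)) m.1.2) fun k => by
        rw [rt_tgt, Equiv.Perm.mul_apply]
        have h1 := ln_map (inv_mem (hg t)) ((ht (bas k)).trans (hgi t (bas k)).symm)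
        rw [Equiv.Perm.coe_inv, Equiv.symm_apply_apply, ln_ev] at h1
        rw [← Equiv.Perm.coe_inv] at h1
        rw [h1, ← ln_ev, ← rt_tgt, ln_rt]
      exact ⟨(t, d), Subtype.ext (Subtype.ext (by show g t * D d = _; rw [← hd, mul_inv_cancel_left]))⟩
  rw [← Nat.card_congr (Equiv.ofBijective f hf), Nat.card_prod, card_GTup, Nat.card_fin]

theorem chain_keys : (chain0.map Prod.fst).Nodup ∧ (chain1.map Prod.fst).Nodup ∧
    (chain2.map Prod.fst).Nodup ∧ (chain3.map Prod.fst).Nodup := by decide +kernel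

theorem step_spec {k : Fin 4} {p : ℕ × List ℕ} (hp : p ∈ chainN k) :
    (∃ h : p.1 < 120, ln (evalW p.2 (rt ⟨p.1, h⟩)) = tgt k) ∧
      ∀ j < k, ln (evalW p.2 (rt (tgt j))) = tgt j := by
  have hs := List.all_eq_true.1 (allBelow_eq_true.1 chain_step k k.2) p hp
  simp only [stepN, Bool.and_eq_true, allBelow_eq_true, Nat.beq_eq, Nat.blt_eq] at hs
  obtain ⟨⟨⟨hok, hlt⟩, ht⟩, hfix⟩ := hs
  refine ⟨⟨hlt, Fin.ext ?_⟩, fun j hj => Fin.ext ?_⟩
  · show (evalW p.2 _ : ℕ) / 2 = tgtN k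
    rw [evalW_apply _ hok]
    exact ht
  · show (evalW p.2 _ : ℕ) / 2 = tgtN j
    rw [evalW_apply _ hok]
    exact hfix j hj

/-- The order of the symmetry group. -/
theorem card_W : Nat.card W = 696729600 := by
  refine le_antisymm card_W_le ?_
  obtain ⟨l0, l1, l2, l3⟩ := chain_len
  obtain ⟨k0, k1, k2, k3⟩ := chain_keys
  let f : Fin chain0.length × Fin chain1.length × Fin chain2.length × Fin chain3.length × Fin 256 → W :=
    fun x => ⟨(evalW chain3[x.2.2.2.1].2 * evalW chain2[x.2.2.1].2 * evalW chain1[x.2.1].2 *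
      evalW chain0[x.1].2)⁻¹ * D x.2.2.2.2,
      mul_mem (inv_mem (mul_mem (mul_mem (mul_mem (evalW_mem _) (evalW_mem _)) (evalW_mem _)) (evalW_mem _))) (D_mem _)⟩
  have peel : ∀ (k : Fin 4) {p p' : ℕ × List ℕ}, p ∈ chainN k → p' ∈ chainN k → ∀ {g g' : Equiv.Perm (Fin 240)},
      g ∈ W → g' ∈ W → ln (g (rt (tgt k))) = tgt k → ln (g' (rt (tgt k))) = tgt k →
      (evalW p.2)⁻¹ * g = (evalW p'.2)⁻¹ * g' → p.1 = p'.1 := by
    intro k p p' hp hp' g g' hg hg' e e' h
    obtain ⟨⟨hlt, hl⟩, -⟩ := step_spec hp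
    obtain ⟨⟨hlt', hl'⟩, -⟩ := step_spec hp'
    have q := ln_map (inv_mem (evalW_mem p.2)) (e.trans hl.symm)
    have q' := ln_map (inv_mem (evalW_mem p'.2)) (e'.trans hl'.symm)
    rw [Equiv.Perm.coe_inv, Equiv.symm_apply_apply, ln_rt, ← Equiv.Perm.coe_inv, ← Equiv.Perm.mul_apply] at q q'
    rw [h, q'] at q
    exact congrArg Fin.val q.symm
  have fixes : ∀ (k j : Fin 4), j < k → ∀ p ∈ chainN k, ln ((evalW p.2)⁻¹ (rt (tgt j))) = tgt j := by
    intro k j hj p hp
    have h := ln_map (inv_mem (evalW_mem p.2)) (((step_spec hp).2 j hj).trans (ln_rt _).symm)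
    rw [Equiv.Perm.coe_inv, Equiv.symm_apply_apply, ln_rt] at h
    exact h.symm
  have comb : ∀ {g h : Equiv.Perm (Fin 240)} {j : Fin 4}, g ∈ W → ln (g (rt (tgt j))) = tgt j →
      ln (h (rt (tgt j))) = tgt j → ln ((g * h) (rt (tgt j))) = tgt j := fun hg e e' =>
    (ln_map hg (e'.trans (ln_rt _).symm)).trans e
  have dfix : ∀ (d : Fin 256) (j : Fin 4), ln (D d (rt (tgt j))) = tgt j := fun d j => by
    rw [rt_tgt, ln_D, ← ln_ev, ← rt_tgt, ln_rt]
  have hf : Function.Injective f := by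
    rintro ⟨a, b, c, e, d⟩ ⟨a', b', c', e', d'⟩ h
    have h0 : (evalW chain3[e].2 * evalW chain2[c].2 * evalW chain1[b].2 * evalW chain0[a].2)⁻¹ * D d =
        (evalW chain3[e'].2 * evalW chain2[c'].2 * evalW chain1[b'].2 * evalW chain0[a'].2)⁻¹ * D d' :=
      congrArg Subtype.val h
    simp only [mul_inv_rev, mul_assoc] at h0
    have mi := fun w => inv_mem (evalW_mem w)
    have m0 : ∀ i : Fin chain0.length, chain0[i] ∈ chainN (0 : Fin 4) := fun i => List.getElem_mem i.2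
    have m1 : ∀ i : Fin chain1.length, chain1[i] ∈ chainN (1 : Fin 4) := fun i => List.getElem_mem i.2
    have m2 : ∀ i : Fin chain2.length, chain2[i] ∈ chainN (2 : Fin 4) := fun i => List.getElem_mem i.2
    have m3 : ∀ i : Fin chain3.length, chain3[i] ∈ chainN (3 : Fin 4) := fun i => List.getElem_mem i.2
    have r0 := peel 0 (m0 a) (m0 a') (mul_mem (mi _) (mul_mem (mi _) (mul_mem (mi _) (D_mem d))))
      (mul_mem (mi _) (mul_mem (mi _) (mul_mem (mi _) (D_mem d'))))
      (comb (mi _) (fixes 1 0 (by decide) _ (m1 b)) (comb (mi _) (fixes 2 0 (by decide) _ (m2 c))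
        (comb (mi _) (fixes 3 0 (by decide) _ (m3 e)) (dfix d 0))))
      (comb (mi _) (fixes 1 0 (by decide) _ (m1 b')) (comb (mi _) (fixes 2 0 (by decide) _ (m2 c'))
        (comb (mi _) (fixes 3 0 (by decide) _ (m3 e')) (dfix d' 0)))) h0
    have ea : a = a' := Fin.ext ((k0.getElem_inj_iff (hi := by simp) (hj := by simp)).1 (by simpa using r0))
    subst ea
    replace h0 := mul_left_cancel h0
    have r1 := peel 1 (m1 b) (m1 b') (mul_mem (mi _) (mul_mem (mi _) (D_mem d)))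
      (mul_mem (mi _) (mul_mem (mi _) (D_mem d')))
      (comb (mi _) (fixes 2 1 (by decide) _ (m2 c)) (comb (mi _) (fixes 3 1 (by decide) _ (m3 e)) (dfix d 1)))
      (comb (mi _) (fixes 2 1 (by decide) _ (m2 c')) (comb (mi _) (fixes 3 1 (by decide) _ (m3 e')) (dfix d' 1))) h0
    have eb : b = b' := Fin.ext ((k1.getElem_inj_iff (hi := by simp) (hj := by simp)).1 (by simpa using r1))
    subst eb
    replace h0 := mul_left_cancel h0
    have r2 := peel 2 (m2 c) (m2 c') (mul_mem (mi _) (D_mem d)) (mul_mem (mi _) (D_mem d'))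
      (comb (mi _) (fixes 3 2 (by decide) _ (m3 e)) (dfix d 2))
      (comb (mi _) (fixes 3 2 (by decide) _ (m3 e')) (dfix d' 2)) h0
    have ec : c = c' := Fin.ext ((k2.getElem_inj_iff (hi := by simp) (hj := by simp)).1 (by simpa using r2))
    subst ec
    replace h0 := mul_left_cancel h0
    have r3 := peel 3 (m3 e) (m3 e') (D_mem d) (D_mem d') (dfix d 3) (dfix d' 3) h0
    have ee : e = e' := Fin.ext ((k3.getElem_inj_iff (hi := by simp) (hj := by simp)).1 (by simpa using r3))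
    subst ee
    rw [D_injective (mul_left_cancel h0)]
  refine Eq.trans_le ?_ (Nat.card_le_card_of_injective f hf)
  simp only [Nat.card_prod, Nat.card_fin, l0, l1, l2, l3]

theorem odd_index_Mono : ¬ 2 ∣ Mono.index := by
  have h := Mono.card_mul_index
  rw [card_Mono, card_W] at h
  rw [show Mono.index = 2025 by omega]
  norm_num

/-- A subgroup of 2-power order preserves a frame. -/
theorem exists_conj_mono (E : Subgroup W) (hE : IsPGroup 2 E) : ∃ h : W, ∀ e ∈ E, IsMono (h * e * h⁻¹ : W) := by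
  haveI : Fact (Nat.Prime 2) := ⟨Nat.prime_two⟩
  obtain ⟨x, hx⟩ : (MulAction.fixedPoints E (W ⧸ Mono)).Nonempty :=
    hE.nonempty_fixed_point_of_prime_not_dvd_card _ (by rw [← Subgroup.index_eq_card]; exact odd_index_Mono)
  obtain ⟨n, rfl⟩ := QuotientGroup.mk_surjective x
  refine ⟨n⁻¹, fun e he => ?_⟩
  have h' : (QuotientGroup.mk (e * n) : W ⧸ Mono) = QuotientGroup.mk n := hx ⟨e, he⟩
  have := QuotientGroup.eq.1 h'.symm
  rw [← mul_assoc] at this
  rw [inv_inv]
  exact this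

end Cfsg.Agent.StdO8
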