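import Cfsg.Agent.StdO8.Diag
import Cfsg.Agent.StdO8.Det

/-!
Witnesses in the centraliser of the symmetry negating a frame quad.
-/

set_option autoImplicit false
set_option maxRecDepth 100000

namespace Cfsg.Agent.StdO8

open Cfsg.Agent.Compute

/-- The negation of the first quad. -/
def q15 : List ℕ := [0, 1, 2, 3]

/-- A word exchanging the two halves of the frame. -/
def qT : List ℕ := [45, 52, 43, 51]

/-- Two words act alike. -/
noncomputable def sameN (u v : List ℕ) : Bool :=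
  okN u && okN v && allBelow 240 fun x => Nat.beq (actN u x) (actN v x)

theorem evalW_append (u v : List ℕ) : evalW (u ++ v) = evalW u * evalW v := by
  simp [evalW]

theorem evalW_nil : evalW [] = 1 := by simp [evalW]

theorem evalW_of_same {u v : List ℕ} (h : sameN u v = true) : evalW u = evalW v := by
  simp only [sameN, Bool.and_eq_true, allBelow_eq_true, Nat.beq_eq] at h
  exact Equiv.ext fun x => Fin.ext (by rw [evalW_apply _ h.1.1, evalW_apply _ h.1.2]; exact h.2 x x.2)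

theorem pair_cube_chk : ([[0, 57], [1, 70], [2, 71], [1, 71], [2, 69], [4, 56], [5, 66]].all fun w =>
    sameN (w ++ w ++ w) [] && sameN (w ++ q15) (q15 ++ w)) = true := by decide +kernel

theorem quat_chk : (sameN (qH ++ qH) q15 && sameN (qK ++ qK) q15 && sameN (qH2 ++ qH2) q15 &&
    sameN (qK2 ++ qK2) q15 && sameN (qH ++ qK) (q15 ++ qK ++ qH) &&
    sameN (qH2 ++ qK2) (q15 ++ qK2 ++ qH2) && sameN (qH ++ qH2) (qH2 ++ qH) &&
    sameN (qH ++ qK2) (qK2 ++ qH) && sameN (qK ++ qH2) (qH2 ++ qK) &&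
    sameN (qK ++ qK2) (qK2 ++ qK) && sameN (qBeta ++ qH) (qH ++ qBeta) &&
    sameN (qBeta ++ qK) (qK ++ qBeta) && sameN (qBeta ++ qH2) (qH2 ++ qBeta) &&
    sameN (qBeta ++ qK2) (qK2 ++ qBeta) && sameN (qD ++ qD ++ qD ++ qD) [] &&
    sameN (q15 ++ q15) []) = true := by decide +kernel

theorem beta_d_chk : (okN (qBeta ++ qD) && okN (qD ++ qBeta) &&
    !(allBelow 240 fun x => Nat.beq (actN (qBeta ++ qD) x) (actN (qD ++ qBeta) x))) = true := by
  decide +kernel

theorem split_chk : qH = [0, 57] ++ [1, 70] ∧ qK = [0, 57] ++ [2, 71] ∧ qH2 = [0, 57] ++ [1, 71] ∧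
    qK2 = [0, 57] ++ [2, 69] ∧ qBeta = [4, 56] ∧ qD = [4, 56] ++ [5, 66] := by decide +kernel

theorem t_chk : (okN (qT ++ q15) && okN q15 && okN qT && allBelow 240 fun x =>
    Nat.beq (actN (qT ++ q15) x) (negN (actN q15 (actN qT x)))) = true := by decide +kernel

attribute [local irreducible] actN negN sameN

theorem evalW_pair_det (a b : ℕ) : (mat (evalW [a, b])).det = 1 := by
  have h : evalW [a, b] = refl ⟨a % 120, Nat.mod_lt _ (by norm_num)⟩ * refl ⟨b % 120, Nat.mod_lt _ (by norm_num)⟩ := by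
    simp [evalW]
  rw [h, mat_mul (refl_mem _), Matrix.det_mul, det_refl, det_refl]
  norm_num

/-- A product of two reflections. -/
noncomputable def pairW (a b : ℕ) : W1 := ⟨⟨evalW [a, b], evalW_mem _⟩, mem_W1.2 (evalW_pair_det a b)⟩

theorem pairW_val (a b : ℕ) : ((pairW a b : W) : Equiv.Perm (Fin 240)) = evalW [a, b] := rfl

theorem evalW_q15 : evalW q15 = D 15 := congrArg evalW (show q15 = dWord 15 by decide +kernel)

theorem t_rel : evalW qT * D 15 = negW * D 15 * evalW qT := by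
  have h := t_chk
  simp only [Bool.and_eq_true, allBelow_eq_true, Nat.beq_eq] at h
  obtain ⟨⟨⟨h1, h2⟩, h3⟩, h4⟩ := h
  rw [← evalW_q15, ← evalW_append]
  refine Equiv.ext fun x => Fin.ext ?_
  rw [evalW_apply _ h1, h4 x x.2, Equiv.Perm.mul_apply, Equiv.Perm.mul_apply, negW_apply]
  show negN _ = negN ((evalW q15 (evalW qT x) : Fin 240) : ℕ)
  rw [evalW_apply _ h2, evalW_apply _ h3]

theorem W1_ext {u v : W1} (h : ((u : W) : Equiv.Perm (Fin 240)) = ((v : W) : Equiv.Perm (Fin 240))) : u = v :=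
  Subtype.ext (Subtype.ext h)

/-- The value of a word in the symmetries of determinant one. -/
def Val (l : List ℕ) (x : W1) : Prop := ((x : W) : Equiv.Perm (Fin 240)) = evalW l

theorem Val.mul {l l' : List ℕ} {x x' : W1} (h : Val l x) (h' : Val l' x') : Val (l ++ l') (x * x') := by
  rw [Val, evalW_append, ← h, ← h']; rfl

theorem Val.one : Val [] 1 := evalW_nil.symm

theorem Val.eq {l l' : List ℕ} {x x' : W1} (h : sameN l l' = true) (hx : Val l x) (hx' : Val l' x') : x = x' :=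
  W1_ext (by rw [hx, hx', evalW_of_same h])

theorem pair_spec {y : W1} (hy : ((y : W) : Equiv.Perm (Fin 240)) = D 15) {a b : ℕ}
    (hab : [a, b] ∈ [[0, 57], [1, 70], [2, 71], [1, 71], [2, 69], [4, 56], [5, 66]]) :
    pairW a b ^ 3 = 1 ∧ pairW a b * y = y * pairW a b := by
  have h := List.all_eq_true.1 pair_cube_chk _ hab
  rw [Bool.and_eq_true] at h
  have vp : Val [a, b] (pairW a b) := pairW_val a b
  have vy : Val q15 y := by rw [Val, evalW_q15, hy]
  refine ⟨?_, Val.eq h.2 (vp.mul vy) (vy.mul vp)⟩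
  rw [pow_succ, pow_succ, pow_one]
  exact Val.eq h.1 ((vp.mul vp).mul vp) Val.one

/-- Conjugation by the exchange of the halves. -/
noncomputable def moveT : MulAut W1 :=
  haveI : W1.Normal := by unfold W1; infer_instance
  MulAut.conjNormal (⟨evalW qT, evalW_mem _⟩ : W)

theorem moveT_val (x : W1) : ((moveT x : W) : Equiv.Perm (Fin 240)) =
    evalW qT * ((x : W) : Equiv.Perm (Fin 240)) * (evalW qT)⁻¹ := rfl

theorem moveT_y {y : W1} (hy : ((y : W) : Equiv.Perm (Fin 240)) = D 15) : moveT y = zW * y := W1_ext (by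
  rw [moveT_val, hy, Subgroup.coe_mul, Subgroup.coe_mul, hy, show ((zW : W) : Equiv.Perm (Fin 240)) = negW from rfl,
    mul_inv_eq_iff_eq_mul]
  exact t_rel)

/-- The relations between the witnesses. -/
theorem witness_rel {y : W1} (hy : ((y : W) : Equiv.Perm (Fin 240)) = D 15) {h k h' k' f d : W1}
    (dh : h = pairW 0 57 * pairW 1 70) (dk : k = pairW 0 57 * pairW 2 71)
    (dh' : h' = pairW 0 57 * pairW 1 71) (dk' : k' = pairW 0 57 * pairW 2 69)
    (df : f = pairW 4 56) (dd : d = pairW 4 56 * pairW 5 66) :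
    (h * h = y ∧ k * k = y ∧ h' * h' = y ∧ k' * k' = y ∧ y * y = 1) ∧
      (h * k = y * k * h ∧ h' * k' = y * k' * h') ∧
      (Commute h h' ∧ Commute h k' ∧ Commute k h' ∧ Commute k k') ∧
      (Commute f h ∧ Commute f k ∧ Commute f h' ∧ Commute f k') ∧
      d ^ 4 = 1 ∧ ¬ Commute f d := by
  obtain ⟨sH, sK, sH2, sK2, sB, sD⟩ := split_chk
  have hq := quat_chk
  simp only [Bool.and_eq_true] at hq
  obtain ⟨⟨⟨⟨⟨⟨⟨⟨⟨⟨⟨⟨⟨⟨⟨q1, q2⟩, q3⟩, q4⟩, q5⟩, q6⟩, q7⟩, q8⟩, q9⟩, q10⟩, q11⟩, q12⟩, q13⟩, q14⟩, qd⟩, qy⟩ := hq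
  have vH : Val qH h := by rw [dh, sH]; exact Val.mul (pairW_val 0 57) (pairW_val 1 70)
  have vK : Val qK k := by rw [dk, sK]; exact Val.mul (pairW_val 0 57) (pairW_val 2 71)
  have vH' : Val qH2 h' := by rw [dh', sH2]; exact Val.mul (pairW_val 0 57) (pairW_val 1 71)
  have vK' : Val qK2 k' := by rw [dk', sK2]; exact Val.mul (pairW_val 0 57) (pairW_val 2 69)
  have vF : Val qBeta f := by rw [df, sB]; exact pairW_val 4 56
  have vD : Val qD d := by rw [dd, sD]; exact Val.mul (pairW_val 4 56) (pairW_val 5 66)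
  have vy : Val q15 y := by rw [Val, evalW_q15, hy]
  refine ⟨⟨Val.eq q1 (vH.mul vH) vy, Val.eq q2 (vK.mul vK) vy, Val.eq q3 (vH'.mul vH') vy,
    Val.eq q4 (vK'.mul vK') vy, Val.eq qy (vy.mul vy) Val.one⟩,
    ⟨Val.eq q5 (vH.mul vK) ((vy.mul vK).mul vH), Val.eq q6 (vH'.mul vK') ((vy.mul vK').mul vH')⟩,
    ⟨Val.eq q7 (vH.mul vH') (vH'.mul vH), Val.eq q8 (vH.mul vK') (vK'.mul vH),
      Val.eq q9 (vK.mul vH') (vH'.mul vK), Val.eq q10 (vK.mul vK') (vK'.mul vK)⟩,
    ⟨Val.eq q11 (vF.mul vH) (vH.mul vF), Val.eq q12 (vF.mul vK) (vK.mul vF),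
      Val.eq q13 (vF.mul vH') (vH'.mul vF), Val.eq q14 (vF.mul vK') (vK'.mul vF)⟩, ?_, fun hc => ?_⟩
  · rw [pow_succ, pow_succ, pow_succ, pow_one]
    exact Val.eq qd (((vD.mul vD).mul vD).mul vD) Val.one
  · have hb := beta_d_chk
    simp only [Bool.and_eq_true, Bool.not_eq_true'] at hb
    obtain ⟨⟨h1, h2⟩, h3⟩ := hb
    refine Bool.eq_false_iff.1 h3 (allBelow_eq_true.2 fun x hx => ?_)
    rw [Nat.beq_eq]
    rw [← evalW_apply _ h1 ⟨x, hx⟩, ← evalW_apply _ h2 ⟨x, hx⟩,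
      ← vF.mul vD, ← vD.mul vF, hc.eq]

end Cfsg.Agent.StdO8
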