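import Cfsg.Agent.StdO8.Sys

/-!
The sign changes of a frame, with or without an outer involution, and of the diagonal axes.
-/

set_option autoImplicit false
set_option maxRecDepth 100000
set_option maxHeartbeats 1000000
set_option linter.unusedSectionVars false

universe u

namespace Cfsg.Agent.StdO8

open Cfsg.Agent.Compute

/-- An even sign change of the frame, in the symmetries of determinant one. -/
noncomputable def dv (a : Fin 256) : W1 :=
  @dite _ ((mat (D a)).det = 1) (Classical.dec _) (fun h => ⟨⟨D a, D_mem a⟩, mem_W1.2 h⟩) fun _ => 1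

theorem dv_val {a : Fin 256} (ha : Even (bits a)) : ((dv a : W1) : W) = ⟨D a, D_mem a⟩ := by
  rw [dv, dif_pos (det_D_iff.2 ha)]

theorem even_mx {a b : Fin 256} (ha : Even (bits a)) (hb : Even (bits b)) : Even (bits (mx a b)) := by
  rw [← oddM_false, oddM_mx, oddM_false.2 ha, oddM_false.2 hb]; rfl

theorem even_full : Even (bits 255) := by rw [bits_eq]; decide

theorem dv_mx {a b : Fin 256} (ha : Even (bits a)) (hb : Even (bits b)) : dv (mx a b) = dv a * dv b :=
  Subtype.ext (by rw [Subgroup.coe_mul, dv_val ha, dv_val hb, dv_val (even_mx ha hb)]; exact Subtype.ext (D_mx a b))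

theorem dv_full : dv 255 = zW := Subtype.ext (by rw [dv_val even_full]; exact Subtype.ext D_full)

theorem dv_inj {a b : Fin 256} (ha : Even (bits a)) (hb : Even (bits b)) (h : dv a = dv b) : a = b := by
  have h' := congrArg (fun x : W1 => ((x : W) : Equiv.Perm (Fin 240))) h
  simp only [dv_val ha, dv_val hb] at h'
  exact D_injective h'

/-- Conjugation of a sign change by a symmetry of the frame. -/
theorem cW_dv {m : W} {t : GTup} (ht : ∀ i, ln ((m : Equiv.Perm (Fin 240)) (ev i)) = ax (aff t.1 i)) {a : Fin 256}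
    (ha : Even (bits a)) : cW m (dv a) = dv (pm t a) :=
  Subtype.ext (by
    rw [cW_val, dv_val ha, dv_val (by rwa [← oddM_false, oddM_pm, oddM_false])]
    exact Subtype.ext (conj_D m.2 ht a))

theorem trans_fix : (allBelow 256 fun x => Nat.beq x 0 || Nat.beq x 255 ||
    !(allBelow 3 fun v => allBelow 8 fun j => cond (Nat.testBit x j) (Nat.testBit x (Nat.xor j (Nat.pow 2 v)))
      (!(Nat.testBit x (Nat.xor j (Nat.pow 2 v)))))) = true := by decide +kernel

theorem trans_good : (allBelow 3 fun v => goodN (Nat.xor 0 (Nat.pow 2 v)) (Nat.xor 1 (Nat.pow 2 v))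
    (Nat.xor 2 (Nat.pow 2 v)) (Nat.xor 4 (Nat.pow 2 v)) && allBelow 8 fun j =>
      Nat.beq (affN (Nat.xor 0 (Nat.pow 2 v)) (Nat.xor 1 (Nat.pow 2 v)) (Nat.xor 2 (Nat.pow 2 v))
        (Nat.xor 4 (Nat.pow 2 v)) j) (Nat.xor j (Nat.pow 2 v))) = true := by decide +kernel

/-- Every mask other than the trivial two is moved by some permutation of the axes. -/
theorem exists_moved {a : Fin 256} (h0 : a ≠ 0) (h1 : a ≠ 255) : ∃ t : GTup, pm t a ≠ a := by
  by_contra hcon
  push Not at hcon
  have h := allBelow_eq_true.1 trans_fix a a.2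
  rw [Bool.or_eq_true, Bool.or_eq_true, Nat.beq_eq, Nat.beq_eq, Bool.not_eq_true', Bool.eq_false_iff] at h
  rcases h with (h | h) | h
  · exact h0 (Fin.ext h)
  · exact h1 (Fin.ext h)
  refine h (allBelow_eq_true.2 fun v hv => allBelow_eq_true.2 fun j hj => ?_)
  have hg := allBelow_eq_true.1 trans_good v hv
  rw [Bool.and_eq_true] at hg
  have hp : 2 ^ v < 2 ^ 3 := Nat.pow_lt_pow_right (by norm_num) hv
  have lt8 : ∀ i < 8, Nat.xor i (Nat.pow 2 v) < 8 := fun i hi => Nat.xor_lt_two_pow (n := 3) hi hp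
  let t : GTup := ⟨(⟨_, lt8 0 (by norm_num)⟩, ⟨_, lt8 1 (by norm_num)⟩, ⟨_, lt8 2 (by norm_num)⟩,
    ⟨_, lt8 4 (by norm_num)⟩), hg.1⟩
  have e := pm_spec t a ⟨j, hj⟩
  rw [hcon t, affN_eq] at e
  simp only [t] at e
  rw [Nat.eq_of_beq_eq_true (allBelow_eq_true.1 hg.2 j hj)] at e
  revert e
  generalize (a : ℕ).testBit (Nat.xor j (Nat.pow 2 v)) = p
  generalize (a : ℕ).testBit j = q
  cases p <;> cases q <;> simp

theorem quad_trans : (allBelow 256 fun x => !(quadMask x) ||
    !(allBelow 8 fun a => allBelow 8 fun b => allBelow 8 fun c => allBelow 8 fun d =>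
      !(goodN a b c d && allBelow 8 fun j => cond (Nat.testBit 15 j) (Nat.testBit x (affN a b c d j))
        (!(Nat.testBit x (affN a b c d j)))))) = true := by decide +kernel

/-- The frame quads are one class. -/
theorem exists_quad {x : Fin 256} (hx : quadMask x = true) : ∃ t : GTup, pm t 15 = x := by
  have h := allBelow_eq_true.1 quad_trans x x.2
  rw [hx, Bool.not_true, Bool.false_or, Bool.not_eq_true', Bool.eq_false_iff, ne_eq] at h
  by_contra hcon
  refine h (allBelow_eq_true.2 fun a ha => allBelow_eq_true.2 fun b hb => allBelow_eq_true.2 fun c hc =>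
    allBelow_eq_true.2 fun d hd => ?_)
  rw [Bool.not_eq_true', Bool.eq_false_iff, ne_eq, Bool.and_eq_true]
  rintro ⟨hg, hj⟩
  refine hcon ⟨⟨(⟨a, ha⟩, ⟨b, hb⟩, ⟨c, hc⟩, ⟨d, hd⟩), hg⟩, pm_eq fun j => ?_⟩
  have h' := allBelow_eq_true.1 hj j j.2
  rw [affN_eq]
  show (x : ℕ).testBit (affN a b c d j) = (15 : ℕ).testBit j
  revert h'
  generalize (x : ℕ).testBit (affN a b c d j) = p
  generalize (15 : ℕ).testBit (j : ℕ) = q
  cases p <;> cases q <;> simp

theorem quad_even : (allBelow 256 fun x => !(quadMask x) ||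
    Nat.beq (sum8 fun i => cond (Nat.testBit x i) 1 0) 4) = true := by decide +kernel

/-- The element of the frame quad. -/
noncomputable def y15 : W1 := dv 15

theorem y15_val : ((y15 : W) : Equiv.Perm (Fin 240)) = D 15 :=
  congrArg Subtype.val (dv_val (show Even (bits 15) by rw [bits_eq]; decide))

variable {G : Type u} [Group G]

/-- A frame system: the even sign changes inside the cover, and every element acting as its sign change. -/
structure IsStd {S : Ctx G} (B : Sys S) : Prop where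
  even : ∀ a, Even (bits a) → B.P a ∧ B.ψ a = S.e (dv a)
  acts : ∀ a, B.P a → S.Acts (B.ψ a) ⟨D a, D_mem a⟩
  perm : ∀ t a, B.P a → B.P (pm t a)

/-- The even sign changes of the frame. -/
noncomputable def evenSys (S : Ctx G) : Sys S where
  P a := Even (bits a)
  ψ a := S.e (dv a)
  full_mem := even_full
  mx_mem _ _ := even_mx
  map_mx a b ha hb := by rw [dv_mx ha hb, map_mul]
  inj a b ha hb h := dv_inj ha hb (S.inj h)
  full := by rw [dv_full]; rfl

theorem acts_dv (S : Ctx G) {a : Fin 256} (ha : Even (bits a)) : S.Acts (S.e (dv a)) ⟨D a, D_mem a⟩ := by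
  rw [← dv_val ha]; exact Ctx.acts_e _

theorem evenSys_std (S : Ctx G) : IsStd (evenSys S) where
  even a ha := ⟨ha, rfl⟩
  acts a ha := acts_dv S ha
  perm t a ha := by
    show Even (bits (pm t a))
    rwa [← oddM_false, oddM_pm, oddM_false]

section Outer

variable {S : Ctx G} {u : G} {d : Fin 256} (hd : oddM d = true) (hu : S.Acts u ⟨D d, D_mem d⟩) (h2 : u * u = 1)

include hu in
theorem outer_comm {a : Fin 256} (ha : Even (bits a)) : u * S.e (dv a) = S.e (dv a) * u := by
  have e := hu (dv a)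
  have hfix : cW (⟨D d, D_mem d⟩ : W) (dv a) = dv a := Subtype.ext (by
    rw [cW_val, dv_val ha]
    refine Subtype.ext ?_
    show D d * D a * (D d)⁻¹ = D a
    rw [← D_mx, mx_comm, D_mx, mul_inv_cancel_right])
  rw [hfix] at e
  exact mul_inv_eq_iff_eq_mul.1 e

/-- The elements of the frame system with an outer involution. -/
noncomputable def outerPsi (S : Ctx G) (u : G) (d a : Fin 256) : G :=
  if oddM a = true then u * S.e (dv (mx a d)) else S.e (dv a)

include hd in
theorem even_shift {a : Fin 256} (ha : oddM a = true) : Even (bits (mx a d)) := by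
  rw [← oddM_false, oddM_mx, ha, hd]; rfl

include hd hu in
theorem outer_acts (a : Fin 256) : S.Acts (outerPsi S u d a) ⟨D a, D_mem a⟩ := by
  rw [outerPsi]
  split_ifs with ha
  · have h := hu.mul (acts_dv S (even_shift hd ha))
    rwa [show (⟨D d, D_mem d⟩ : W) * ⟨D (mx a d), D_mem _⟩ = ⟨D a, D_mem a⟩ from Subtype.ext (by
      show D d * D (mx a d) = D a
      rw [← D_mx, mx_comm, mx_assoc, mx_self, mx_zero])] at h
  · exact acts_dv S (oddM_false.1 (Bool.eq_false_iff.2 ha))

include hd hu h2 in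
theorem outer_mul (a b : Fin 256) : outerPsi S u d (mx a b) = outerPsi S u d a * outerPsi S u d b := by
  simp only [outerPsi, oddM_mx]
  cases ha : oddM a <;> cases hb : oddM b
  · simp only [Bool.xor_self, Bool.false_eq_true, if_false]
    rw [dv_mx (oddM_false.1 ha) (oddM_false.1 hb), map_mul]
  · simp only [Bool.false_xor, Bool.false_eq_true, if_false, if_true]
    rw [← mul_assoc, ← outer_comm hu (oddM_false.1 ha), mul_assoc, ← map_mul,
      ← dv_mx (oddM_false.1 ha) (even_shift hd hb), mx_assoc]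
  · simp only [Bool.xor_false, Bool.false_eq_true, if_false, if_true]
    rw [mul_assoc, ← map_mul, ← dv_mx (even_shift hd ha) (oddM_false.1 hb), mx_assoc, mx_comm b d, ← mx_assoc]
  · simp only [Bool.xor_self, Bool.false_eq_true, if_false, if_true]
    have e : u * S.e (dv (mx a d)) * (u * S.e (dv (mx b d))) = S.e (dv (mx (mx a d) (mx b d))) := by
      rw [← mul_assoc, outer_comm hu (even_shift hd ha), mul_assoc (S.e (dv (mx a d))) u u, h2, mul_one, ← map_mul,
        ← dv_mx (even_shift hd ha) (even_shift hd hb)]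
    rw [e, mx_assoc a d, mx_comm b d, ← mx_assoc d d b, mx_self, mx_comm 0 b, mx_zero]

include hd hu h2 in
theorem outer_inj (a b : Fin 256) (h : outerPsi S u d a = outerPsi S u d b) : a = b := by
  have h1 : outerPsi S u d (mx a b) = 1 := by
    rw [outer_mul hd hu h2, h, ← outer_mul hd hu h2, mx_self]
    rw [outerPsi, if_neg (by rw [oddM, bits_eq]; decide)]
    have e : dv 0 = 1 := Subtype.ext (by
      rw [dv_val (by rw [bits_eq]; decide)]; exact Subtype.ext D_zero)
    rw [e, map_one]
  have hA := outer_acts hd hu (mx a b)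
  rw [h1] at hA
  have hnot : oddM (mx a b) = false := by
    rcases hA.unique (Ctx.acts_cent (one_mem _)) with e | e <;> rw [oddM_false, ← det_D_iff]
    · have e' : D (mx a b) = 1 := e
      rw [e', mat_one, Matrix.det_one]
    · have e' : D (mx a b) = negW * 1 := e
      rw [e', mul_one, negW_det]
  rw [outerPsi, if_neg (by rw [hnot]; exact Bool.false_ne_true)] at h1
  have h0 : mx a b = 0 := by
    refine dv_inj (oddM_false.1 hnot) (by rw [bits_eq]; decide) (S.inj (h1.trans ?_))
    rw [show dv 0 = 1 from Subtype.ext (by rw [dv_val (by rw [bits_eq]; decide)]; exact Subtype.ext D_zero), map_one]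
  rw [← mx_zero a, ← mx_self b, ← mx_assoc, h0, mx_comm, mx_zero]

/-- The frame system with an outer involution. -/
noncomputable def outerSys : Sys S where
  P _ := True
  ψ := outerPsi S u d
  full_mem := trivial
  mx_mem _ _ _ _ := trivial
  map_mx a b _ _ := outer_mul hd hu h2 a b
  inj a b _ _ := outer_inj hd hu h2 a b
  full := by rw [outerPsi, if_neg (by rw [oddM, bits_eq]; decide), dv_full]; rfl

theorem outerSys_std : IsStd (outerSys hd hu h2) where
  even a ha := ⟨trivial, if_neg (by rw [oddM_false.2 ha]; exact Bool.false_ne_true)⟩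
  acts a _ := outer_acts hd hu a
  perm _ _ _ := trivial

theorem outerSys_self : (outerSys hd hu h2).ψ d = u := by
  show outerPsi S u d d = u
  rw [outerPsi, if_pos hd, mx_self, show dv 0 = 1 from Subtype.ext (by
    rw [dv_val (by rw [bits_eq]; decide)]; exact Subtype.ext D_zero), map_one, mul_one]

end Outer

namespace IsStd

variable {S : Ctx G} {B : Sys S} (hB : IsStd B)

include hB in
/-- Elements of the cover permuting the axes normalise the system, acting by the permutation. -/
theorem conj_psi {m : W1} {t : GTup} (ht : ∀ i, ln (((m : W) : Equiv.Perm (Fin 240)) (ev i)) = ax (aff t.1 i))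
    {a : Fin 256} (ha : B.P a) : S.e m * B.ψ a * (S.e m)⁻¹ = B.ψ (pm t a) := by
  have hb := hB.perm t a ha
  have hev : Even (bits (mx (pm t a) a)) := by rw [← oddM_false, oddM_mx, oddM_pm, Bool.xor_self]
  obtain ⟨hP, hψ⟩ := hB.even _ hev
  have h := hB.acts a ha m⁻¹
  rw [map_inv S.e] at h
  have hv : m * cW ⟨D a, D_mem a⟩ m⁻¹ = dv (mx (pm t a) a) := Subtype.ext (by
    rw [Subgroup.coe_mul, cW_val, dv_val hev]
    refine Subtype.ext ?_
    show ((m : W) : Equiv.Perm (Fin 240)) * (D a * ((m : W) : Equiv.Perm (Fin 240))⁻¹ * (D a)⁻¹) = D (mx (pm t a) a)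
    rw [D_mx, ← conj_D (m : W).2 ht a, show (D a)⁻¹ = D a from inv_eq_of_mul_eq_one_right (by rw [← D_mx, mx_self, D_zero])]
    group)
  calc S.e m * B.ψ a * (S.e m)⁻¹ = S.e m * (B.ψ a * (S.e m)⁻¹ * (B.ψ a)⁻¹) * B.ψ a := by group
    _ = B.ψ (mx (pm t a) a) * B.ψ a := by rw [h, ← map_mul, hv, hψ]
    _ = B.ψ (pm t a) := by rw [← B.map_mx _ _ hP ha, mx_assoc, mx_self, mx_zero]

include hB in
theorem nrm_mono {m : W1} {t : GTup} (ht : ∀ i, ln (((m : W) : Equiv.Perm (Fin 240)) (ev i)) = ax (aff t.1 i)) :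
    B.Nrm (S.e m) := by
  rintro _ ⟨a, ha, rfl⟩
  exact ⟨pm t a, hB.perm t a ha, (hB.conj_psi ht ha).symm⟩

include hB in
/-- An element other than the central two is moved by a normalising element fixing the involution. -/
theorem exists_move {a : Fin 256} (ha : B.P a) (h0 : a ≠ 0) (h1 : a ≠ 255) :
    ∃ n, B.Nrm n ∧ n * B.ψ a * n⁻¹ ≠ B.ψ a := by
  obtain ⟨t, ht⟩ := exists_moved h0 h1
  obtain ⟨m, hm⟩ := exists_mono1 t
  refine ⟨S.e m, hB.nrm_mono hm, fun e => ht (B.inj _ _ (hB.perm t a ha) ha ?_)⟩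
  rw [← hB.conj_psi hm ha, e]

include hB in
theorem orb_perm {t : GTup} {a : Fin 256} (ha : a ∈ B.orb) : pm t a ∈ B.orb := by
  obtain ⟨hP, n, hn, e⟩ := B.mem_orb.1 ha
  obtain ⟨m, hm⟩ := exists_mono1 t
  exact B.mem_orb.2 ⟨hB.perm t a hP, S.e m * n, (hB.nrm_mono hm).mul hn, by rw [← hB.conj_psi hm hP, ← e]; group⟩

include hB in
/-- The three possible orbits. -/
theorem cases [Finite G] (hq : ¬ IsConj (S.e y15) S.z) {n : G} (hn : B.Nrm n) (hmove : n * S.z * n⁻¹ ≠ S.z) :
    ∃ sub, (sub = 1 ∨ sub = 32 ∨ sub = 35) ∧ ∀ x : Fin 256, x ∈ B.orb ↔ inS sub x = true := by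
  refine B.orb_cases hn hmove (fun x hx => ?_) fun k hk x y hx hy hxo => ?_
  · have h := allBelow_eq_true.1 cls_cover x x.2
    simp only [Bool.and_eq_true, Bool.or_eq_true, Nat.beq_eq] at h
    rcases h.1 with ((e | e) | e) | e
    · exact absurd ((show x = 0 from Fin.ext e) ▸ hx) B.zero_orb
    · exact .inl (Fin.ext e)
    · exfalso
      obtain ⟨t, rfl⟩ := exists_quad e
      obtain ⟨m, hm⟩ := exists_mono1 t
      have h15 : Even (bits 15) := by rw [bits_eq]; decide
      obtain ⟨hP, hψ⟩ := hB.even 15 h15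
      refine hq (IsConj.trans (isConj_iff.2 ⟨S.e m, ?_⟩) (B.orb_conj hx).symm)
      rw [y15, ← hψ, hB.conj_psi hm hP]
    · exact .inr e
  · obtain ⟨t, ht⟩ := cls_trans hk hx
    obtain ⟨t', ht'⟩ := cls_trans hk hy
    obtain ⟨hP, n', hn', e⟩ := B.mem_orb.1 hxo
    obtain ⟨m, hm⟩ := exists_mono1 t
    obtain ⟨m', hm'⟩ := exists_mono1 t'
    have hr : B.P (repM k) := by
      obtain ⟨b, hb, hb'⟩ := (hB.nrm_mono hm).inv _ ⟨x, hP, rfl⟩
      by_cases hodd : oddM (repM k) = true
      · have hPd : oddM b = oddM (repM k) := by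
          have hx' : pm t b = x := B.inj _ _ (hB.perm t b hb) hP (by
            rw [← hB.conj_psi hm hb, hb']; group)
          rw [← oddM_pm t b, hx', ← ht, oddM_pm]
        have hev : Even (bits (mx (repM k) b)) := by rw [← oddM_false, oddM_mx, hPd, Bool.xor_self]
        have := B.mx_mem _ _ (hB.even _ hev).1 hb
        rwa [mx_assoc, mx_self, mx_zero] at this
      · exact (hB.even _ (oddM_false.1 (Bool.eq_false_iff.2 hodd))).1
    rw [← ht']
    refine hB.orb_perm (B.mem_orb.2 ⟨hr, (S.e m)⁻¹ * n', (hB.nrm_mono hm).inv.mul hn', ?_⟩)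
    rw [show (S.e m)⁻¹ * n' * S.z * ((S.e m)⁻¹ * n')⁻¹ = (S.e m)⁻¹ * (n' * S.z * n'⁻¹) * S.e m by group, e, ← ht,
      ← hB.conj_psi hm hr]
    group

include hB in
/-- Without odd sign changes no normalising element moves the involution. -/
theorem no_move_even [Finite G] (hq : ¬ IsConj (S.e y15) S.z) (hP : ∀ a, B.P a → Even (bits a)) {n : G}
    (hn : B.Nrm n) : n * S.z * n⁻¹ = S.z := by
  by_contra hmove
  obtain ⟨sub, hsub, hO⟩ := hB.cases hq hn hmove
  have key : ∀ k, k < 7 → sub.testBit k = true → Even (bits (repM k)) := fun k hk hb =>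
    hP _ (B.mem_orb.1 ((hO _).2 (inS_iff.2 (.inr ⟨k, hk, hb, repM_cls hk⟩)))).1
  have h0 : ¬ Even (bits (repM 0)) := by
    rw [show repM 0 = (1 : Fin 256) from Fin.ext rfl, bits_eq]; decide
  have h5 : ¬ Even (bits (repM 5)) := by
    rw [show repM 5 = (254 : Fin 256) from Fin.ext rfl, bits_eq]; decide
  rcases hsub with rfl | rfl | rfl
  · exact h0 (key 0 (by norm_num) (by decide))
  · exact h5 (key 5 (by norm_num) (by decide))
  · exact h0 (key 0 (by norm_num) (by decide))

end IsStd

end Cfsg.Agent.StdO8
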