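import Cfsg.Agent.StdO8.Masks

/-!
Which unions of classes of masks can be orbits: two counts invariant under linear maps decide it.
-/

set_option autoImplicit false
set_option maxRecDepth 100000
set_option maxHeartbeats 1000000
set_option linter.unusedSectionVars false

namespace Cfsg.Agent.StdO8

open Cfsg.Agent.Compute

/-- Counting below a bound. -/
noncomputable def cntN (n : ℕ) (p : ℕ → Bool) : ℕ :=
  Nat.rec (motive := fun _ => ℕ) 0 (fun k r => cond (p k) (Nat.add r 1) r) n

/-- Summing below a bound. -/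
noncomputable def sumN (n : ℕ) (f : ℕ → ℕ) : ℕ :=
  Nat.rec (motive := fun _ => ℕ) 0 (fun k r => Nat.add r (f k)) n

/-- The set of a union of classes together with the full mask. -/
noncomputable def setN (sub : ℕ) : ℕ :=
  List.rec (motive := fun _ => ℕ) (Nat.pow 2 255)
    (fun k _ r => Nat.lor r (cond (Nat.testBit sub k) (clsCodes.getD k 0) 0)) [0, 1, 2, 3, 4, 5, 6]

/-- Membership in a union of classes together with the full mask. -/
noncomputable def inS (sub x : ℕ) : Bool := Nat.testBit (setN sub) x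

/-- Pairs with a given sum. -/
noncomputable def c2 (sub u : ℕ) : ℕ := cntN 256 fun v => inS sub v && inS sub (Nat.xor v u)

/-- Triples with a given sum. -/
noncomputable def c3 (sub u : ℕ) : ℕ :=
  sumN 256 fun a => cond (inS sub a) (cntN 256 fun b => inS sub b && inS sub (Nat.xor (Nat.xor a b) u)) 0


theorem table_chk : (allBelow 128 fun sub => Nat.beq sub 0 || Nat.beq sub 1 || Nat.beq sub 32 || Nat.beq sub 35 ||
    !(allBelow 7 fun k => !(Nat.testBit sub k) || (Nat.beq (c2 sub (clsReps.getD k 0)) (c2 sub 255) &&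
      Nat.beq (c3 sub (clsReps.getD k 0)) (c3 sub 255)))) = true := by decide +kernel

attribute [local irreducible] c2 c3

theorem cntN_eq (p : ℕ → Bool) : ∀ n, cntN n p = ((Finset.range n).filter fun k => p k = true).card
  | 0 => rfl
  | n + 1 => by
    show cond (p n) (cntN n p + 1) (cntN n p) = _
    rw [Finset.range_add_one, Finset.filter_insert, cntN_eq p n]
    cases h : p n <;> simp

theorem sumN_eq (f : ℕ → ℕ) : ∀ n, sumN n f = ∑ k ∈ Finset.range n, f k
  | 0 => rfl
  | n + 1 => by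
    show sumN n f + f n = _
    rw [Finset.sum_range_succ, sumN_eq f n]

theorem inS_iff {sub : ℕ} {x : Fin 256} :
    inS sub x = true ↔ x = 255 ∨ ∃ k, k < 7 ∧ sub.testBit k = true ∧ inCls k x = true := by
  have h : inS sub x = (((((((((2 ^ 255 : ℕ).testBit x) || (sub.testBit 6 && inCls 6 x)) || (sub.testBit 5 && inCls 5 x)) ||
      (sub.testBit 4 && inCls 4 x)) || (sub.testBit 3 && inCls 3 x)) || (sub.testBit 2 && inCls 2 x)) ||
      (sub.testBit 1 && inCls 1 x)) || (sub.testBit 0 && inCls 0 x)) := by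
    show Nat.testBit (Nat.lor (Nat.lor (Nat.lor (Nat.lor (Nat.lor (Nat.lor (Nat.lor (2 ^ 255) _) _) _) _) _) _) _) (x : ℕ) = _
    have hl : ∀ a b : ℕ, Nat.testBit (Nat.lor a b) (x : ℕ) = (Nat.testBit a x || Nat.testBit b x) :=
      fun a b => Nat.testBit_or a b x
    have hc : ∀ k, Nat.testBit (cond (Nat.testBit sub k) (clsCodes.getD k 0) 0) (x : ℕ) =
        (sub.testBit k && inCls k x) := fun k => by cases Nat.testBit sub k <;> simp [inCls]
    rw [hl, hl, hl, hl, hl, hl, hl, hc, hc, hc, hc, hc, hc, hc]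
  rw [h, Nat.testBit_two_pow]
  simp only [Bool.or_eq_true, Bool.and_eq_true, decide_eq_true_eq]
  constructor
  · rintro (((((((h | h) | h) | h) | h) | h) | h) | h)
    exacts [.inl (Fin.ext h.symm), .inr ⟨6, by norm_num, h⟩, .inr ⟨5, by norm_num, h⟩, .inr ⟨4, by norm_num, h⟩,
      .inr ⟨3, by norm_num, h⟩, .inr ⟨2, by norm_num, h⟩, .inr ⟨1, by norm_num, h⟩, .inr ⟨0, by norm_num, h⟩]
  · rintro (rfl | ⟨k, hk, h1, h2⟩)
    · simp
    · interval_cases k <;> simp [h1, h2]

/-- Pairs from a set with a given sum. -/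
def pairsTo (O : Finset (Fin 256)) (u : Fin 256) : ℕ := (O.filter fun v => mx v u ∈ O).card

/-- Triples from a set with a given sum. -/
def triplesTo (O : Finset (Fin 256)) (u : Fin 256) : ℕ := ∑ a ∈ O, pairsTo O (mx a u)

theorem pairsTo_eq {O : Finset (Fin 256)} {sub : ℕ} (hO : ∀ x, x ∈ O ↔ inS sub x = true) (u : Fin 256) :
    pairsTo O u = cntN 256 fun v => inS sub v && inS sub (Nat.xor v u) := by
  rw [cntN_eq, pairsTo]
  refine Finset.card_bij (fun v _ => (v : ℕ)) (fun v hv => ?_) (fun a _ b _ h => Fin.ext h) fun b hb => ?_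
  · rw [Finset.mem_filter] at hv ⊢
    exact ⟨Finset.mem_range.2 v.2, by rw [Bool.and_eq_true]; exact ⟨(hO v).1 hv.1, (hO _).1 hv.2⟩⟩
  · rw [Finset.mem_filter, Finset.mem_range, Bool.and_eq_true] at hb
    exact ⟨⟨b, hb.1⟩, Finset.mem_filter.2 ⟨(hO _).2 hb.2.1, (hO _).2 hb.2.2⟩, rfl⟩

theorem pairsTo_c2 {O : Finset (Fin 256)} {sub : ℕ} (hO : ∀ x, x ∈ O ↔ inS sub x = true) (u : Fin 256) :
    pairsTo O u = c2 sub u := by
  rw [pairsTo_eq hO, c2]

theorem triplesTo_c3 {O : Finset (Fin 256)} {sub : ℕ} (hO : ∀ x, x ∈ O ↔ inS sub x = true) (u : Fin 256) :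
    triplesTo O u = c3 sub u := by
  rw [c3, sumN_eq, Finset.sum_range (n := 256), triplesTo, ← Finset.sum_subset (Finset.subset_univ O) (fun a _ ha => ?_)]
  · refine Finset.sum_congr rfl fun a ha => ?_
    rw [(hO a).1 ha, cond_true, pairsTo_eq hO]
    refine congrArg (cntN 256) (funext fun b => congrArg₂ _ rfl (congrArg _ ?_))
    show b ^^^ ((a : ℕ) ^^^ (u : ℕ)) = ((a : ℕ) ^^^ b) ^^^ (u : ℕ)
    rw [← Nat.xor_assoc, Nat.xor_comm b]
  · rw [show inS sub a = false from Bool.eq_false_iff.2 fun h => ha ((hO a).2 h), cond_false]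

/-- Only three unions of classes can be orbits. -/
theorem orbit_cases (O : Finset (Fin 256)) (h255 : (255 : Fin 256) ∈ O) (hne : ∃ x ∈ O, x ≠ 255)
    (hcls : ∀ x ∈ O, x = 255 ∨ anyCls x = true)
    (hunion : ∀ k, k < 7 → ∀ x y : Fin 256, inCls k x = true → inCls k y = true → x ∈ O → y ∈ O)
    (h2 : ∀ x ∈ O, pairsTo O x = pairsTo O 255) (h3 : ∀ x ∈ O, triplesTo O x = triplesTo O 255) :
    ∃ sub, (sub = 1 ∨ sub = 32 ∨ sub = 35) ∧ ∀ x : Fin 256, x ∈ O ↔ inS sub x = true := by
  classical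
  obtain ⟨s, hs⟩ := exists_mask fun i : Fin 8 => (i : ℕ) < 7 ∧ repM i ∈ O
  have hbit : ∀ k, k < 7 → ((s : ℕ).testBit k = true ↔ repM k ∈ O) := fun k hk =>
    (hs ⟨k, by omega⟩).trans (and_iff_right hk)
  have hlt : (s : ℕ) < 128 := by
    by_contra hcon
    have h7 : (s : ℕ).testBit 7 = true := by
      rw [Nat.testBit_eq_decide_div_mod_eq, decide_eq_true_eq]
      have := s.2
      omega
    exact absurd ((hs ⟨7, by norm_num⟩).1 h7).1 (lt_irrefl 7)
  have hO : ∀ x, x ∈ O ↔ inS s x = true := fun x => by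
    rw [inS_iff]
    constructor
    · intro hx
      rcases hcls x hx with h | h
      · exact .inl h
      · obtain ⟨k, hk, hkx⟩ := anyCls_iff.1 h
        exact .inr ⟨k, hk, (hbit k hk).2 (hunion k hk x _ hkx (repM_cls hk) hx), hkx⟩
    · rintro (rfl | ⟨k, hk, hb, hkx⟩)
      · exact h255
      · exact hunion k hk _ x (repM_cls hk) hkx ((hbit k hk).1 hb)
  refine ⟨s, ?_, hO⟩
  have h := allBelow_eq_true.1 table_chk s hlt
  simp only [Bool.or_eq_true, Nat.beq_eq] at h
  rcases h with (((h | h) | h) | h) | h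
  · exfalso
    obtain ⟨x, hx, hx'⟩ := hne
    rcases inS_iff.1 ((hO x).1 hx) with e | ⟨k, -, hb, -⟩
    · exact hx' e
    · rw [h, Nat.zero_testBit] at hb; exact Bool.false_ne_true hb
  · exact .inl h
  · exact .inr (.inl h)
  · exact .inr (.inr h)
  · exfalso
    rw [Bool.not_eq_true', Bool.eq_false_iff] at h
    refine h (allBelow_eq_true.2 fun k hk => ?_)
    by_cases hb : (s : ℕ).testBit k = true
    · rw [hb, Bool.not_true, Bool.false_or, Bool.and_eq_true, Nat.beq_eq, Nat.beq_eq]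
      have hr : ((repM k : Fin 256) : ℕ) = clsReps.getD k 0 := by
        have := allBelow_eq_true.1 rep_lt k hk
        rw [Bool.and_eq_true, Nat.blt_eq] at this
        exact Nat.mod_eq_of_lt this.1
      have hm := (hbit k hk).1 hb
      rw [← hr]
      exact ⟨by rw [← pairsTo_c2 hO, h2 _ hm, pairsTo_c2 hO]; rfl, by rw [← triplesTo_c3 hO, h3 _ hm, triplesTo_c3 hO]; rfl⟩
    · simp [Bool.eq_false_iff.2 hb]

end Cfsg.Agent.StdO8
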