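import Cfsg.Agent.StdO8.Basic
import Cfsg.Agent.StdO8.Table

/-!
Elementary abelian groups indexed by masks, and the orbit of the central involution under their normalisers.
-/

set_option autoImplicit false
set_option maxRecDepth 100000
set_option linter.unusedSectionVars false

universe u

namespace Cfsg.Agent.StdO8

open Cfsg.Agent.Compute

variable {G : Type u} [Group G]

/-- An elementary abelian group indexed by masks. -/
structure Sys (S : Ctx G) where
  /-- the masks used -/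
  P : Fin 256 → Prop
  /-- the elements -/
  ψ : Fin 256 → G
  full_mem : P 255
  mx_mem : ∀ a b, P a → P b → P (mx a b)
  map_mx : ∀ a b, P a → P b → ψ (mx a b) = ψ a * ψ b
  inj : ∀ a b, P a → P b → ψ a = ψ b → a = b
  full : ψ 255 = S.z

namespace Sys

variable {S : Ctx G} (B : Sys S)

theorem zero_mem : B.P 0 := mx_self 255 ▸ B.mx_mem _ _ B.full_mem B.full_mem

theorem map_zero : B.ψ 0 = 1 := by
  have h := B.map_mx 0 0 B.zero_mem B.zero_mem
  rw [mx_self] at h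
  exact mul_left_cancel (h.symm.trans (mul_one _).symm)

theorem map_sq {a : Fin 256} (ha : B.P a) : B.ψ a * B.ψ a = 1 := by
  rw [← B.map_mx a a ha ha, mx_self, B.map_zero]

theorem map_comm {a b : Fin 256} (ha : B.P a) (hb : B.P b) : B.ψ a * B.ψ b = B.ψ b * B.ψ a := by
  rw [← B.map_mx a b ha hb, mx_comm, B.map_mx b a hb ha]

/-- The group. -/
def group : Subgroup G where
  carrier := {x | ∃ a, B.P a ∧ B.ψ a = x}
  one_mem' := ⟨0, B.zero_mem, B.map_zero⟩
  mul_mem' := by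
    rintro _ _ ⟨a, ha, rfl⟩ ⟨b, hb, rfl⟩
    exact ⟨mx a b, B.mx_mem a b ha hb, B.map_mx a b ha hb⟩
  inv_mem' := by
    rintro _ ⟨a, ha, rfl⟩
    exact ⟨a, ha, (inv_eq_of_mul_eq_one_right (B.map_sq ha)).symm⟩

theorem mem_group {x : G} : x ∈ B.group ↔ ∃ a, B.P a ∧ B.ψ a = x := Iff.rfl

theorem z_mem : S.z ∈ B.group := ⟨255, B.full_mem, B.full⟩

/-- Normalising the group. -/
def Nrm (n : G) : Prop := ∀ x ∈ B.group, n * x * n⁻¹ ∈ B.group

variable {B}

theorem Nrm.mul {n m : G} (hn : B.Nrm n) (hm : B.Nrm m) : B.Nrm (n * m) := fun x hx => by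
  rw [show n * m * x * (n * m)⁻¹ = n * (m * x * m⁻¹) * n⁻¹ by group]
  exact hn _ (hm x hx)

theorem nrm_one : B.Nrm 1 := fun x hx => by simpa using hx

theorem Nrm.inv [Finite G] {n : G} (hn : B.Nrm n) : B.Nrm n⁻¹ := by
  have hp : ∀ k : ℕ, B.Nrm (n ^ k) := fun k => by
    induction k with
    | zero => rw [pow_zero]; exact nrm_one
    | succ k ih => rw [pow_succ]; exact ih.mul hn
  have h := hp (orderOf n - 1)
  rwa [show n ^ (orderOf n - 1) = n⁻¹ from eq_inv_of_mul_eq_one_left (by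
    rw [← pow_succ, Nat.sub_add_cancel (orderOf_pos n), pow_orderOf_eq_one])] at h

variable (B)

/-- The orbit of the central involution. -/
noncomputable def orb : Finset (Fin 256) :=
  @Finset.filter _ (fun a => B.P a ∧ ∃ n, B.Nrm n ∧ n * S.z * n⁻¹ = B.ψ a) (Classical.decPred _) Finset.univ

theorem mem_orb {a : Fin 256} : a ∈ B.orb ↔ B.P a ∧ ∃ n, B.Nrm n ∧ n * S.z * n⁻¹ = B.ψ a := by
  simp [orb]

theorem full_orb : 255 ∈ B.orb := B.mem_orb.2 ⟨B.full_mem, 1, nrm_one, by simp [B.full]⟩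

theorem zero_orb : (0 : Fin 256) ∉ B.orb := fun h => by
  obtain ⟨-, n, -, hn⟩ := B.mem_orb.1 h
  rw [B.map_zero, mul_inv_eq_one] at hn
  exact S.z_ne (mul_left_cancel (hn.trans (mul_one n).symm))

theorem orb_conj {a : Fin 256} (h : a ∈ B.orb) : IsConj S.z (B.ψ a) :=
  isConj_iff.2 ((B.mem_orb.1 h).2.imp fun _ hn => hn.2)

/-- The action of a normalising element on the masks. -/
noncomputable def act (n : G) (a : Fin 256) : Fin 256 :=
  @dite _ (∃ b, B.P b ∧ n * B.ψ a * n⁻¹ = B.ψ b) (Classical.dec _) (fun h => h.choose) fun _ => a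

variable {B}

theorem act_spec {n : G} (hn : B.Nrm n) {a : Fin 256} (ha : B.P a) :
    B.P (B.act n a) ∧ n * B.ψ a * n⁻¹ = B.ψ (B.act n a) := by
  have h : ∃ b, B.P b ∧ n * B.ψ a * n⁻¹ = B.ψ b := by
    obtain ⟨b, hb, e⟩ := hn _ ⟨a, ha, rfl⟩
    exact ⟨b, hb, e.symm⟩
  rw [act, dif_pos h]
  exact h.choose_spec

theorem act_eq {n : G} (hn : B.Nrm n) {a b : Fin 256} (ha : B.P a) (hb : B.P b)
    (h : n * B.ψ a * n⁻¹ = B.ψ b) : B.act n a = b :=
  B.inj _ _ (act_spec hn ha).1 hb ((act_spec hn ha).2.symm.trans h)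

theorem act_mx {n : G} (hn : B.Nrm n) {a b : Fin 256} (ha : B.P a) (hb : B.P b) :
    B.act n (mx a b) = mx (B.act n a) (B.act n b) :=
  act_eq hn (B.mx_mem _ _ ha hb) (B.mx_mem _ _ (act_spec hn ha).1 (act_spec hn hb).1) (by
    rw [B.map_mx _ _ ha hb, B.map_mx _ _ (act_spec hn ha).1 (act_spec hn hb).1, ← (act_spec hn ha).2,
      ← (act_spec hn hb).2]
    group)

theorem act_inv [Finite G] {n : G} (hn : B.Nrm n) {a : Fin 256} (ha : B.P a) : B.act n⁻¹ (B.act n a) = a :=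
  act_eq hn.inv (act_spec hn ha).1 ha (by rw [← (act_spec hn ha).2]; group)

theorem act_orb {n : G} (hn : B.Nrm n) {a : Fin 256} (ha : a ∈ B.orb) : B.act n a ∈ B.orb := by
  obtain ⟨hP, m, hm, e⟩ := B.mem_orb.1 ha
  exact B.mem_orb.2 ⟨(act_spec hn hP).1, n * m, hn.mul hm, by rw [← (act_spec hn hP).2, ← e]; group⟩

theorem act_orb_iff [Finite G] {n : G} (hn : B.Nrm n) {a : Fin 256} (ha : B.P a) :
    B.act n a ∈ B.orb ↔ a ∈ B.orb :=
  ⟨fun h => act_inv hn ha ▸ act_orb hn.inv h, act_orb hn⟩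

theorem act_inv' [Finite G] {n : G} (hn : B.Nrm n) {a : Fin 256} (ha : B.P a) : B.act n (B.act n⁻¹ a) = a :=
  act_eq hn (act_spec hn.inv ha).1 ha (by rw [← (act_spec hn.inv ha).2]; group)

theorem pairs_act [Finite G] {n : G} (hn : B.Nrm n) {x : Fin 256} (hx : B.P x) :
    pairsTo B.orb (B.act n x) = pairsTo B.orb x := by
  have hP : ∀ {a}, a ∈ B.orb → B.P a := fun h => (B.mem_orb.1 h).1
  refine (Finset.card_bij (fun a _ => B.act n a) (fun a ha => ?_) (fun a ha b hb e => ?_) fun b hb => ?_).symm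
  · rw [Finset.mem_filter] at ha ⊢
    exact ⟨act_orb hn ha.1, by rw [← act_mx hn (hP ha.1) hx]; exact act_orb hn ha.2⟩
  · rw [Finset.mem_filter] at ha hb
    rw [← act_inv hn (hP ha.1), e, act_inv hn (hP hb.1)]
  · rw [Finset.mem_filter] at hb
    refine ⟨B.act n⁻¹ b, Finset.mem_filter.2 ⟨act_orb hn.inv hb.1, ?_⟩, act_inv' hn (hP hb.1)⟩
    rw [← act_orb_iff hn (B.mx_mem _ _ (act_spec hn.inv (hP hb.1)).1 hx), act_mx hn (act_spec hn.inv (hP hb.1)).1 hx,
      act_inv' hn (hP hb.1)]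
    exact hb.2

variable (B)

theorem pairs_orb [Finite G] {x : Fin 256} (hx : x ∈ B.orb) : pairsTo B.orb x = pairsTo B.orb 255 := by
  obtain ⟨hP, n, hn, e⟩ := B.mem_orb.1 hx
  rw [← act_eq hn B.full_mem hP (by rw [B.full, e]), pairs_act hn B.full_mem]

theorem triples_orb [Finite G] {x : Fin 256} (hx : x ∈ B.orb) : triplesTo B.orb x = triplesTo B.orb 255 := by
  obtain ⟨hP, n, hn, e⟩ := B.mem_orb.1 hx
  rw [← act_eq hn B.full_mem hP (by rw [B.full, e]), triplesTo, triplesTo]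
  have hP' : ∀ {a}, a ∈ B.orb → B.P a := fun h => (B.mem_orb.1 h).1
  refine (Finset.sum_bij (fun a _ => B.act n a) (fun a ha => act_orb hn ha) (fun a ha b hb e => ?_) (fun b hb => ?_)
    fun a ha => ?_).symm
  · rw [← act_inv hn (hP' ha), e, act_inv hn (hP' hb)]
  · exact ⟨B.act n⁻¹ b, act_orb hn.inv hb, act_inv' hn (hP' hb)⟩
  · rw [← act_mx hn (hP' ha) B.full_mem, pairs_act hn (B.mx_mem _ _ (hP' ha) B.full_mem)]

/-- A normalising element moving the involution puts the orbit among three. -/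
theorem orb_cases [Finite G] {n : G} (hn : B.Nrm n) (hmove : n * S.z * n⁻¹ ≠ S.z)
    (hcls : ∀ x ∈ B.orb, x = 255 ∨ anyCls x = true)
    (hunion : ∀ k, k < 7 → ∀ x y : Fin 256, inCls k x = true → inCls k y = true → x ∈ B.orb → y ∈ B.orb) :
    ∃ sub, (sub = 1 ∨ sub = 32 ∨ sub = 35) ∧ ∀ x : Fin 256, x ∈ B.orb ↔ inS sub x = true := by
  refine orbit_cases _ B.full_orb ⟨B.act n 255, act_orb hn B.full_orb, fun h => hmove ?_⟩ hcls hunion
    (fun x hx => B.pairs_orb hx) fun x hx => B.triples_orb hx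
  rw [← B.full, (act_spec hn B.full_mem).2, h]

end Sys

end Cfsg.Agent.StdO8
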